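import Mathlib

/-!
# Fixed sets in groups of small fixity

General facts on the fixed sets of elements, the stabiliser of such a set and its action on it.
-/

set_option autoImplicit false
set_option linter.style.haveILetI false
set_option linter.unusedSectionVars false

namespace Cfsg.Agent.FixityFour

open Subgroup MulAction
open scoped Pointwise

variable {G Ω : Type*} [Group G] [MulAction G Ω]

/-- The fixed set of a conjugate. -/
theorem fix_conj (x g : G) : fixedBy Ω (g * x * g⁻¹) = g • fixedBy Ω x := (smul_fixedBy Ω x g).symm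

theorem smul_fix {c x : G} (h : Commute c x) : c • fixedBy Ω x = fixedBy Ω x := by
  rw [← fix_conj, h.eq, mul_inv_cancel_right]

theorem mem_stab_fix {c x : G} (h : Commute c x) : c ∈ stabilizer G (fixedBy Ω x) :=
  mem_stabilizer_iff.2 (smul_fix h)

theorem smul_mem_of_mem {F : Set Ω} {c : G} (hc : c ∈ stabilizer G F) {a : Ω} (ha : a ∈ F) : c • a ∈ F := by
  exact (mem_stabilizer_iff.1 hc).subset (Set.smul_mem_smul_set ha)

theorem fix_subset_pow (g : G) (k : ℕ) : fixedBy Ω g ⊆ fixedBy Ω (g ^ k) := fun a ha => by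
  induction k with
  | zero => simp
  | succ k ih =>
    show g ^ (k + 1) • a = a
    rw [pow_succ, mul_smul, show g • a = a from ha]
    exact ih

theorem fix_inv (g : G) : fixedBy Ω g⁻¹ = fixedBy Ω g := fixedBy_inv Ω g

theorem mem_fixing {F : Set Ω} {g : G} : g ∈ fixingSubgroup G F ↔ ∀ a ∈ F, g • a = a :=
  mem_fixingSubgroup_iff G

theorem fixing_le_stab {F : Set Ω} {g : G} (hg : g ∈ fixingSubgroup G F) : g ∈ stabilizer G F := by
  refine mem_stabilizer_iff.2 (Set.ext fun a => ?_)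
  rw [Set.mem_smul_set_iff_inv_smul_mem]
  have hi := mem_fixing.1 (inv_mem hg)
  constructor
  · intro h
    have := mem_fixing.1 hg _ h
    rw [smul_inv_smul] at this
    exact this ▸ h
  · intro h; rw [hi a h]; exact h

/-- The action of the stabiliser of `F` on `F`. -/
def permOn (F : Set Ω) : stabilizer G F →* Equiv.Perm F := MulAction.toPermHom _ _

theorem permOn_apply {F : Set Ω} {g : G} (hg : g ∈ stabilizer G F) (a : F) :
    (permOn F ⟨g, hg⟩ a : Ω) = g • (a : Ω) := rfl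

theorem permOn_eq_one {F : Set Ω} {g : G} (hg : g ∈ stabilizer G F) :
    permOn F ⟨g, hg⟩ = 1 ↔ g ∈ fixingSubgroup G F := by
  rw [mem_fixing]
  constructor
  · intro h a ha
    exact congrArg Subtype.val (Equiv.congr_fun h ⟨a, ha⟩)
  · intro h
    exact Equiv.ext fun a => Subtype.ext (h a a.2)

theorem permOn_ker (F : Set Ω) : (permOn F).ker = (fixingSubgroup G F).subgroupOf (stabilizer G F) := by
  ext ⟨g, hg⟩
  rw [MonoidHom.mem_ker, mem_subgroupOf]
  exact permOn_eq_one hg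

/-- A subgroup stabilising `F` splits into its kernel on `F` and a group of permutations of `F`. -/
theorem exists_image (C : Subgroup G) {F : Set Ω} (hC : C ≤ stabilizer G F) :
    ∃ I : Subgroup (Equiv.Perm F), Nat.card C = Nat.card ↥(C ⊓ fixingSubgroup G F) * Nat.card I ∧
      (∀ q : Equiv.Perm F, q ∈ I ↔ ∃ (g : G) (hg : g ∈ C), permOn F ⟨g, hC hg⟩ = q) := by
  refine ⟨((permOn F).comp (inclusion hC)).range, ?_, fun q => ?_⟩
  · rw [← index_ker, ← card_mul_index ((permOn F).comp (inclusion hC)).ker]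
    congr 1
    refine Nat.card_congr
      { toFun := fun g => ⟨(g : C), (g : C).2, (permOn_eq_one (hC (g : C).2)).1 g.2⟩
        invFun := fun g => ⟨⟨g, g.2.1⟩, (permOn_eq_one (hC g.2.1)).2 g.2.2⟩
        left_inv := fun g => rfl
        right_inv := fun g => rfl }
  · constructor
    · rintro ⟨⟨g, hg⟩, rfl⟩; exact ⟨g, hg, rfl⟩
    · rintro ⟨g, hg, rfl⟩; exact ⟨⟨g, hg⟩, rfl⟩

/-- A group of permutations of `p`-power order has order dividing the factorial. -/
theorem card_dvd_factorial {p : ℕ} [Fact p.Prime] {α : Type*} [Finite α] (I : Subgroup (Equiv.Perm α))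
    (hI : IsPGroup p I) : ∃ k, Nat.card I = p ^ k ∧ p ^ k ∣ (Nat.card α).factorial := by
  obtain ⟨k, hk⟩ := IsPGroup.iff_card.1 hI
  exact ⟨k, hk, by rw [← hk, ← Nat.card_perm]; exact card_subgroup_dvd_card I⟩

theorem image_le {p : ℕ} [Fact p.Prime] [Finite G] (C : Subgroup G) (hp : IsPGroup p C) {F : Set Ω}
    (hC : C ≤ stabilizer G F) [Finite F] :
    ∃ k, Nat.card C = Nat.card ↥(C ⊓ fixingSubgroup G F) * p ^ k ∧ p ^ k ∣ F.ncard.factorial := by
  obtain ⟨I, hI, hImem⟩ := exists_image C hC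
  have hIp : IsPGroup p I := by
    intro ⟨q, hq⟩
    obtain ⟨g, hg, rfl⟩ := (hImem q).1 hq
    obtain ⟨k, hk⟩ := hp ⟨g, hg⟩
    refine ⟨k, Subtype.ext ?_⟩
    have : g ^ p ^ k = 1 := congrArg Subtype.val hk
    show permOn F ⟨g, hC hg⟩ ^ p ^ k = 1
    rw [← map_pow]
    convert map_one (permOn F)
    exact Subtype.ext this
  obtain ⟨k, hk, hd⟩ := card_dvd_factorial I hIp
  exact ⟨k, by rw [hI, hk], by simpa [Nat.card_coe_set_eq] using hd⟩

/-- A subgroup moving a point freely inside a finite set has at most as many elements. -/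
theorem card_le_of_free {B : Set Ω} (hBf : B.Finite) (K : Subgroup G) {a : Ω}
    (hB : ∀ k ∈ K, k • a ∈ B) (hfree : ∀ k ∈ K, k • a = a → k = 1) : Nat.card K ≤ B.ncard := by
  haveI := hBf.to_subtype
  rw [← Nat.card_coe_set_eq]
  refine Nat.card_le_card_of_injective (fun k : K => (⟨(k : G) • a, hB k k.2⟩ : B)) fun k l h => ?_
  have h' : (k : G) • a = (l : G) • a := congrArg Subtype.val h
  refine Subtype.ext (inv_mul_eq_one.1 (hfree ((l : G)⁻¹ * k) (mul_mem (inv_mem l.2) k.2) ?_)).symm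
  rw [mul_smul, h', inv_smul_smul]

/-- Some power of a non-trivial `p`-element has order `p`. -/
theorem exists_pow_orderOf {p : ℕ} [Fact p.Prime] {K : Subgroup G} (hK : IsPGroup p K) {g : G} (hg : g ∈ K)
    (hg1 : g ≠ 1) : ∃ k, orderOf (g ^ k) = p := by
  obtain ⟨n, hn⟩ := IsPGroup.iff_orderOf.1 hK ⟨g, hg⟩
  rw [Subgroup.orderOf_mk] at hn
  have hn0 : n ≠ 0 := fun h => hg1 (orderOf_eq_one_iff.1 (by rw [hn, h, pow_zero]))
  refine ⟨p ^ (n - 1), ?_⟩
  have hp : p.Prime := Fact.out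
  rw [orderOf_pow' _ (pow_ne_zero _ hp.ne_zero), hn, Nat.gcd_eq_right (pow_dvd_pow p (Nat.sub_le n 1)),
    Nat.pow_div (Nat.sub_le n 1) hp.pos, show n - (n - 1) = 1 by omega, pow_one]

/-- In a `p`-group, a non-trivial normal subgroup contains a central element of order `p`. -/
theorem exists_central {p : ℕ} [Fact p.Prime] [Finite G] {R N : Subgroup G} (hR : IsPGroup p R) (hN : N ≤ R)
    (hn : ∀ r ∈ R, ∀ x ∈ N, r * x * r⁻¹ ∈ N) (h1 : N ≠ ⊥) :
    ∃ z ∈ N, orderOf z = p ∧ ∀ r ∈ R, Commute r z := by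
  haveI : (N.subgroupOf R).Normal := ⟨fun x hx r => mem_subgroupOf.2 (hn r r.2 x hx)⟩
  obtain ⟨x, hxN, hx1⟩ : ∃ x ∈ N, x ≠ 1 := by
    by_contra h
    push Not at h
    exact h1 ((Subgroup.eq_bot_iff_forall N).2 h)
  have hp : p.Prime := Fact.out
  have hd : p ∣ Nat.card (N.subgroupOf R) := by
    obtain ⟨k, hk⟩ := exists_pow_orderOf (hR.to_le hN) hxN hx1
    rw [Nat.card_congr (subgroupOfEquivOfLe hN).toEquiv]
    have := orderOf_dvd_natCard (⟨x ^ k, pow_mem hxN k⟩ : N)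
    rwa [Subgroup.orderOf_mk, hk] at this
  -- conjugation has more than one fixed element
  letI : MulAction R (N.subgroupOf R) :=
    MulAction.compHom _ (MulAut.conjNormal : R →* MulAut (N.subgroupOf R))
  have h1f : (1 : N.subgroupOf R) ∈ fixedPoints R (N.subgroupOf R) := fun r => map_one (MulAut.conjNormal r)
  obtain ⟨⟨⟨y, hyR⟩, hyN⟩, hy, hy1⟩ :=
    hR.exists_fixed_point_of_prime_dvd_card_of_fixed_point (N.subgroupOf R) hd h1f
  have hyc : ∀ r ∈ R, Commute r y := fun r hr => by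
    have h := congrArg (fun t : N.subgroupOf R => ((t : R) : G)) (hy ⟨r, hr⟩)
    exact mul_inv_eq_iff_eq_mul.1 h
  have hy1' : y ≠ 1 := fun h => hy1 (Subtype.ext (Subtype.ext h.symm))
  obtain ⟨k, hk⟩ := exists_pow_orderOf hR hyR hy1'
  exact ⟨y ^ k, pow_mem hyN k, hk, fun r hr => (hyc r hr).pow_right k⟩

/-- A normaliser element outside a proper subgroup of a `p`-group. -/
theorem exists_normalizing {p : ℕ} [Fact p.Prime] [Finite G] {S R : Subgroup G} (hS : IsPGroup p S)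
    (hRS : R ≤ S) (hne : R ≠ S) :
    ∃ g ∈ S, g ∉ R ∧ (∀ r ∈ R, g * r * g⁻¹ ∈ R) ∧ (∀ r ∈ R, g⁻¹ * r * g ∈ R) := by
  haveI := hS.isNilpotent
  have hlt : R.subgroupOf S < ⊤ := lt_top_iff_ne_top.2 fun h =>
    hne (le_antisymm hRS (subgroupOf_eq_top.1 h))
  obtain ⟨⟨g, hgS⟩, hgN, hg⟩ := SetLike.exists_of_lt (Group.normalizerCondition_of_isNilpotent _ hlt)
  have h1 : ∀ g' : S, g' ∈ normalizer ((R.subgroupOf S : Subgroup S) : Set S) →
      ∀ r ∈ R, (g' : G) * r * (g' : G)⁻¹ ∈ R := fun g' h r hr =>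
    mem_subgroupOf.1 ((mem_normalizer_iff.1 h ⟨r, hRS hr⟩).1 hr)
  exact ⟨g, hgS, fun h => hg h, h1 _ hgN, fun r hr => by
    simpa using h1 _ (inv_mem hgN) r hr⟩

/-- A `p`-subgroup of `M` is moved by `M` into a Sylow subgroup of `G` inside `M`. -/
theorem conj_into {p : ℕ} [Fact p.Prime] [Finite G] (S : Sylow p G) {M P : Subgroup G}
    (hSM : (S : Subgroup G) ≤ M) (hPM : P ≤ M) (hP : IsPGroup p P) :
    ∃ m ∈ M, ∀ y ∈ P, m * y * m⁻¹ ∈ (S : Subgroup G) := by
  obtain ⟨Q, hQ⟩ := (hP.comap_of_injective M.subtype M.subtype_injective :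
    IsPGroup p (P.subgroupOf M)).exists_le_sylow
  obtain ⟨⟨m, hm⟩, hmQ⟩ := MulAction.exists_smul_eq M Q (S.subtype hSM)
  refine ⟨m, hm, fun y hy => ?_⟩
  have h1 : (⟨m, hm⟩ : M) * ⟨y, hPM hy⟩ * (⟨m, hm⟩ : M)⁻¹ ∈ (S.subtype hSM : Subgroup M) := by
    rw [← hmQ]
    exact ⟨⟨y, hPM hy⟩, hQ hy, rfl⟩
  exact h1

theorem commute_of_sq {E : Subgroup G} (h : ∀ e ∈ E, e * e = 1) {a b : G} (ha : a ∈ E) (hb : b ∈ E) :
    Commute a b := by
  have hi : ∀ x ∈ E, x⁻¹ = x := fun x hx => inv_eq_of_mul_eq_one_right (h x hx)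
  show a * b = b * a
  conv_lhs => rw [← hi _ (mul_mem ha hb), mul_inv_rev, hi a ha, hi b hb]

/-- The four-group on two commuting involutions. -/
theorem exists_four {a b : G} (ha : a * a = 1) (hb : b * b = 1) (hab : Commute a b) (ha1 : a ≠ 1) (hb1 : b ≠ 1)
    (hne : a ≠ b) : ∃ V : Subgroup G, Nat.card V = 4 ∧ (∀ v ∈ V, v * v = 1) ∧ a ∈ V ∧ b ∈ V ∧
      ∀ v ∈ V, v = 1 ∨ v = a ∨ v = b ∨ v = a * b := by
  have e2 : ∀ c, a * (a * c) = c := fun c => by rw [← mul_assoc, ha, one_mul]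
  have e4 : ∀ c, b * (b * c) = c := fun c => by rw [← mul_assoc, hb, one_mul]
  have e1 : b * a = a * b := hab.eq.symm
  have e3 : ∀ c, b * (a * c) = a * (b * c) := fun c => by rw [← mul_assoc, e1, mul_assoc]
  let V : Subgroup G :=
    { carrier := {v | v = 1 ∨ v = a ∨ v = b ∨ v = a * b}
      one_mem' := Or.inl rfl
      mul_mem' := by
        rintro _ _ (rfl | rfl | rfl | rfl) (rfl | rfl | rfl | rfl) <;>
          simp [mul_assoc, ha, hb, e1, e2, e3, e4]
      inv_mem' := by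
        rintro _ (rfl | rfl | rfl | rfl) <;>
          simp [inv_eq_of_mul_eq_one_right ha, inv_eq_of_mul_eq_one_right hb, e1] }
  have h2 : ∀ v ∈ V, v * v = 1 := by
    rintro _ (rfl | rfl | rfl | rfl) <;> simp [mul_assoc, ha, hb, e3]
  refine ⟨V, ?_, h2, Or.inr (Or.inl rfl), Or.inr (Or.inr (Or.inl rfl)), fun v hv => hv⟩
  have d1 : a * b ≠ 1 := fun h => hne (mul_eq_one_iff_eq_inv.1 h |>.trans (inv_eq_of_mul_eq_one_right hb))
  have hV : (V : Set G) = {1, a, b, a * b} := by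
    ext u
    show (u = 1 ∨ u = a ∨ u = b ∨ u = a * b) ↔ _
    simp
  rw [← SetLike.coe_sort_coe, Nat.card_coe_set_eq, hV,
    Set.ncard_insert_of_notMem (by simp [ha1.symm, hb1.symm, d1.symm]),
    Set.ncard_insert_of_notMem (by simp [hne, hb1]), Set.ncard_pair (by simp [ha1])]

/-- Elements with the same fixed set that are conjugate: the conjugating element stabilises it. -/
theorem mem_stab_of_conj {u g : G} {F : Set Ω} (hu : fixedBy Ω u = F) (hv : fixedBy Ω (g * u * g⁻¹) = F) :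
    g ∈ stabilizer G F := by
  rw [fix_conj, hu] at hv
  exact mem_stabilizer_iff.2 hv

variable [IsPretransitive G Ω]

theorem stab_ne_top {F : Set Ω} (h0 : F.Nonempty) (h1 : F ≠ Set.univ) : stabilizer G F ≠ ⊤ := by
  obtain ⟨a, ha⟩ := h0
  obtain ⟨b, hb⟩ := (Set.ne_univ_iff_exists_notMem F).1 h1
  obtain ⟨g, rfl⟩ := exists_smul_eq G a b
  exact fun h => hb (smul_mem_of_mem (h ▸ mem_top g) ha)

theorem fix_ne_univ [FaithfulSMul G Ω] {u : G} (hu : u ≠ 1) : fixedBy Ω u ≠ Set.univ := fun h =>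
  hu (eq_of_smul_eq_smul (α := Ω) fun a => by
    rw [one_smul]; exact (h ▸ Set.mem_univ a : a ∈ fixedBy Ω u))

end Cfsg.Agent.FixityFour
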