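import Mathlib
import Cfsg.Prelude.Def_CaseTheorems
import Cfsg.Agent.S0501
import Cfsg.Agent.S1232
import Cfsg.Agent.Lib.FixityFour.Shape

/-!
# Criteria for sectional two-rank at most four
-/

set_option autoImplicit false
set_option linter.style.haveILetI false
set_option linter.unusedSectionVars false

namespace Cfsg.Agent.FixityFour

open Subgroup

variable {G : Type*} [Group G] [Finite G]

/-- All elementary abelian sections of `S` have order at most sixteen. -/
def Sec (S : Subgroup G) : Prop :=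
  ∀ H : Subgroup G, H ≤ S → ∀ N : Subgroup G, N ≤ H → (∀ h ∈ H, h * h ∈ N) → N.relIndex H ≤ 16

theorem comm_mem {H N : Subgroup G} (hsq : ∀ h ∈ H, h * h ∈ N) {a b : G} (ha : a ∈ H) (hb : b ∈ H) :
    a * b * a⁻¹ * b⁻¹ ∈ N := by
  rw [show a * b * a⁻¹ * b⁻¹ = (a * a) * ((a⁻¹ * b) * (a⁻¹ * b)) * (b⁻¹ * b⁻¹) by group]
  exact mul_mem (mul_mem (hsq a ha) (hsq _ (mul_mem (inv_mem ha) hb))) (hsq _ (inv_mem hb))

theorem normal_of_squares {H N : Subgroup G} (hN : N ≤ H) (hsq : ∀ h ∈ H, h * h ∈ N) :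
    (N.subgroupOf H).Normal := ⟨fun n hn g => by
  rw [mem_subgroupOf] at hn ⊢
  have := mul_mem (comm_mem hsq g.2 (hN hn)) hn
  rwa [inv_mul_cancel_right] at this⟩

theorem sec_of_rank {S : Subgroup G} (h : Cfsg.SectionalPRankLE 2 4 S) : Sec S := by
  intro H hH N hN hsq
  let H' : Subgroup S := H.subgroupOf S
  let N' : Subgroup H' := (N.subgroupOf S).subgroupOf H'
  haveI : N'.Normal := ⟨fun n hn g => by
    have h1 : ((n : S) : G) ∈ N := hn
    have := mul_mem (comm_mem hsq (show ((g : S) : G) ∈ H from g.2) (hN h1)) h1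
    rwa [inv_mul_cancel_right] at this⟩
  have hexp : ∀ a : H' ⧸ N', a * a = 1 := fun a => by
    obtain ⟨d, rfl⟩ := QuotientGroup.mk_surjective a
    rw [← QuotientGroup.mk_mul, QuotientGroup.eq_one_iff]
    exact hsq _ d.2
  have hinv : ∀ c : H' ⧸ N', c⁻¹ = c := fun c => inv_eq_of_mul_eq_one_right (hexp c)
  have hcomm : IsMulCommutative (⊤ : Subgroup (H' ⧸ N')) := ⟨⟨fun a b => Subtype.ext (by
    show (a : H' ⧸ N') * b = b * a
    conv_lhs => rw [← hinv ((a : H' ⧸ N') * b), mul_inv_rev, hinv, hinv])⟩⟩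
  have h16 := h H' N' ⊤ hcomm fun a _ => by rw [pow_two]; exact hexp a
  rw [card_top, ← index_eq_card] at h16
  calc N.relIndex H = (N.subgroupOf S).relIndex H' := (relIndex_subgroupOf hH).symm
    _ ≤ 16 := h16

theorem rank_of_sec (S : Sylow 2 G) (h : Sec (S : Subgroup G)) : Cfsg.SectionalPRankLE 2 4 G := by
  intro H N _ A hA hA2
  haveI : Fact (Nat.Prime 2) := ⟨Nat.prime_two⟩
  set L : Subgroup H := A.comap (QuotientGroup.mk' N) with hL
  have hAp : IsPGroup 2 A := fun a => ⟨1, Subtype.ext (hA2 a a.2)⟩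
  obtain ⟨T⟩ : Nonempty (Sylow 2 L) := inferInstance
  let f : L →* A := ((QuotientGroup.mk' N).comp L.subtype).codRestrict A fun x => x.2
  have hf : Function.Surjective f := fun a => by
    obtain ⟨x, hx⟩ := QuotientGroup.mk'_surjective N (a : H ⧸ N)
    exact ⟨⟨x, show QuotientGroup.mk' N x ∈ A by rw [hx]; exact a.2⟩, Subtype.ext hx⟩
  have hTA : (T : Subgroup L).map f = ⊤ := by
    exact ((Sylow.mapSurjective hf T).is_maximal' (IsPGroup.to_subgroup hAp ⊤) le_top).symm
  -- move the two-group into `S`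
  let φ : L →* G := H.subtype.comp L.subtype
  obtain ⟨g, -, hg⟩ := conj_into S (M := ⊤) le_top (le_top : (T : Subgroup L).map φ ≤ ⊤) (T.isPGroup'.map _)
  let ψ : (T : Subgroup L) →* G := (MulAut.conj g).toMonoidHom.comp (φ.comp (T : Subgroup L).subtype)
  have hψ : Function.Injective ψ := fun a b hab =>
    Subtype.ext (Subtype.ext (Subtype.ext ((MulAut.conj g).injective hab)))
  let fT : (T : Subgroup L) →* A := f.comp (T : Subgroup L).subtype
  have hfT : Function.Surjective fT := fun a => by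
    obtain ⟨t, ht, rfl⟩ := (hTA.symm ▸ mem_top a : a ∈ (T : Subgroup L).map f)
    exact ⟨⟨t, ht⟩, rfl⟩
  have h16 := h ψ.range (by rintro _ ⟨t, rfl⟩; exact hg _ ⟨t, t.2, rfl⟩) (fT.ker.map ψ)
    (map_le_range ψ _) (by
      rintro _ ⟨t, rfl⟩
      exact ⟨t * t, MonoidHom.mem_ker.2 (by
        rw [map_mul, ← pow_two]
        exact Subtype.ext (hA2 _ (fT t).2)), map_mul _ _ _⟩)
  rw [MonoidHom.range_eq_map, relIndex_map_map_of_injective _ _ hψ, relIndex_top_right, index_ker,
    MonoidHom.range_eq_top.2 hfT, card_top] at h16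
  exact h16

theorem relIndex_le_card {H N : Subgroup G} : N.relIndex H ≤ Nat.card H := by
  rw [relIndex]
  exact Nat.le_of_dvd Nat.card_pos (index_dvd_card _)

/-- An elementary section is no larger than the centraliser of any of its elements. -/
theorem relIndex_le_centralizer {H N : Subgroup G} (hN : N ≤ H) (hsq : ∀ h ∈ H, h * h ∈ N) {h : G}
    (hh : h ∈ H) : N.relIndex H ≤ Nat.card ↥(H ⊓ centralizer ({h} : Set G)) := by
  classical
  have := normal_of_squares hN hsq
  set C := H ⊓ centralizer ({h} : Set G) with hC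
  let f : H ⧸ C.subgroupOf H → N := Quotient.lift (fun k => ⟨k * h * (k : G)⁻¹ * h⁻¹, comm_mem hsq k.2 hh⟩)
    fun a b hab => by
      have hab' := QuotientGroup.leftRel_apply.1 hab
      rw [mem_subgroupOf] at hab'
      have hc := (mem_centralizer_singleton_iff.1 hab'.2)
      refine Subtype.ext ?_
      show (a : G) * h * (a : G)⁻¹ * h⁻¹ = (b : G) * h * (b : G)⁻¹ * h⁻¹
      have : ((a⁻¹ * b : H) : G) * h * ((a⁻¹ * b : H) : G)⁻¹ = h := by
        rw [hc, mul_inv_cancel_right]
      conv_lhs => enter [1, 1, 2]; rw [← this]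
      simp only [coe_mul, coe_inv]
      group
  have hf : Function.Injective f := by
    rintro ⟨a⟩ ⟨b⟩ hab
    have hab' : (a : G) * h * (a : G)⁻¹ * h⁻¹ = (b : G) * h * (b : G)⁻¹ * h⁻¹ := congrArg Subtype.val hab
    refine Quot.sound (QuotientGroup.leftRel_apply.2 (mem_subgroupOf.2 ⟨(a⁻¹ * b).2, ?_⟩))
    refine mem_centralizer_singleton_iff.2 ?_
    simp only [coe_mul, coe_inv]
    have e := mul_right_cancel hab'
    calc (a : G)⁻¹ * b * h = (a : G)⁻¹ * ((b : G) * h * (b : G)⁻¹) * b := by group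
      _ = (a : G)⁻¹ * ((a : G) * h * (a : G)⁻¹) * b := by rw [e]
      _ = h * ((a : G)⁻¹ * b) := by group
  have h1 := Nat.card_le_card_of_injective f hf
  have h2 : Nat.card H = C.relIndex H * Nat.card C := by
    rw [← relIndex_bot_left C, ← relIndex_bot_left H, mul_comm]
    exact (relIndex_mul_relIndex _ _ _ bot_le inf_le_left).symm
  have h3 : Nat.card H = Nat.card N * N.relIndex H := by
    rw [← relIndex_bot_left N, ← relIndex_bot_left H]
    exact (relIndex_mul_relIndex _ _ _ bot_le hN).symm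
  refine Nat.le_of_mul_le_mul_left ?_ (Nat.card_pos : 0 < Nat.card N)
  rw [← h3, h2]
  exact Nat.mul_le_mul_right _ h1

/-- A self-centralising elementary group of order eight. -/
theorem sec_of_eight {S E : Subgroup G} (hS : IsPGroup 2 S) (hES : E ≤ S) (hE2 : ∀ e ∈ E, e * e = 1)
    (hE8 : Nat.card E = 8) (hC : ∀ s ∈ S, (∀ e ∈ E, Commute s e) → s ∈ E) : Sec S := by
  refine sec_of_rank (S1232.result hS (E.subgroupOf S) ⟨⟨⟨fun a b => Subtype.ext (Subtype.ext ?_)⟩⟩, fun a ha => ?_⟩
    ((Nat.card_congr (subgroupOfEquivOfLe hES).toEquiv).trans hE8) (le_antisymm (fun s hs => ?_) fun s hs => ?_))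
  · exact commute_of_sq hE2 a.2 b.2
  · exact Subtype.ext (by rw [pow_two]; exact hE2 _ ha)
  · exact hC s s.2 fun e he => (congrArg Subtype.val (mem_centralizer_iff.1 hs ⟨e, hES he⟩ he)).symm
  · exact mem_centralizer_iff.2 fun e he => Subtype.ext (commute_of_sq hE2 he hs)

/-- A group with an elementary subgroup of order eight, or all normal elementary subgroups small. -/
theorem sec_of_normal {S : Subgroup G} (hS : IsPGroup 2 S)
    (h : ∀ A : Subgroup G, A ≤ S → (∀ a ∈ A, a * a = 1) → (∀ s ∈ S, ∀ a ∈ A, s * a * s⁻¹ ∈ A) →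
      Nat.card A ≤ 4) : Sec S := by
  refine sec_of_rank (S0501.result hS fun A hAn _ hA2 => ?_)
  have := h (A.map S.subtype) (map_subtype_le A) (by
    rintro _ ⟨a, ha, rfl⟩
    have := congrArg Subtype.val (hA2 a ha)
    rwa [pow_two] at this) (by
    rintro s hs _ ⟨a, ha, rfl⟩
    exact ⟨⟨s, hs⟩ * a * ⟨s, hs⟩⁻¹, hAn.conj_mem a ha _, rfl⟩)
  rwa [card_map_of_injective S.subtype_injective] at this

theorem two_pow_of_pgroup {A : Subgroup G} (hA : ∀ a ∈ A, a * a = 1) : ∃ k, Nat.card A = 2 ^ k := by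
  haveI : Fact (Nat.Prime 2) := ⟨Nat.prime_two⟩
  exact IsPGroup.iff_card.1 fun a => ⟨1, Subtype.ext (by simpa [pow_two] using hA a a.2)⟩

/-- An involution acting on an elementary group fixes at least the square root of it. -/
theorem card_le_fixed_sq {A : Subgroup G} (hA : ∀ a ∈ A, a * a = 1) {x : G} (hx : x * x = 1)
    (hn : ∀ a ∈ A, x * a * x⁻¹ ∈ A) :
    Nat.card A ≤ Nat.card ↥(A ⊓ centralizer ({x} : Set G)) * Nat.card ↥(A ⊓ centralizer ({x} : Set G)) := by
  classical
  set C := A ⊓ centralizer ({x} : Set G) with hC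
  have hxi : x⁻¹ = x := inv_eq_of_mul_eq_one_right hx
  let f : A →* A :=
    { toFun := fun a => ⟨a * (x * a * x⁻¹), mul_mem a.2 (hn a a.2)⟩
      map_one' := Subtype.ext (by simp)
      map_mul' := fun a b => Subtype.ext (by
        show (a : G) * b * (x * (a * b) * x⁻¹) = (a : G) * (x * a * x⁻¹) * ((b : G) * (x * b * x⁻¹))
        rw [show x * ((a : G) * b) * x⁻¹ = (x * a * x⁻¹) * (x * b * x⁻¹) by group]
        exact (commute_of_sq hA b.2 (hn a a.2)).mul_mul_mul_comm _ _) }
  have hk : f.ker ≤ C.subgroupOf A := fun a ha => by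
    have h1 : (a : G) * (x * a * x⁻¹) = 1 := congrArg Subtype.val (MonoidHom.mem_ker.1 ha)
    refine mem_subgroupOf.2 ⟨a.2, mem_centralizer_singleton_iff.2 ?_⟩
    have h2 : x * (a : G) * x⁻¹ = a := (eq_inv_of_mul_eq_one_right h1).trans
      (inv_eq_of_mul_eq_one_right (hA a a.2))
    exact (mul_inv_eq_iff_eq_mul.1 h2).symm
  have hr : f.range ≤ C.subgroupOf A := by
    rintro _ ⟨a, rfl⟩
    refine mem_subgroupOf.2 ⟨(f a).2, mem_centralizer_singleton_iff.2 (mul_inv_eq_iff_eq_mul.1 ?_).symm⟩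
    show x * ((a : G) * (x * a * x⁻¹)) * x⁻¹ = (a : G) * (x * a * x⁻¹)
    conv_lhs => rw [(commute_of_sq hA a.2 (hn a a.2)).eq]
    calc x * (x * a * x⁻¹ * a) * x⁻¹ = (x * x) * a * x⁻¹ * a * x⁻¹ := by group
      _ = _ := by rw [hx, hxi, one_mul]; simp [mul_assoc]
  have e : Nat.card (C.subgroupOf A) = Nat.card C :=
    Nat.card_congr (subgroupOfEquivOfLe inf_le_left).toEquiv
  rw [← f.ker.card_mul_index, index_ker]
  exact Nat.mul_le_mul (e ▸ card_le_of_le hk) (e ▸ card_le_of_le hr)

/-- An involution with a centraliser of order at most eight. -/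
theorem sec_of_small {S : Subgroup G} (hS : IsPGroup 2 S) {x : G} (hxS : x ∈ S) (hx : x * x = 1)
    (hC : Nat.card ↥(S ⊓ centralizer ({x} : Set G)) ≤ 8) : Sec S := by
  classical
  set C := S ⊓ centralizer ({x} : Set G) with hCdef
  by_contra hsec
  refine hsec (sec_of_normal hS fun A hAS hA hAn => ?_)
  by_contra h4
  obtain ⟨k, hk⟩ := two_pow_of_pgroup hA
  have hk3 : 8 ≤ Nat.card A := by
    rcases Nat.lt_or_ge k 3 with h | h
    · interval_cases k <;> omega
    · rw [hk]; exact Nat.pow_le_pow_right (by norm_num : 0 < 2) h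
  set CA := A ⊓ centralizer ({x} : Set G) with hCA
  -- the group generated by `x` and its centraliser in `A`
  set B : Subgroup G := CA ⊔ zpowers x with hB
  have hBC : B ≤ C := sup_le (inf_le_inf_right _ hAS) (zpowers_le.2 ⟨hxS, mem_centralizer_singleton_iff.2 rfl⟩)
  have hcomm : ∀ b ∈ CA, Commute b x := fun b hb => mem_centralizer_singleton_iff.1 hb.2
  have hB2 : ∀ b ∈ B, b * b = 1 := by
    let K : Subgroup G :=
      { carrier := {b | ∃ a ∈ CA, b = a ∨ b = a * x}
        one_mem' := ⟨1, one_mem _, Or.inl rfl⟩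
        mul_mem' := by
          rintro c d ⟨a, ha, hc⟩ ⟨b, hb, hd⟩
          refine ⟨a * b, mul_mem ha hb, ?_⟩
          rcases hc with hc | hc <;> rcases hd with hd | hd <;> rw [hc, hd]
          · exact Or.inl rfl
          · exact Or.inr (mul_assoc _ _ _).symm
          · exact Or.inr (by rw [mul_assoc, ← (hcomm b hb).eq, mul_assoc])
          · exact Or.inl (by rw [mul_assoc a, ← mul_assoc x, ← (hcomm b hb).eq, mul_assoc b, hx, mul_one])
        inv_mem' := by
          rintro c ⟨a, ha, hc⟩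
          refine ⟨a⁻¹, inv_mem ha, ?_⟩
          rcases hc with hc | hc <;> rw [hc]
          · exact Or.inl rfl
          · exact Or.inr (by rw [mul_inv_rev, inv_eq_of_mul_eq_one_right hx, (hcomm _ (inv_mem ha)).eq]) }
    have hle : B ≤ K := sup_le (fun a ha => ⟨a, ha, Or.inl rfl⟩)
      (zpowers_le.2 ⟨1, one_mem _, Or.inr (one_mul x).symm⟩)
    intro b hb
    obtain ⟨a, ha, rfl | rfl⟩ := hle hb
    · exact hA _ ha.1
    · rw [(hcomm a ha).symm.mul_mul_mul_comm, hA a ha.1, hx, one_mul]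
  have h8 : 8 ≤ Nat.card B := by
    by_cases hxA : x ∈ A
    · refine hk3.trans (card_le_of_le fun a ha => mem_sup_left ⟨ha, ?_⟩)
      exact mem_centralizer_singleton_iff.2 (commute_of_sq hA ha hxA)
    · have hsq := card_le_fixed_sq hA hx (hAn x hxS)
      obtain ⟨j, hj⟩ := two_pow_of_pgroup (A := CA) fun a ha => hA a ha.1
      obtain ⟨i, hi⟩ := two_pow_of_pgroup hB2
      have hlt : Nat.card CA < Nat.card B := by
        refine lt_of_le_of_ne (card_le_of_le le_sup_left) fun e => hxA ?_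
        have hx' : x ∈ B := mem_sup_right (mem_zpowers x)
        rw [← eq_of_le_of_card_ge (show CA ≤ B from le_sup_left) e.ge] at hx'
        exact hx'.1
      rw [← hCA, hj] at hsq
      rw [hj, hi] at hlt
      have hj2 : 2 ≤ j := by
        by_contra h
        interval_cases j <;> omega
      have hij : j < i := (Nat.pow_lt_pow_iff_right (by norm_num)).1 hlt
      rw [hi]
      exact Nat.pow_le_pow_right (by norm_num : 0 < 2) (by omega : 3 ≤ i)
  have hBeq : B = C := eq_of_le_of_card_ge hBC (hC.trans h8)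
  exact hsec (sec_of_eight hS (hBC.trans inf_le_left) hB2 (le_antisymm ((card_le_of_le hBC).trans hC) h8)
    fun s hs h => hBeq ▸ ⟨hs, mem_centralizer_singleton_iff.2 (h x (mem_sup_right (mem_zpowers x))).eq⟩)

/-- A cyclic subgroup of index at most eight. -/
theorem sec_of_cyclic {S : Subgroup G} {y : G} (_hyS : y ∈ S) (hi : (zpowers y).relIndex S ≤ 8) : Sec S := by
  intro H hH N hN hsq
  set D := H ⊓ zpowers y with hD
  have hDi : D.relIndex H ≤ 8 := by
    rw [hD, inf_relIndex_left]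
    exact (relIndex_le_of_le_right hH index_ne_zero_of_finite).trans hi
  have hND : N.relIndex D ≤ 2 := by
    haveI : IsCyclic D := isCyclic_of_injective (inclusion (inf_le_right : D ≤ zpowers y)) (inclusion_injective _)
    obtain ⟨d, hd⟩ := IsCyclic.exists_generator (α := D)
    have hsurj : Function.Surjective
        (fun b : Bool => if b then (QuotientGroup.mk d : D ⧸ N.subgroupOf D) else QuotientGroup.mk 1) := by
      rintro ⟨c⟩
      obtain ⟨i, rfl⟩ := hd c
      rcases Int.even_or_odd' i with ⟨j, rfl | rfl⟩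
      · refine ⟨false, QuotientGroup.eq.2 (mem_subgroupOf.2 ?_)⟩
        simp only [inv_one, one_mul, coe_zpow]
        rw [two_mul, zpow_add]
        exact hsq _ (zpow_mem (mem_inf.1 d.2).1 j)
      · refine ⟨true, QuotientGroup.eq.2 (mem_subgroupOf.2 ?_)⟩
        simp only [coe_mul, coe_inv, coe_zpow]
        rw [zpow_add_one, ← mul_assoc, ← (((Commute.refl (d : G)).inv_right).zpow_left (2 * j)).eq,
          inv_mul_cancel_right, two_mul, zpow_add]
        exact hsq _ (zpow_mem (mem_inf.1 d.2).1 j)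
    have := Nat.card_le_card_of_surjective _ hsurj
    rwa [← index_eq_card, Nat.card_eq_fintype_card, Fintype.card_bool] at this
  calc N.relIndex H ≤ (N ⊓ D).relIndex H := relIndex_le_of_le_left inf_le_left index_ne_zero_of_finite
    _ = (N ⊓ D).relIndex D * D.relIndex H := (relIndex_mul_relIndex _ _ _ inf_le_right inf_le_left).symm
    _ ≤ 2 * 8 := by rw [inf_relIndex_right]; exact Nat.mul_le_mul hND hDi

/-- A four-group all of whose involutions have centralisers of order at most sixteen. -/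
theorem sec_of_four {S U : Subgroup G} (hUS : U ≤ S) (hU : Nat.card U = 4) (hcard : Nat.card S ≤ 64)
    (hC : ∀ u ∈ U, u ≠ 1 → Nat.card ↥(S ⊓ centralizer ({u} : Set G)) ≤ 16) : Sec S := by
  intro H hH N hN hsq
  by_cases hHU : ∃ u ∈ H, u ∈ U ∧ u ≠ 1
  · obtain ⟨u, huH, huU, hu1⟩ := hHU
    exact (relIndex_le_centralizer hN hsq huH).trans
      ((card_le_of_le (inf_le_inf_right _ hH)).trans (hC u huU hu1))
  · have hinj : Function.Injective (fun p : H × U => (⟨p.1 * p.2, mul_mem (hH p.1.2) (hUS p.2.2)⟩ : S)) := by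
      rintro ⟨a, u⟩ ⟨b, v⟩ hab
      have hab' : (a : G) * u = b * v := congrArg Subtype.val hab
      have he : (b : G)⁻¹ * a = v * (u : G)⁻¹ := by
        rw [eq_mul_inv_iff_mul_eq, mul_assoc, hab', inv_mul_cancel_left]
      have h1 : (b : G)⁻¹ * a = 1 := by
        by_contra h
        exact hHU ⟨_, mul_mem (inv_mem b.2) a.2, he ▸ mul_mem v.2 (inv_mem u.2), h⟩
      rw [h1] at he
      exact Prod.ext (Subtype.ext (inv_mul_eq_one.1 h1).symm) (Subtype.ext (mul_inv_eq_one.1 he.symm).symm)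
    have h1 := Nat.card_le_card_of_injective _ hinj
    rw [Nat.card_prod, hU] at h1
    exact (relIndex_le_card (H := H) (N := N)).trans (by omega)

end Cfsg.Agent.FixityFour
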