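import Mathlib
import Cfsg.Agent.Lib.FixityFour.TwoGroup

/-!
# Sets of four points: the action as permutations of four letters
-/

set_option autoImplicit false
set_option linter.style.haveILetI false
set_option linter.unusedSectionVars false

namespace Cfsg.Agent.FixityFour

open Subgroup MulAction
open scoped Pointwise

variable {G Ω : Type*} [Group G] [MulAction G Ω]

/-- A numbering of a set of four points. -/
noncomputable def numbering {F : Set Ω} (hF : F.ncard = 4) : F ≃ Fin 4 :=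
  haveI : Finite F := (Set.finite_of_ncard_ne_zero (by omega)).to_subtype
  (Finite.equivFin F).trans (finCongr ((Nat.card_coe_set_eq F).trans hF))

/-- The action of the stabiliser of four points on four letters. -/
noncomputable def rho {F : Set Ω} (hF : F.ncard = 4) : stabilizer G F →* Equiv.Perm (Fin 4) :=
  (numbering hF).permCongrHom.toMonoidHom.comp (permOn F)

theorem rho_one {F : Set Ω} (hF : F.ncard = 4) {g : G} (hg : g ∈ stabilizer G F) :
    rho hF ⟨g, hg⟩ = 1 ↔ g ∈ fixingSubgroup G F := by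
  rw [← permOn_eq_one hg]
  exact EmbeddingLike.map_eq_one_iff (f := (numbering hF).permCongrHom) (x := permOn F ⟨g, hg⟩)

theorem rho_card {F : Set Ω} (hF : F.ncard = 4) {g : G} (hg : g ∈ stabilizer G F) :
    Fintype.card {i : Fin 4 // rho hF ⟨g, hg⟩ i = i} = (F ∩ fixedBy Ω g).ncard := by
  rw [← Nat.card_eq_fintype_card, ← Nat.card_coe_set_eq]
  refine Nat.card_congr (Equiv.ofBijective (fun i => ⟨((numbering hF).symm i.1 : Ω), ?_⟩) ⟨?_, ?_⟩)
  · have h := i.2
    refine ⟨((numbering hF).symm i.1).2, ?_⟩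
    change numbering hF (permOn F ⟨g, hg⟩ ((numbering hF).symm i.1)) = i.1 at h
    rw [← Equiv.eq_symm_apply] at h
    exact congrArg Subtype.val h
  · intro i j hij
    exact Subtype.ext ((numbering hF).symm.injective (Subtype.ext (congrArg Subtype.val hij :)))
  · rintro ⟨a, haF, ha⟩
    refine ⟨⟨numbering hF ⟨a, haF⟩, ?_⟩, by simp⟩
    show numbering hF (permOn F ⟨g, hg⟩ ((numbering hF).symm (numbering hF ⟨a, haF⟩))) = _
    rw [Equiv.symm_apply_apply]
    exact congrArg _ (Subtype.ext ha)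

theorem sign_rho {F : Set Ω} [Fintype F] [DecidableEq F] (hF : F.ncard = 4) {g : G} (hg : g ∈ stabilizer G F) :
    Equiv.Perm.sign (rho hF ⟨g, hg⟩) = Equiv.Perm.sign (permOn F ⟨g, hg⟩) :=
  Equiv.Perm.sign_permCongr _ _

variable [Finite G]

/-- The order of a subgroup stabilising four points: kernel times image. -/
theorem card_split {F : Set Ω} (hF : F.ncard = 4) (C : Subgroup G) (hC : C ≤ stabilizer G F) :
    ∃ I : Subgroup (Equiv.Perm (Fin 4)), Nat.card C = Nat.card ↥(C ⊓ fixingSubgroup G F) * Nat.card I ∧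
      ∀ q, q ∈ I ↔ ∃ (g : G) (hg : g ∈ C), rho hF ⟨g, hC hg⟩ = q := by
  obtain ⟨J, hJ, hJm⟩ := exists_image C hC
  refine ⟨J.map (numbering hF).permCongrHom.toMonoidHom, ?_, fun q => ?_⟩
  · rw [card_map_of_injective (numbering hF).permCongrHom.injective, hJ]
  · constructor
    · rintro ⟨p, hp, rfl⟩
      obtain ⟨g, hg, rfl⟩ := (hJm p).1 hp
      exact ⟨g, hg, rfl⟩
    · rintro ⟨g, hg, rfl⟩
      exact ⟨_, (hJm _).2 ⟨g, hg, rfl⟩, rfl⟩

theorem pow_twelve : ∀ σ : Equiv.Perm (Fin 4), σ ^ 12 = 1 := by decide +kernel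

/-- The image of an element of a two-group has order dividing four. -/
theorem rho_pow_four {F : Set Ω} (hF : F.ncard = 4) {R : Subgroup G} (hR : IsPGroup 2 R) {g : G} (hgR : g ∈ R)
    (hg : g ∈ stabilizer G F) : rho hF ⟨g, hg⟩ ^ 4 = 1 := by
  obtain ⟨k, hk⟩ := hR ⟨g, hgR⟩
  have h1 : rho hF ⟨g, hg⟩ ^ (2 ^ k) = 1 := by
    rw [← map_pow]
    convert map_one (rho hF)
    exact Subtype.ext (congrArg Subtype.val hk :)
  have h2 : orderOf (rho hF ⟨g, hg⟩) ∣ Nat.gcd (2 ^ k) 12 :=
    Nat.dvd_gcd (orderOf_dvd_of_pow_eq_one h1) (orderOf_dvd_of_pow_eq_one (pow_twelve _))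
  refine orderOf_dvd_iff_pow_eq_one.1 (h2.trans ?_)
  have h3 : Nat.gcd (2 ^ k) 12 ∣ 2 ^ k := Nat.gcd_dvd_left _ _
  obtain ⟨i, -, hi⟩ := (Nat.dvd_prime_pow Nat.prime_two).1 h3
  have h4 : Nat.gcd (2 ^ k) 12 ∣ 12 := Nat.gcd_dvd_right _ _
  rw [hi] at h4 ⊢
  refine pow_dvd_pow 2 (show i ≤ 2 from ?_)
  by_contra h
  have : 2 ^ 3 ∣ 12 := (pow_dvd_pow 2 (show 3 ≤ i by omega)).trans h4
  omega

variable [Finite Ω]

/-- A group element all whose non-trivial powers move every point outside `F` has sign `-1` on the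
complement of `F` exactly when the number of its cycles there is odd. -/
theorem sign_compl {α : Type*} [Fintype α] [DecidableEq α] {σ : Equiv.Perm α} {o : ℕ} (ho : orderOf σ = o)
    (hev : Even o) (hfree : ∀ j : ℕ, ¬ o ∣ j → ∀ a, (σ ^ j) a ≠ a) :
    Equiv.Perm.sign σ = (-1) ^ (Fintype.card α / o) := by
  have ho0 : 0 < o := ho ▸ orderOf_pos σ
  have ho2 : ¬ o ∣ 1 := fun h => by
    rw [Nat.dvd_one] at h
    rw [h] at hev
    norm_num at hev
  have hall : ∀ n ∈ σ.cycleType, n = o := by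
    intro n hn
    obtain ⟨c, τ, rfl, hd, hc, rfl⟩ := Equiv.Perm.mem_cycleType_iff.1 hn
    refine Nat.dvd_antisymm ?_ ?_
    · rw [← ho, ← hc.orderOf, hd.orderOf]
      exact Nat.dvd_lcm_left _ _
    · by_contra hnd
      obtain ⟨a, ha⟩ := hc.nonempty_support
      refine hfree _ hnd a ?_
      rw [hd.commute.mul_pow, Equiv.Perm.mul_apply]
      have hτ : τ a = a := (hd a).resolve_left (Equiv.Perm.mem_support.1 ha)
      rw [Equiv.Perm.pow_apply_eq_self_of_apply_eq_self hτ, ← hc.orderOf, pow_orderOf_eq_one,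
        Equiv.Perm.one_apply]
  have hfix : Fintype.card (Function.fixedPoints σ) = 0 :=
    Fintype.card_eq_zero_iff.2 ⟨fun a => hfree 1 ho2 a (by rw [pow_one]; exact a.2)⟩
  rw [Equiv.Perm.sign_of_cycleType_eq_replicate ho0 (Multiset.eq_replicate.2 ⟨rfl, hall⟩),
    if_neg (Nat.not_odd_iff_even.2 hev), hfix, Nat.sub_zero]

theorem card_dvd_of_free {α : Type*} [Finite α] {T : Type*} [Group T] [Finite T] [MulAction T α]
    (h : ∀ (t : T) (a : α), t • a = a → t = 1) : Nat.card T ∣ Nat.card α := by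
  classical
  haveI := Fintype.ofFinite (orbitRel.Quotient T α)
  rw [Nat.card_congr (selfEquivSigmaOrbits' T α), Nat.card_sigma]
  refine Finset.dvd_sum fun q _ => ?_
  induction q using Quotient.inductionOn' with
  | h a =>
    rw [orbitRel.Quotient.orbit_mk]
    refine dvd_of_eq (Nat.card_congr (Equiv.ofBijective
      (fun t : T => (⟨t • a, mem_orbit a t⟩ : orbit T a)) ⟨fun s t hst => ?_, ?_⟩))
    · have hst' : s • a = t • a := congrArg Subtype.val hst
      exact (inv_mul_eq_one.1 (h (t⁻¹ * s) a (by rw [mul_smul, hst', inv_smul_smul]))).symm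
    · rintro ⟨_, t, rfl⟩; exact ⟨t, rfl⟩

end Cfsg.Agent.FixityFour
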