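import Mathlib
import Cfsg.Agent.Lib.SmallSimple.Basic
import Cfsg.Agent.Lib.FixityFour.Four

/-!
# Commuting involutions with fixed points, and elements acting oddly on four points
-/

set_option autoImplicit false
set_option linter.style.haveILetI false
set_option linter.unusedSectionVars false

namespace Cfsg.Agent.FixityFour

open Subgroup MulAction
open scoped Pointwise

variable (G Ω : Type*) [Group G] [MulAction G Ω]

/-- Fixity four, with all involutions fixing no point or exactly four. -/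
structure Ctx : Prop where
  na : ¬ IsMulCommutative G
  fix : ∀ g : G, g ≠ 1 → (fixedBy Ω g).ncard ≤ 4
  inv : ∀ g : G, orderOf g = 2 → (fixedBy Ω g).ncard = 0 ∨ (fixedBy Ω g).ncard = 4

variable {G Ω}

/-- An involution with a fixed point. -/
def IsD (Ω : Type*) [MulAction G Ω] (g : G) : Prop := orderOf g = 2 ∧ (fixedBy Ω g).Nonempty

theorem IsD.ne_one {g : G} (h : IsD Ω g) : g ≠ 1 := fun e => by
  have := h.1
  rw [e, orderOf_one] at this
  omega

theorem IsD.sq {g : G} (h : IsD Ω g) : g * g = 1 := by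
  have := pow_orderOf_eq_one g
  rwa [h.1, pow_two] at this

theorem IsD.conj {g : G} (h : IsD Ω g) (c : G) : IsD Ω (c * g * c⁻¹) :=
  ⟨by rw [show c * g * c⁻¹ = MulAut.conj c g from rfl, MulEquiv.orderOf_eq]; exact h.1,
    by rw [fix_conj]; exact h.2.smul_set⟩

variable [Finite Ω]

theorem Ctx.card_D (hc : Ctx G Ω) {g : G} (h : IsD Ω g) : (fixedBy Ω g).ncard = 4 :=
  (hc.inv g h.1).resolve_left fun h0 => h.2.ne_empty ((Set.ncard_eq_zero (Set.toFinite _)).1 h0)

theorem Ctx.eq_one_of_five (hc : Ctx G Ω) {F : Set Ω} (hF : F.ncard = 4) {g : G}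
    (hg : g ∈ fixingSubgroup G F) {a : Ω} (ha : a ∉ F) (hga : g • a = a) : g = 1 := by
  by_contra h1
  have hsub : insert a F ⊆ fixedBy Ω g := Set.insert_subset hga (mem_fixing.1 hg)
  have := (Set.ncard_le_ncard hsub (Set.toFinite _)).trans (hc.fix g h1)
  rw [Set.ncard_insert_of_notMem ha, hF] at this
  omega

theorem Ctx.fix_eq (hc : Ctx G Ω) {F : Set Ω} (hF : F.ncard = 4) {g : G} (hg : g ∈ fixingSubgroup G F)
    (h1 : g ≠ 1) : fixedBy Ω g = F :=
  (Set.eq_of_subset_of_ncard_le (fun a ha => mem_fixing.1 hg a ha) (by rw [hF]; exact hc.fix g h1)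
    (Set.toFinite _)).symm

variable [Finite G]

/-- A non-trivial element of a two-group with a fixed point has an involution power with that fixed point. -/
theorem exists_D_pow {R : Subgroup G} (hR : IsPGroup 2 R) {s : G} (hs : s ∈ R) (hs1 : s ≠ 1) {a : Ω}
    (ha : s • a = a) : ∃ k : ℕ, IsD Ω (s ^ k) ∧ s ^ k ∈ R ∧ fixedBy Ω s ⊆ fixedBy Ω (s ^ k) := by
  haveI : Fact (Nat.Prime 2) := ⟨Nat.prime_two⟩
  obtain ⟨k, hk⟩ := exists_pow_orderOf hR hs hs1
  exact ⟨k, ⟨hk, a, fix_subset_pow s k ha⟩, pow_mem hs k, fix_subset_pow s k⟩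

theorem fixed_of_sq_eq : ∀ σ : Equiv.Perm (Fin 4), σ * σ = 1 →
    Fintype.card {i : Fin 4 // σ i = i} ≠ 1 ∧ Fintype.card {i : Fin 4 // σ i = i} ≠ 3 := by decide +kernel

/-- Two commuting involutions with fixed points share all, two or none of them. -/
theorem Ctx.pair (hc : Ctx G Ω) {d e : G} (hd : IsD Ω d) (he : IsD Ω e) (h : Commute d e) :
    fixedBy Ω e = fixedBy Ω d ∨ Disjoint (fixedBy Ω d) (fixedBy Ω e) ∨
      (fixedBy Ω d ∩ fixedBy Ω e).ncard = 2 := by
  have hF := hc.card_D hd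
  have hst : e ∈ stabilizer G (fixedBy Ω d) := mem_stab_fix h.symm
  have hcard := rho_card hF hst
  have hsq : rho hF ⟨e, hst⟩ * rho hF ⟨e, hst⟩ = 1 := by
    rw [← map_mul]
    convert map_one (rho hF)
    exact Subtype.ext he.sq
  obtain ⟨h1, h3⟩ := fixed_of_sq_eq _ hsq
  rw [hcard] at h1 h3
  have hle := Set.ncard_le_ncard (Set.inter_subset_left (s := fixedBy Ω d) (t := fixedBy Ω e)) (Set.toFinite _)
  rw [hF] at hle
  rcases Nat.lt_or_ge (fixedBy Ω d ∩ fixedBy Ω e).ncard 4 with hlt | hge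
  · rcases Nat.eq_zero_or_pos (fixedBy Ω d ∩ fixedBy Ω e).ncard with h0 | h0
    · exact Or.inr (Or.inl (Set.disjoint_iff_inter_eq_empty.2 ((Set.ncard_eq_zero (Set.toFinite _)).1 h0)))
    · exact Or.inr (Or.inr (by omega))
  · refine Or.inl ((hc.fix_eq hF (mem_fixing.2 fun a ha => ?_) he.ne_one))
    have := Set.eq_of_subset_of_ncard_le (Set.inter_subset_left (s := fixedBy Ω d) (t := fixedBy Ω e))
      (by rw [hF]; exact hge) (Set.toFinite _)
    rw [← this] at ha
    exact ha.2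

theorem transposition_centralizer : ∀ t : Equiv.Perm (Fin 4), t * t = 1 →
    Fintype.card {i : Fin 4 // t i = i} = 2 →
    Fintype.card {σ : Equiv.Perm (Fin 4) // σ * t = t * σ} ≤ 4 ∧
      ∀ σ : Equiv.Perm (Fin 4), σ * t = t * σ → σ * σ = 1 := by decide +kernel

/-- Commuting involutions with exactly two common fixed points. -/
theorem Ctx.sec_of_two (hc : Ctx G Ω) {d e : G} (hd : IsD Ω d) (he : IsD Ω e) (hde : Commute d e)
    (h2 : (fixedBy Ω d ∩ fixedBy Ω e).ncard = 2) : Cfsg.SectionalPRankLE 2 4 G := by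
  classical
  haveI : Fact (Nat.Prime 2) := ⟨Nat.prime_two⟩
  have hne : d ≠ e := fun heq => by
    rw [heq, Set.inter_self, hc.card_D he] at h2
    omega
  obtain ⟨U, hU4, hU2, hdU, heU, hUm⟩ := exists_four hd.sq he.sq hde hd.ne_one he.ne_one hne
  obtain ⟨S, hUS⟩ := (IsPGroup.of_card (n := 2) (by rw [hU4]; rfl) : IsPGroup 2 U).exists_le_sylow
  refine rank_of_sec S ?_
  set C := (S : Subgroup G) ⊓ centralizer (U : Set G) with hC
  have hcU : ∀ c ∈ C, ∀ u ∈ U, Commute c u := fun c hc u hu => (mem_centralizer_iff.1 (mem_inf.1 hc).2 u hu).symm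
  have hUC : U ≤ C := fun u hu => mem_inf.2 ⟨hUS hu, mem_centralizer_iff.2 fun v hv => commute_of_sq hU2 hv hu⟩
  -- the kernel on a fixed set has order at most two, the image is elementary of order at most four
  have key : ∀ d e : G, IsD Ω d → IsD Ω e → (fixedBy Ω d ∩ fixedBy Ω e).ncard = 2 →
      (∀ c ∈ C, Commute c d ∧ Commute c e) → d ∈ C → e ∈ C →
      Nat.card C ≤ 8 ∧ ∀ c ∈ C, c * c = 1 ∨ c * c = d := by
    intro d e hd he h2 hcomm hdC heC
    have hF := hc.card_D hd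
    have hCF : C ≤ stabilizer G (fixedBy Ω d) := fun c hc' => mem_stab_fix (hcomm c hc').1
    set C₀ := C ⊓ fixingSubgroup G (fixedBy Ω d) with hC₀
    obtain ⟨a, hae, had⟩ : ∃ a ∈ fixedBy Ω e, a ∉ fixedBy Ω d := by
      by_contra hall
      push Not at hall
      rw [Set.inter_eq_right.2 hall, hc.card_D he] at h2
      omega
    have hC₀le : Nat.card C₀ ≤ 2 := by
      refine (card_le_of_free (Set.toFinite (fixedBy Ω e \ fixedBy Ω d)) C₀ (a := a) (fun c hcc => ?_)
        fun c hcc hca => hc.eq_one_of_five hF (mem_inf.1 hcc).2 had hca).trans ?_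
      · obtain ⟨hcC, hcF⟩ := mem_inf.1 hcc
        refine ⟨smul_mem_of_mem (mem_stab_fix (hcomm c hcC).2) hae, fun h => had ?_⟩
        have h' := smul_mem_of_mem (inv_mem (fixing_le_stab hcF)) h
        rwa [inv_smul_smul] at h'
      · have := Set.ncard_inter_add_ncard_sdiff_eq_ncard (fixedBy Ω e) (fixedBy Ω d) (Set.toFinite _)
        rw [Set.inter_comm, h2, hc.card_D he] at this
        omega
    have hC₀d : ∀ c ∈ C₀, c = 1 ∨ c = d := by
      intro c hcc
      by_contra h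
      push Not at h
      have hd0 : d ∈ C₀ := mem_inf.2 ⟨hdC, mem_fixing.2 fun b hb => hb⟩
      haveI : Fintype C₀ := Fintype.ofFinite _
      have : 2 < Nat.card C₀ := by
        rw [Nat.card_eq_fintype_card, Fintype.two_lt_card_iff]
        exact ⟨1, ⟨c, hcc⟩, ⟨d, hd0⟩, fun e => h.1 (congrArg Subtype.val e).symm,
          fun e => hd.ne_one (congrArg Subtype.val e).symm, fun e => h.2 (congrArg Subtype.val e)⟩
      omega
    set t := rho hF ⟨e, hCF heC⟩ with ht
    have ht2 : t * t = 1 := by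
      rw [ht, ← map_mul]
      convert map_one (rho hF)
      exact Subtype.ext he.sq
    have htc : Fintype.card {i : Fin 4 // t i = i} = 2 := by rw [ht, rho_card]; exact h2
    obtain ⟨hle4, hsq⟩ := transposition_centralizer t ht2 htc
    have hcommt : ∀ (c : G) (hcC : c ∈ C), rho hF ⟨c, hCF hcC⟩ * t = t * rho hF ⟨c, hCF hcC⟩ := fun c hcC => by
      rw [ht, ← map_mul, ← map_mul]
      exact congrArg (rho hF) (Subtype.ext (hcomm c hcC).2.eq)
    obtain ⟨I, hI, hIm⟩ := card_split hF C hCF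
    refine ⟨?_, fun c hcC => ?_⟩
    · have hI4 : Nat.card I ≤ 4 := by
        refine le_trans (Nat.card_le_card_of_injective
          (fun q : I => (⟨q.1, ?_⟩ : {σ : Equiv.Perm (Fin 4) // σ * t = t * σ})) ?_)
          (by rw [Nat.card_eq_fintype_card]; exact hle4)
        · obtain ⟨c, hcC, hq⟩ := (hIm _).1 q.2
          rw [← hq]; exact hcommt c hcC
        · intro p q hpq
          exact Subtype.ext (congrArg (fun z => z.1) hpq :)
      rw [hI]; exact Nat.mul_le_mul hC₀le hI4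
    · refine hC₀d _ (mem_inf.2 ⟨mul_mem hcC hcC, (rho_one hF (hCF (mul_mem hcC hcC))).1 ?_⟩)
      set c' : stabilizer G (fixedBy Ω d) := ⟨c, hCF hcC⟩ with hc'
      have e2 : (⟨c * c, hCF (mul_mem hcC hcC)⟩ : stabilizer G (fixedBy Ω d)) = c' * c' := Subtype.ext rfl
      rw [e2, map_mul]
      exact hsq _ (hcommt c hcC)
  obtain ⟨h8, hsd⟩ := key d e hd he h2 (fun c hc' => ⟨hcU c hc' d hdU, hcU c hc' e heU⟩) (hUC hdU) (hUC heU)
  obtain ⟨-, hse⟩ := key e d he hd (by rw [Set.inter_comm]; exact h2)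
    (fun c hc' => ⟨hcU c hc' e heU, hcU c hc' d hdU⟩) (hUC heU) (hUC hdU)
  have hC2 : ∀ c ∈ C, c * c = 1 := fun c hc' => by
    rcases hsd c hc' with h | h
    · exact h
    · rcases hse c hc' with h' | h'
      · exact h'
      · exact absurd (h.symm.trans h') hne
  obtain ⟨k, hk⟩ := two_pow_of_pgroup hC2
  have h4 := card_le_of_le hUC
  rw [hU4] at h4
  rcases Nat.lt_or_ge (Nat.card C) 8 with hlt | hge
  · -- a self-centralising four-group
    have hCU : U = C := eq_of_le_of_card_ge hUC (by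
      rw [hk] at hlt ⊢
      rw [hU4]
      rcases Nat.lt_or_ge k 3 with h | h
      · exact Nat.pow_le_pow_right (show 0 < 2 by norm_num) (show k ≤ 2 by omega)
      · have := Nat.pow_le_pow_right (show 0 < 2 by norm_num) h
        omega)
    obtain ⟨z, hz, hz2, hzc⟩ := exists_central S.isPGroup' le_rfl
      (fun r hr x hx => mul_mem (mul_mem hr hx) (inv_mem hr)) (fun hb => hd.ne_one (by
        have := hUS hdU
        rwa [hb, mem_bot] at this))
    have hzU : z ∈ U := by
      rw [hCU]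
      exact mem_inf.2 ⟨hz, mem_centralizer_iff.2 fun v hv => (hzc v (hUS hv)).eq⟩
    obtain ⟨x, hxU, hx1, hxz⟩ : ∃ x ∈ U, x ≠ 1 ∧ x ≠ z := by
      by_cases hzd : d = z
      · exact ⟨e, heU, he.ne_one, fun h => hne (hzd.trans h.symm)⟩
      · exact ⟨d, hdU, hd.ne_one, hzd⟩
    refine sec_of_small S.isPGroup' (hUS hxU) (hU2 x hxU) (le_trans (card_le_of_le fun c hcc => ?_) h8)
    obtain ⟨hcS, hcx⟩ := mem_inf.1 hcc
    refine mem_inf.2 ⟨hcS, mem_centralizer_iff.2 fun v hv => ?_⟩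
    obtain ⟨V, hV4, -, hzV, hxV, hVm⟩ := exists_four (hU2 z hzU) (hU2 x hxU) (hzc x (hUS hxU)).symm
      (fun h => by rw [h, orderOf_one] at hz2; omega) hx1 (Ne.symm hxz)
    have hVU : V = U := eq_of_le_of_card_ge (fun w hw => by
      rcases hVm w hw with rfl | rfl | rfl | rfl
      exacts [one_mem _, hzU, hxU, mul_mem hzU hxU]) (by rw [hU4, hV4])
    have hcxc : Commute c x := mem_centralizer_singleton_iff.1 hcx
    rcases hVm v (hVU.symm ▸ hv) with rfl | rfl | rfl | rfl
    exacts [(Commute.one_left c).eq, ((hzc c hcS).symm).eq, hcxc.symm.eq, (((hzc c hcS).mul_right hcxc).symm).eq]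
  · refine sec_of_eight S.isPGroup' inf_le_left hC2 (le_antisymm h8 hge) fun s hs h => ?_
    exact mem_inf.2 ⟨hs, mem_centralizer_iff.2 fun v hv => (h v (hUC hv)).symm.eq⟩

/-- An element of a Sylow subgroup odd on `F` and regular off it. -/
theorem Ctx.sec_of_odd [IsSimpleGroup G] (hc : Ctx G Ω) (S : Sylow 2 G) {F : Set Ω} (hF : F.ncard = 4)
    (hFu : F ≠ Set.univ) (hSF : (S : Subgroup G) ≤ stabilizer G F) {y : G} (hy : y ∈ (S : Subgroup G))
    (hsign : Equiv.Perm.sign (rho hF ⟨y, hSF hy⟩) = -1)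
    (hfree : ∀ j : ℕ, y ^ j ≠ 1 → ∀ a, a ∉ F → y ^ j • a ≠ a) : Cfsg.SectionalPRankLE 2 4 G := by
  classical
  haveI : Fact (Nat.Prime 2) := ⟨Nat.prime_two⟩
  haveI := Fintype.ofFinite Ω
  refine rank_of_sec S (sec_of_cyclic hy ?_)
  obtain ⟨n, hn⟩ := IsPGroup.iff_orderOf.1 S.isPGroup' ⟨y, hy⟩
  rw [Subgroup.orderOf_mk] at hn
  have hy1 : y ≠ 1 := by
    rintro rfl
    rw [show (⟨1, hSF hy⟩ : stabilizer G F) = 1 from rfl, map_one, map_one] at hsign
    exact absurd hsign (by decide)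
  have hn0 : n ≠ 0 := fun h => hy1 (orderOf_eq_one_iff.1 (by rw [hn, h, pow_zero]))
  have hyF' : y ∈ stabilizer G Fᶜ := by rw [stabilizer_compl]; exact hSF hy
  obtain ⟨a₀, ha₀⟩ := (Set.ne_univ_iff_exists_notMem F).1 hFu
  set σ := permOn Fᶜ ⟨y, hyF'⟩ with hσ
  have hpow : ∀ j : ℕ, ∀ a : (Fᶜ : Set Ω), ((σ ^ j) a : Ω) = y ^ j • (a : Ω) := fun j a => by
    rw [hσ, ← map_pow]; rfl
  have hσo : orderOf σ = orderOf y := by
    refine orderOf_eq_orderOf_iff.2 fun j => ⟨fun h => ?_, fun h => ?_⟩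
    · by_contra hj
      refine hfree j hj a₀ ha₀ ?_
      rw [← hpow j ⟨a₀, ha₀⟩, h]; rfl
    · exact Equiv.ext fun a => Subtype.ext (by rw [hpow, h, one_smul]; rfl)
  have hev : Even (orderOf y) := by rw [hn]; exact Nat.even_pow.2 ⟨even_two, hn0⟩
  have hsc := sign_compl (σ := σ) hσo hev fun j hj a ha => hfree j
    (fun h => hj (orderOf_dvd_of_pow_eq_one h)) a a.2 (by rw [← hpow, ha])
  -- the whole permutation is even
  have htot : Equiv.Perm.sign (toPermHom G Ω y) = 1 := SmallSimple.Basic.sign_eq_one hc.na _ y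
  have hdec : toPermHom G Ω y = Equiv.Perm.subtypeCongr (p := (· ∈ F)) (permOn F ⟨y, hSF hy⟩)
      (σ : Equiv.Perm {a // ¬ a ∈ F}) := by
    ext a
    rw [Equiv.Perm.subtypeCongr.apply]
    by_cases ha : a ∈ F
    · rw [dif_pos ha]; rfl
    · rw [dif_neg ha]; rfl
  rw [hdec, Equiv.Perm.sign_subtypeCongr] at htot
  rw [sign_rho] at hsign
  have hodd : Odd (Fintype.card (Fᶜ : Set Ω) / orderOf y) := by
    by_contra hev'
    rw [Nat.not_odd_iff_even] at hev'
    rw [hev'.neg_one_pow] at hsc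
    rw [hsign, show Equiv.Perm.sign (σ : Equiv.Perm {a // ¬ a ∈ F}) = 1 by convert hsc using 0] at htot
    exact absurd htot (by decide)
  -- the kernel acts freely off `F`
  set T := (S : Subgroup G) ⊓ fixingSubgroup G F with hT
  have hTd : Nat.card T ∣ Fintype.card (Fᶜ : Set Ω) := by
    letI : MulAction T (Fᶜ : Set Ω) :=
      { smul := fun t a => ⟨(t : G) • (a : Ω), fun h => a.2 (by
          have h' := smul_mem_of_mem (inv_mem (fixing_le_stab (mem_inf.1 t.2).2)) h
          rwa [inv_smul_smul] at h')⟩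
        one_smul := fun a => Subtype.ext (one_smul G _)
        mul_smul := fun s t a => Subtype.ext (mul_smul (s : G) (t : G) _) }
    rw [← Nat.card_eq_fintype_card]
    exact card_dvd_of_free fun t a ha => Subtype.ext
      (hc.eq_one_of_five hF (mem_inf.1 t.2).2 a.2 (congrArg Subtype.val ha))
  have hdiv : orderOf y ∣ Fintype.card (Fᶜ : Set Ω) := by
    letI : MulAction (zpowers y) (Fᶜ : Set Ω) :=
      MulAction.compHom _ (inclusion (zpowers_le.2 hyF'))
    rw [← Nat.card_zpowers, ← Nat.card_eq_fintype_card]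
    refine card_dvd_of_free fun t a ha => ?_
    obtain ⟨t, ht⟩ := t
    obtain ⟨j, rfl⟩ := mem_powers_iff_mem_zpowers.2 ht
    refine Subtype.ext ?_
    by_contra hj
    exact hfree j hj a a.2 (congrArg Subtype.val ha)
  obtain ⟨j, hj⟩ := IsPGroup.iff_card.1 (S.isPGroup'.to_le (inf_le_left : T ≤ _))
  have hTy : Nat.card T ≤ orderOf y := by
    rw [hj] at hTd ⊢
    rw [hn] at hdiv hodd ⊢
    obtain ⟨m, hm⟩ := hdiv
    rw [hm] at hodd hTd
    rw [Nat.mul_div_cancel_left _ (pow_pos two_pos n)] at hodd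
    have hcop : Nat.Coprime (2 ^ j) m := Nat.Coprime.pow_left j ((Nat.coprime_two_left).2 hodd)
    exact Nat.le_of_dvd (pow_pos two_pos n) (hcop.dvd_of_dvd_mul_right hTd)
  obtain ⟨i, hi, hid⟩ := image_le (S : Subgroup G) S.isPGroup' hSF
  have hi8 : 2 ^ i ≤ 8 := by
    rw [hF] at hid
    have : i ≤ 3 := by
      by_contra h
      have h16 : 16 ∣ (4).factorial := (pow_dvd_pow 2 (show 4 ≤ i by omega)).trans hid
      norm_num [Nat.factorial] at h16
    exact Nat.pow_le_pow_right (show 0 < 2 by norm_num) this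
  have hmul : orderOf y * (zpowers y).relIndex (S : Subgroup G) = Nat.card (S : Subgroup G) := by
    rw [← Nat.card_zpowers, ← relIndex_bot_left (zpowers y), ← relIndex_bot_left (S : Subgroup G)]
    exact relIndex_mul_relIndex _ _ _ bot_le (zpowers_le.2 hy)
  refine Nat.le_of_mul_le_mul_left ?_ (orderOf_pos y)
  rw [hmul, hi]
  exact Nat.mul_le_mul hTy hi8

end Cfsg.Agent.FixityFour
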