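import Mathlib
import Cfsg.Agent.Lib.FixityFour.Shape

/-!
# A four-group whose involutions have the same four fixed elements on a normal subgroup
-/

set_option autoImplicit false
set_option linter.style.haveILetI false
set_option linter.unusedSectionVars false
set_option linter.unusedSimpArgs false

namespace Cfsg.Agent.FixityFour.VFix

open Subgroup

variable {X : Type*} [Group X] [Finite X]

/-- Inside a normal subgroup of a two-group there is a normal subgroup twice as large as a given one. -/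
theorem step (hX : IsPGroup 2 X) (A N : Subgroup X) [A.Normal] [N.Normal] (hNA : N < A) :
    ∃ N' : Subgroup X, N'.Normal ∧ N' ≤ A ∧ Nat.card N' = 2 * Nat.card N ∧
      ∀ g : X, ∀ a ∈ N', a⁻¹ * (g * a * g⁻¹) ∈ N := by
  haveI : Fact (Nat.Prime 2) := ⟨Nat.prime_two⟩
  set π := QuotientGroup.mk' N with hπ
  haveI : (A.map π).Normal := Subgroup.Normal.map inferInstance π (QuotientGroup.mk'_surjective N)
  have hne : A.map π ≠ ⊥ := fun h => hNA.not_ge fun a ha => by
    have := mem_map_of_mem π ha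
    rw [h, mem_bot] at this
    exact (QuotientGroup.eq_one_iff a).1 this
  obtain ⟨c, hc, hc2, hcc⟩ := exists_central (R := (⊤ : Subgroup (X ⧸ N))) ((hX.to_quotient N).to_subgroup _)
    le_top (fun r _ x hx => (inferInstance : (A.map π).Normal).conj_mem x hx r) hne
  have hn : (zpowers c).Normal := ⟨fun x hx g => by
    obtain ⟨i, rfl⟩ := hx
    rw [((hcc g (mem_top g)).zpow_right i).eq, mul_inv_cancel_right]
    exact ⟨i, rfl⟩⟩
  refine ⟨(zpowers c).comap π, hn.comap π, fun a ha => ?_, ?_, fun g a ha => ?_⟩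
  · obtain ⟨b, hb, hba⟩ := (zpowers_le.2 hc) (mem_comap.1 ha)
    have h1 : b⁻¹ * a ∈ N := QuotientGroup.eq.1 hba
    simpa using mul_mem hb (hNA.le h1)
  · have h1 : N.relIndex ((zpowers c).comap π) = 2 := by
      have e : N = (⊥ : Subgroup (X ⧸ N)).comap π := by
        rw [MonoidHom.comap_bot, hπ, QuotientGroup.ker_mk']
      refine Eq.trans (congrArg (fun M => Subgroup.relIndex M ((zpowers c).comap π)) e) ?_
      rw [relIndex_comap, map_comap_eq_self_of_surjective (QuotientGroup.mk'_surjective N)]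
      rw [relIndex_bot_left, Nat.card_zpowers, hc2]
    have hle : N ≤ (zpowers c).comap π := fun a ha => by
      rw [mem_comap, show π a = 1 from (QuotientGroup.eq_one_iff a).2 ha]
      exact one_mem _
    rw [← relIndex_bot_left N, ← relIndex_bot_left, ← relIndex_mul_relIndex _ _ _ bot_le hle, h1, mul_comm]
  · obtain ⟨i, hi⟩ := mem_comap.1 ha
    refine (QuotientGroup.eq_one_iff _).1 ?_
    show π (a⁻¹ * (g * a * g⁻¹)) = 1
    rw [map_mul, map_mul, map_mul, map_inv, map_inv, ← hi]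
    show (c ^ i)⁻¹ * (π g * c ^ i * (π g)⁻¹) = 1
    rw [((hcc (π g) (mem_top _)).zpow_right i).eq, mul_inv_cancel_right, inv_mul_cancel]

variable (T W U : Subgroup X)

/-- The hypotheses: the three involutions of `U` have the same centraliser `W` of order four in `T`. -/
structure Hyp : Prop where
  two : IsPGroup 2 X
  normal : T.Normal
  le : W ≤ T
  card_W : Nat.card W = 4
  card_U : Nat.card U = 4
  sq_U : ∀ u ∈ U, u * u = 1
  inter : ∀ u ∈ U, u ∈ T → u = 1
  fix : ∀ u ∈ U, u ≠ 1 → ∀ t ∈ T, (Commute t u ↔ t ∈ W)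

variable {T W U}

theorem Hyp.inv_eq (h : Hyp T W U) {u : X} (hu : u ∈ U) : u⁻¹ = u :=
  inv_eq_of_mul_eq_one_right (h.sq_U u hu)

theorem Hyp.conj_mem (h : Hyp T W U) {t u : X} (ht : t ∈ T) (hu : u ∈ U) : u * t * u ∈ T := by
  have := h.normal.conj_mem t ht u
  rwa [h.inv_eq hu] at this

theorem Hyp.comm_W (h : Hyp T W U) {u w : X} (hu : u ∈ U) (hw : w ∈ W) : u * w * u = w := by
  by_cases hu1 : u = 1
  · simp [hu1]
  · rw [← ((h.fix u hu hu1 w (h.le hw)).2 hw).eq, mul_assoc, h.sq_U u hu, mul_one]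

/-- `W` is the whole group of fixed elements. -/
theorem Hyp.mem_W (h : Hyp T W U) {u t : X} (hu : u ∈ U) (hu1 : u ≠ 1) (ht : t ∈ T) (hc : u * t * u = t) :
    t ∈ W := (h.fix u hu hu1 t ht).1 (by
  show t * u = u * t
  conv_lhs => rw [← hc, mul_assoc, h.sq_U u hu, mul_one])

/-- An element of `T` moved into `W` by every involution, but not inside `W`: the three displacements fill `W`. -/
theorem Hyp.displace (h : Hyp T W U) {x : X} (hx : x ∈ T) (hxW : x ∉ W)
    (hd : ∀ u ∈ U, x⁻¹ * (u * x * u) ∈ W) {D : Subgroup X} (hD : ∀ u ∈ U, x⁻¹ * (u * x * u) ∈ D) : W ≤ D := by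
  classical
  let e : U → ↥(D ⊓ W) := fun u => ⟨x⁻¹ * (u * x * u), mem_inf.2 ⟨hD u u.2, hd u u.2⟩⟩
  have he : Function.Injective e := by
    rintro ⟨u, hu⟩ ⟨v, hv⟩ huv
    have h1 : x⁻¹ * (u * x * u) = x⁻¹ * (v * x * v) := congrArg Subtype.val huv
    have h2 : u * x * u = v * x * v := mul_left_cancel h1
    have huvc : Commute u v := commute_of_sq h.sq_U hu hv
    have h3 : (v * u) * x * (v * u) = x := by
      calc (v * u) * x * (v * u) = v * (u * x * u) * v := by rw [huvc.symm.eq]; simp [mul_assoc, huvc.eq]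
        _ = (v * v) * x * (v * v) := by rw [h2]; simp [mul_assoc]
        _ = x := by rw [h.sq_U v hv]; simp
    have h4 : v * u = 1 := by
      by_contra hne
      exact hxW (h.mem_W (mul_mem hv hu) hne hx h3)
    exact Subtype.ext ((mul_eq_one_iff_eq_inv.1 h4).trans (h.inv_eq hu)).symm
  have h4 := Nat.card_le_card_of_injective e he
  rw [h.card_U] at h4
  exact inf_eq_right.1 (eq_of_le_of_card_ge inf_le_right (by rw [h.card_W]; exact h4))

theorem card_centralised (h : Hyp T W U) {u : X} (hu : u ∈ U) (hu1 : u ≠ 1) :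
    Nat.card {t : X // t ∈ T ∧ t⁻¹ * (u * t * u) ∈ W} ≤ 16 := by
  classical
  set C := {t : X // t ∈ T ∧ t⁻¹ * (u * t * u) ∈ W}
  let φ : C → W := fun t => ⟨t.1⁻¹ * (u * t.1 * u), t.2.2⟩
  let sec : W → C := fun w => if hw : ∃ t, φ t = w then hw.choose else ⟨1, one_mem _, by simp [h.sq_U u hu]⟩
  have hsec : ∀ t : C, φ (sec (φ t)) = φ t := fun t => by
    have hw : ∃ s, φ s = φ t := ⟨t, rfl⟩
    simp only [sec, dif_pos hw]
    exact hw.choose_spec
  have hmem : ∀ t : C, t.1 * (sec (φ t)).1⁻¹ ∈ W := by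
    intro t
    set s := sec (φ t)
    have he : t.1⁻¹ * (u * t.1 * u) = s.1⁻¹ * (u * s.1 * u) := (congrArg Subtype.val (hsec t)).symm
    refine h.mem_W hu hu1 (mul_mem t.2.1 (inv_mem s.2.1)) ?_
    have e2 : u * t.1 * u * (u * s.1 * u)⁻¹ = t.1 * s.1⁻¹ := by
      rw [show u * t.1 * u = t.1 * (t.1⁻¹ * (u * t.1 * u)) by group, he]; group
    conv_rhs => rw [← e2, show u * t.1 * u * (u * s.1 * u)⁻¹ = u * (t.1 * s.1⁻¹) * u⁻¹ by group, h.inv_eq hu]
  let f : C → W × W := fun t => (φ t, ⟨_, hmem t⟩)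
  have hf : Function.Injective f := by
    intro a b hab
    simp only [f, Prod.mk.injEq, Subtype.mk.injEq] at hab
    obtain ⟨h1, h2⟩ := hab
    rw [h1] at h2
    exact Subtype.ext (mul_right_cancel h2)
  have := Nat.card_le_card_of_injective f hf
  rw [Nat.card_prod, h.card_W] at this
  exact this

/-- The square of any element centralises a normal subgroup of order four. -/
theorem sq_comm (hX : IsPGroup 2 X) {W : Subgroup X} [W.Normal] (hW : Nat.card W = 4) (b : X) {w : X}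
    (hw : w ∈ W) : Commute (b * b) w := by
  haveI : Fact (Nat.Prime 2) := ⟨Nat.prime_two⟩
  obtain ⟨N, hN, hNW, hN2, hNc⟩ := step hX W ⊥ (bot_lt_iff_ne_bot.2 fun e => by
    rw [e, card_bot] at hW; omega)
  haveI := hN
  rw [card_bot, mul_one] at hN2
  obtain ⟨N', -, hN'W, hN'4, hN'c⟩ := step hX W N (lt_of_le_of_ne hNW fun e => by rw [e, hW] at hN2; omega)
  have hWN : W = N' := (eq_of_le_of_card_ge hN'W (by rw [hW, hN'4, hN2])).symm
  have hwN : w ∈ N' := hWN ▸ hw
  set c := w⁻¹ * (b * w * b⁻¹) with hc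
  have hcN : c ∈ N := hN'c b w hwN
  have hbc : b * c * b⁻¹ = c := (inv_mul_eq_one.1 (mem_bot.1 (hNc b c hcN))).symm
  have hcc : c * c = 1 := by
    have := pow_card_eq_one' (x := (⟨c, hcN⟩ : N))
    rw [hN2, pow_two] at this
    exact congrArg Subtype.val this
  have h1 : b * w * b⁻¹ = w * c := by rw [hc, mul_inv_cancel_left]
  refine mul_inv_eq_iff_eq_mul.1 ?_
  calc b * b * w * (b * b)⁻¹ = b * (b * w * b⁻¹) * b⁻¹ := by group
    _ = (b * w * b⁻¹) * (b * c * b⁻¹) := by rw [h1]; group; rw [← h1]; group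
    _ = w := by rw [hbc, h1, mul_assoc, hcc, mul_one]

/-- With `W` normal inside an elementary normal subgroup reaching outside it, `T` has order at most sixteen. -/
theorem core (h : Hyp T W U) [W.Normal] (A : Subgroup X) [A.Normal] (hA2 : ∀ a ∈ A, a * a = 1) (hWA : W ≤ A)
    {a₀ : X} (ha₀ : a₀ ∈ A) (ha₀W : a₀ ∉ W) (hform : a₀ ∈ T ∨ ∃ t ∈ T, ∃ u ∈ U, u ≠ 1 ∧ a₀ = t * u)
    (hAU : ∀ u ∈ U, u ∈ A → u = 1) : Nat.card T ≤ 16 := by
  classical
  haveI := h.normal
  haveI : Fact (Nat.Prime 2) := ⟨Nat.prime_two⟩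
  have hW2 : ∀ w ∈ W, w * w = 1 := fun w hw => hA2 w (hWA hw)
  have hWn : ∀ (g : X) {w : X}, w ∈ W → g⁻¹ * w * g ∈ W := fun g w hw => by
    simpa using (inferInstance : W.Normal).conj_mem w hw g⁻¹
  -- one involution moving into `W` forces all
  have hinc : ∀ u ∈ U, u ≠ 1 → ∀ τ ∈ T, τ⁻¹ * (u * τ * u) ∈ W → ∀ v ∈ U, τ⁻¹ * (v * τ * v) ∈ W := by
    intro u hu hu1 τ hτ hτu v hv
    set b := τ⁻¹ * (v * τ * v) with hb
    set w := τ⁻¹ * (u * τ * u) with hw
    by_contra hbW
    have hbT : b ∈ T := mul_mem (inv_mem hτ) (h.conj_mem hτ hv)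
    have hwi : w⁻¹ = w := inv_eq_of_mul_eq_one_right (hW2 w hτu)
    have huv : Commute u v := commute_of_sq h.sq_U hu hv
    have hvb : v * b * v = b⁻¹ := by
      rw [hb]; simp [mul_assoc, h.inv_eq hv]
      simp [← mul_assoc, h.sq_U v hv]
    have hub : u * b * u = w * b * w := by
      have e1 : u * τ * u = τ * w := by rw [hw, mul_inv_cancel_left]
      have e2 : v * w * v = w := h.comm_W hv hτu
      calc u * b * u = (u * τ * u)⁻¹ * (u * (v * τ * v) * u) := by
            rw [hb]; simp [mul_assoc, h.inv_eq hu]; simp [← mul_assoc, h.sq_U u hu]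
        _ = (u * τ * u)⁻¹ * (v * (u * τ * u) * v) := by
            congr 1; simp only [mul_assoc]
            rw [huv.eq]; simp only [← mul_assoc]; rw [huv.eq]
        _ = (τ * w)⁻¹ * ((v * τ * v⁻¹) * (v * w * v)) := by rw [e1]; group
        _ = w * b * w := by rw [e2, h.inv_eq hv, mul_inv_rev, hwi, hb]; simp [mul_assoc]
    have hbb : Commute (b * b) w := sq_comm h.two h.card_W b hτu
    have hbbW : b * b ∈ W := by
      refine h.mem_W hu hu1 (mul_mem hbT hbT) ?_
      calc u * (b * b) * u = (u * b * u) * (u * b * u) := by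
            simp [mul_assoc]; simp [← mul_assoc, h.sq_U u hu]
        _ = w * b * (w * w) * b * w := by rw [hub]; simp [mul_assoc]
        _ = w * (b * b) * w := by rw [hW2 w hτu]; simp [mul_assoc]
        _ = b * b := by rw [← hbb.eq, mul_assoc, hW2 w hτu, mul_one]
    have hud : b⁻¹ * (u * b * u) ∈ W := by
      rw [hub, show b⁻¹ * (w * b * w) = (b⁻¹ * w * b) * w by group]
      exact mul_mem (hWn b hτu) hτu
    have hvd : b⁻¹ * (v * b * v) ∈ W := by
      rw [hvb, ← mul_inv_rev]; exact inv_mem hbbW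
    have huvd : b⁻¹ * ((u * v) * b * (u * v)) ∈ W := by
      have e : (u * v) * b * (u * v) = u * (v * b * v) * u := by
        conv_lhs => enter [2]; rw [huv.eq]
        simp [mul_assoc]
      rw [e, hvb, show u * b⁻¹ * u = (u⁻¹ * b * u⁻¹)⁻¹ by group,
        h.inv_eq hu, hub, show b⁻¹ * (w * b * w)⁻¹ = (b⁻¹ * w⁻¹ * b) * (b * b)⁻¹ * w⁻¹ by group]
      exact mul_mem (mul_mem (hWn b (inv_mem hτu)) (inv_mem hbbW)) (inv_mem hτu)
    have hne : u ≠ v := fun e => hbW (by rw [hb, ← e]; exact hτu)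
    have hv1 : v ≠ 1 := fun e => hbW (by rw [hb, e]; simp)
    obtain ⟨V, hV4, -, huV, hvV, hVm⟩ := exists_four (h.sq_U u hu) (h.sq_U v hv) huv hu1 hv1 hne
    have hUV : U = V := (eq_of_le_of_card_ge (fun x hx => by
      rcases hVm x hx with rfl | rfl | rfl | rfl
      exacts [one_mem _, hu, hv, mul_mem hu hv]) (by rw [hV4, h.card_U])).symm
    have hall : ∀ z ∈ U, b⁻¹ * (z * b * z) ∈ W := fun z hz => by
      rcases hVm z (hUV ▸ hz) with rfl | rfl | rfl | rfl
      exacts [by simp, hud, hvd, huvd]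
    -- each displacement commutes with `b`
    have hD : ∀ z ∈ U, b⁻¹ * (z * b * z) ∈ centralizer ({b} : Set X) := by
      have cu : Commute (b⁻¹ * (u * b * u)) b := by
        rw [hub]
        show b⁻¹ * (w * b * w) * b = b * (b⁻¹ * (w * b * w))
        rw [mul_inv_cancel_left]
        calc b⁻¹ * (w * b * w) * b = (b⁻¹ * w * b) * w * b := by group
          _ = w * (b⁻¹ * w * b) * b := by rw [(commute_of_sq hW2 (hWn b hτu) hτu).eq]
          _ = w * b⁻¹ * (w * (b * b)) := by group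
          _ = w * b * w := by rw [← hbb.eq]; group
      have cv : Commute (b⁻¹ * (v * b * v)) b := by
        rw [hvb]; exact ((Commute.refl b).inv_left).mul_left (Commute.refl b).inv_left
      intro z hz
      rw [mem_centralizer_singleton_iff]
      rcases hVm z (hUV ▸ hz) with rfl | rfl | rfl | rfl
      · simp
      · exact cu.eq
      · exact cv.eq
      · have e : b⁻¹ * (u * v * b * (u * v)) = (b⁻¹ * (v * b * v)) * (b⁻¹ * (u * b * u)) := by
          have e2 : (u * v) * b * (u * v) = v * (u * b * u) * v := by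
            conv_lhs => enter [1, 1]; rw [huv.eq]
            simp [mul_assoc]
          rw [e2, show u * b * u = b * (b⁻¹ * (u * b * u)) by group,
            show v * (b * (b⁻¹ * (u * b * u))) * v = (v * b * v) * (v⁻¹ * (b⁻¹ * (u * b * u)) * v) by group,
            h.inv_eq hv, h.comm_W hv hud]
          group
        rw [e]; exact (cv.mul_left cu).eq
    have hWb := h.displace hbT hbW hall hD
    refine hbW (h.mem_W hu hu1 hbT ?_)
    rw [hub, show w * b = b * w from mem_centralizer_singleton_iff.1 (hWb hτu), mul_assoc, hW2 w hτu, mul_one]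
  -- the elements moved into `W`
  let Q : Subgroup X :=
    { carrier := {t | t ∈ T ∧ ∀ u ∈ U, t⁻¹ * (u * t * u) ∈ W}
      one_mem' := ⟨one_mem _, fun u hu => by simp [h.sq_U u hu]⟩
      mul_mem' := by
        rintro x y ⟨hx, hxd⟩ ⟨hy, hyd⟩
        refine ⟨mul_mem hx hy, fun u hu => ?_⟩
        have e : (x * y)⁻¹ * (u * (x * y) * u) = (y⁻¹ * (x⁻¹ * (u * x * u)) * y) * (y⁻¹ * (u⁻¹ * y * u)) := by
          group
        rw [e, h.inv_eq hu]
        exact mul_mem (hWn y (hxd u hu)) (hyd u hu)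
      inv_mem' := by
        rintro x ⟨hx, hxd⟩
        refine ⟨inv_mem hx, fun u hu => ?_⟩
        have e : x⁻¹⁻¹ * (u * x⁻¹ * u) = x⁻¹⁻¹ * (x⁻¹ * (u⁻¹ * x * u⁻¹))⁻¹ * x⁻¹ := by group
        rw [e, h.inv_eq hu]
        simpa using (inferInstance : W.Normal).conj_mem _ (inv_mem (hxd u hu)) x }
  have hQm : ∀ t, t ∈ Q ↔ t ∈ T ∧ ∀ u ∈ U, t⁻¹ * (u * t * u) ∈ W := fun t => Iff.rfl
  obtain ⟨u₀, hu₀, hu₀1⟩ : ∃ u ∈ U, u ≠ 1 := by
    by_contra hc
    push Not at hc
    have := h.card_U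
    rw [(Subgroup.eq_bot_iff_forall U).2 hc, card_bot] at this
    omega
  have hQ16 : Nat.card Q ≤ 16 := (Nat.card_le_card_of_injective
    (fun q : Q => (⟨q, q.2.1, q.2.2 u₀ hu₀⟩ : {t : X // t ∈ T ∧ t⁻¹ * (u₀ * t * u₀) ∈ W}))
    fun p q hpq => Subtype.ext (congrArg (fun z => z.1) hpq :)).trans (card_centralised h hu₀ hu₀1)
  by_cases hTQ : T ≤ Q
  · exact (card_le_of_le hTQ).trans hQ16
  exfalso
  obtain ⟨t₁, ht₁, ht₁Q⟩ := SetLike.not_le_iff_exists.1 hTQ
  have hvQ : ∀ v ∈ U, ∀ q ∈ Q, v * q * v ∈ Q := by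
    intro v hv q hq
    refine ⟨h.conj_mem hq.1 hv, fun u hu => ?_⟩
    have huv : Commute u v := commute_of_sq h.sq_U hu hv
    have e : (v * q * v)⁻¹ * (u * (v * q * v) * u) = v * (q⁻¹ * (u * q * u)) * v := by
      rw [mul_inv_rev, mul_inv_rev, h.inv_eq hv]
      have e3 : v * (u * v) = u := by rw [huv.eq, ← mul_assoc, h.sq_U v hv, one_mul]
      calc v * (q⁻¹ * v) * (u * (v * q * v) * u) = v * q⁻¹ * (v * (u * v)) * q * (v * u) := by simp [mul_assoc]
        _ = v * q⁻¹ * u * q * (u * v) := by rw [e3, huv.eq]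
        _ = _ := by simp [mul_assoc]
    rw [e, h.comm_W hv (hq.2 u hu)]
    exact hq.2 u hu
  let R : Subgroup X :=
    { carrier := {x | ∃ q ∈ Q, ∃ u ∈ U, x = q * u}
      one_mem' := ⟨1, one_mem _, 1, one_mem _, (one_mul 1).symm⟩
      mul_mem' := by
        rintro _ _ ⟨q, hq, u, hu, rfl⟩ ⟨p, hp, v, hv, rfl⟩
        refine ⟨q * (u * p * u), mul_mem hq (hvQ u hu p hp), u * v, mul_mem hu hv, ?_⟩
        simp only [mul_assoc]
        rw [← mul_assoc u u, h.sq_U u hu, one_mul]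
      inv_mem' := by
        rintro _ ⟨q, hq, u, hu, rfl⟩
        refine ⟨u * q⁻¹ * u, hvQ u hu _ (inv_mem hq), u, hu, ?_⟩
        rw [mul_inv_rev, h.inv_eq hu, mul_assoc (u * q⁻¹), h.sq_U u hu, mul_one] }
  have hRT : ∀ x ∈ R, x ∈ T → x ∈ Q := by
    rintro _ ⟨q, hq, u, hu, rfl⟩ hx
    have : u ∈ T := by simpa using mul_mem (inv_mem hq.1) hx
    rwa [h.inter u hu this, mul_one]
  have hRS : R ≤ T ⊔ U := by
    rintro _ ⟨q, hq, u, hu, rfl⟩
    exact mul_mem (mem_sup_left hq.1) (mem_sup_right hu)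
  obtain ⟨g, hg, hgR, hgn, hgn'⟩ := exists_normalizing (h.two.to_subgroup (T ⊔ U)) hRS fun e =>
    ht₁Q (hRT t₁ (e ▸ mem_sup_left ht₁) ht₁)
  rw [← SetLike.mem_coe, Subgroup.normal_mul] at hg
  obtain ⟨τ, hτ, u₁, hu₁, rfl⟩ := Set.mem_mul.1 hg
  have hτQ : τ ∉ Q := fun hq => hgR ⟨τ, hq, u₁, hu₁, rfl⟩
  have hUR : ∀ u ∈ U, u ∈ R := fun u hu => ⟨1, one_mem _, u, hu, (one_mul u).symm⟩
  -- the three displacements of `τ`
  have hd : ∀ u ∈ U, τ⁻¹ * (u * τ * u) ∈ Q := by
    intro u hu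
    refine hRT _ ?_ (mul_mem (inv_mem hτ) (h.conj_mem hτ hu))
    have := mul_mem (mul_mem (mul_mem (hUR u₁ hu₁) (hgn' u (hUR u hu))) (hUR u₁ hu₁)) (hUR u hu)
    rw [show u₁ * ((τ * u₁)⁻¹ * u * (τ * u₁)) * u₁ = (u₁ * u₁⁻¹) * (τ⁻¹ * u * τ) * (u₁ * u₁) by group,
      mul_inv_cancel, h.sq_U u₁ hu₁, one_mul, mul_one] at this
    rw [show τ⁻¹ * (u * τ * u) = τ⁻¹ * u * τ * u by group]
    exact this
  have hinv : ∀ u ∈ U, u * (τ⁻¹ * (u * τ * u)) * u = (τ⁻¹ * (u * τ * u))⁻¹ := fun u hu => by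
    simp [mul_assoc, h.inv_eq hu]; simp [← mul_assoc, h.sq_U u hu]
  have hdW : ∀ u ∈ U, τ⁻¹ * (u * τ * u) ∈ W → u = 1 := fun u hu hw => by
    by_contra hu1
    exact hτQ ((hQm τ).2 ⟨hτ, hinc u hu hu1 τ hτ hw⟩)
  let F : U × W → Q := fun p => ⟨τ⁻¹ * (p.1 * τ * p.1) * p.2, mul_mem (hd p.1 p.1.2)
    ⟨h.le p.2.2, fun u hu => by rw [h.comm_W hu p.2.2, inv_mul_cancel]; exact one_mem _⟩⟩
  have hF : Function.Injective F := by
    rintro ⟨⟨u, hu⟩, w⟩ ⟨⟨v, hv⟩, w'⟩ hE
    have hE' : τ⁻¹ * (u * τ * u) * (w : X) = τ⁻¹ * (v * τ * v) * w' := congrArg Subtype.val hE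
    have huv : u = v := by
      set du := τ⁻¹ * (u * τ * u) with hdu
      set dv := τ⁻¹ * (v * τ * v) with hdv
      have h1 : du⁻¹ * dv ∈ W := by
        have : du⁻¹ * dv = (w : X) * (w' : X)⁻¹ := by rw [inv_mul_eq_iff_eq_mul, ← mul_assoc, hE', mul_inv_cancel_right]
        rw [this]; exact mul_mem w.2 (inv_mem w'.2)
      have h2 : du * du ∈ W := by
        have h3 := (hd u hu).2 u hu
        rw [hinv u hu, ← mul_inv_rev] at h3
        exact inv_mem_iff.1 h3
      have h3 : du * (u * dv * u) ∈ W := by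
        have h4 : dv⁻¹ * (u * dv * u) ∈ W := (hd v hv).2 u hu
        have : du * (u * dv * u) = (du * du) * ((du⁻¹ * dv) * (dv⁻¹ * (u * dv * u))) := by group
        rw [this]; exact mul_mem h2 (mul_mem h1 h4)
      have e : du * (u * dv * u) = τ⁻¹ * ((u * v) * τ * (u * v)) := by
        conv_rhs => enter [2, 2]; rw [(commute_of_sq h.sq_U hu hv).eq]
        rw [hdu, hdv]; simp [mul_assoc]
        simp [← mul_assoc, h.sq_U u hu]
      rw [e] at h3
      exact (mul_eq_one_iff_eq_inv.1 (hdW _ (mul_mem hu hv) h3)).trans (h.inv_eq hv)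
    subst huv
    exact Prod.ext rfl (Subtype.ext (mul_left_cancel hE'))
  have hFs : Function.Surjective F := by
    refine ((Nat.bijective_iff_injective_and_card F).2 ⟨hF, le_antisymm ?_ ?_⟩).2
    · exact Nat.card_le_card_of_injective F hF
    · rw [Nat.card_prod, h.card_U, h.card_W]; exact hQ16
  -- an element of `Q` is a displacement times an element of `W`
  have hsur : ∀ q ∈ Q, q ∉ W → ∃ u ∈ U, u ≠ 1 ∧ ∃ w ∈ W, τ⁻¹ * (u * τ * u) * w = q := by
    intro q hq hqW
    obtain ⟨⟨u, w⟩, hp⟩ := hFs ⟨q, hq⟩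
    have hp' : τ⁻¹ * ((u : X) * τ * u) * w = q := congrArg Subtype.val hp
    refine ⟨u, u.2, fun e => hqW ?_, w, w.2, hp'⟩
    rw [← hp', e]; simp
  have hAW : ∀ {x : X}, x ∈ A → x ∈ T → x ∈ W := by
    intro x hxA hxT
    by_contra hxW
    have hxQ : x ∈ Q := ⟨hxT, fun u hu => by
      have hxA' : u * x * u ∈ A := by
        have := (inferInstance : A.Normal).conj_mem x hxA u
        rwa [h.inv_eq hu] at this
      by_cases hu1 : u = 1
      · simp [hu1]
      refine h.mem_W hu hu1 (mul_mem (inv_mem hxT) (h.conj_mem hxT hu)) ?_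
      rw [inv_eq_of_mul_eq_one_right (hA2 x hxA)]
      have hu2 := h.sq_U u hu
      calc u * (x * (u * x * u)) * u = (u * x * u) * (x * (u * u)) := by simp [mul_assoc]
        _ = x * (u * x * u) := by rw [hu2, mul_one, (commute_of_sq hA2 hxA' hxA).eq]⟩
    obtain ⟨u, hu, hu1, w, hw, hp⟩ := hsur x hxQ hxW
    set du := τ⁻¹ * (u * τ * u)
    have hduA : du ∈ A := by
      have : du = x * w⁻¹ := by rw [← hp, mul_inv_cancel_right]
      rw [this]; exact mul_mem hxA (inv_mem (hWA hw))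
    refine hu1 (hdW u hu (h.mem_W hu hu1 (hd u hu).1 ?_))
    rw [hinv u hu, inv_eq_of_mul_eq_one_right (hA2 _ hduA)]
  rcases hform with hT₀ | ⟨t, ht, u, hu, hu1, rfl⟩
  · exact ha₀W (hAW ha₀ hT₀)
  have htW : t ∉ W := fun hw => hu1 (hAU u hu (by simpa using mul_mem (inv_mem (hWA hw)) ha₀))
  have hinvt : u * t * u = t⁻¹ := by
    refine eq_inv_of_mul_eq_one_right ?_
    have := hA2 _ ha₀
    simpa only [mul_assoc] using this
  have htt : t * t ∈ W := by
    have h1 : t * u * (u * (t * u) * u⁻¹) = t * t := by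
      rw [show t * u * (u * (t * u) * u⁻¹) = t * (u * u) * t * (u * u⁻¹) by group, h.sq_U u hu]; simp
    refine hAW ?_ (mul_mem ht ht)
    rw [← h1]
    exact mul_mem ha₀ ((inferInstance : A.Normal).conj_mem _ ha₀ u)
  have htQ : t ∈ Q := ⟨ht, hinc u hu hu1 t ht (by rw [hinvt, ← mul_inv_rev]; exact inv_mem htt)⟩
  obtain ⟨u', hu', hu'1, w, hw, hp⟩ := hsur t htQ htW
  set du := τ⁻¹ * (u' * τ * u') with hdu
  have htw : Commute t w := by
    have h1 : Commute (t * u) w := commute_of_sq hA2 ha₀ (hWA hw)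
    have h2 : Commute u w := ((h.fix u hu hu1 w (h.le hw)).2 hw).symm
    simpa using h1.mul_left h2.inv_left
  have hinvt' : u' * t * u' = t⁻¹ := by
    have h1 : du = t * w⁻¹ := by rw [← hp, mul_inv_cancel_right]
    have h2 : u' * du * u' = du⁻¹ := hinv u' hu'
    calc u' * t * u' = (u' * du * u'⁻¹) * (u' * w * u') := by rw [← hp]; group
      _ = du⁻¹ * w := by rw [h.inv_eq hu', h2, h.comm_W hu' hw]
      _ = w * t⁻¹ * w := by rw [h1, mul_inv_rev, inv_inv]
      _ = t⁻¹ := by rw [← htw.inv_left.eq, mul_assoc, hW2 w hw, mul_one]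
  by_cases huu : u' = u
  · rw [huu] at hdu
    -- conjugating by `τ`
    set x := τ⁻¹ * (t * u) * τ with hx
    have hxA : x ∈ A := by simpa using (inferInstance : A.Normal).conj_mem _ ha₀ τ⁻¹
    have e : x * (t * u) = (τ⁻¹ * t * τ) * (du * t⁻¹) := by
      rw [← hinvt, hdu, hx]
      simp only [mul_assoc]
      rw [← mul_assoc u u, h.sq_U u hu, one_mul, mul_inv_cancel_left]
    have hdt : du * t⁻¹ ∈ W := by
      rw [← hp, show du * (du * w)⁻¹ = du * w⁻¹ * du⁻¹ by group]
      exact (inferInstance : W.Normal).conj_mem _ (inv_mem hw) du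
    have h1 : x * (t * u) ∈ W := hAW (mul_mem hxA ha₀) (by
      rw [e]
      exact mul_mem (by simpa using h.normal.conj_mem t ht τ⁻¹) (h.le hdt))
    rw [e] at h1
    have h2 : τ⁻¹ * t * τ ∈ W := by
      have := mul_mem h1 (inv_mem hdt)
      rwa [mul_inv_cancel_right] at this
    have h3 := (inferInstance : W.Normal).conj_mem _ h2 τ
    exact htW (by simpa [mul_assoc] using h3)
  · have hne : u' * u ≠ 1 := fun e => huu ((mul_eq_one_iff_eq_inv.1 e).trans (h.inv_eq hu))
    refine htW (h.mem_W (mul_mem hu' hu) hne ht ?_)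
    calc (u' * u) * t * (u' * u) = (u' * u) * t * (u * u') := by rw [(commute_of_sq h.sq_U hu' hu).eq]
      _ = u' * (u * t * u) * u' := by simp [mul_assoc]
      _ = (u' * t * u'⁻¹)⁻¹ := by rw [hinvt]; group; simp [h.inv_eq hu']
      _ = t := by rw [h.inv_eq hu', hinvt', inv_inv]

/-- A four-group with common fixed elements bounds the group or all normal elementary subgroups. -/
theorem four_main (h : Hyp T W U) (hTU : ∀ x : X, ∃ t ∈ T, ∃ u ∈ U, x = t * u) :
    Nat.card X ≤ 64 ∨ ∀ A : Subgroup X, A.Normal → (∀ a ∈ A, a * a = 1) → Nat.card A ≤ 4 := by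
  classical
  haveI := h.normal
  haveI : Fact (Nat.Prime 2) := ⟨Nat.prime_two⟩
  by_contra hcon
  push Not at hcon
  obtain ⟨hX, A₁, hA₁, hA₁2, hA₁4⟩ := hcon
  haveI := hA₁
  have hXT : Nat.card X ≤ Nat.card T * 4 := by
    have hs : Function.Surjective (fun p : T × U => (p.1 : X) * p.2) := fun x => by
      obtain ⟨t, ht, u, hu, rfl⟩ := hTU x
      exact ⟨(⟨t, ht⟩, ⟨u, hu⟩), rfl⟩
    have := Nat.card_le_card_of_surjective _ hs
    rwa [Nat.card_prod, h.card_U] at this
  -- a normal elementary group of order eight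
  obtain ⟨N₁, hN₁, hN₁A, hN₁c, -⟩ := step h.two A₁ ⊥ (bot_lt_iff_ne_bot.2 fun e => by
    rw [e, card_bot] at hA₁4; omega)
  haveI := hN₁
  rw [card_bot, mul_one] at hN₁c
  obtain ⟨N₂, hN₂, hN₂A, hN₂c, -⟩ := step h.two A₁ N₁ (lt_of_le_of_ne hN₁A fun e => by rw [← e] at hA₁4; omega)
  haveI := hN₂
  rw [hN₁c] at hN₂c
  obtain ⟨A, hA, hAA, hAc, hAd⟩ := step h.two A₁ N₂ (lt_of_le_of_ne hN₂A fun e => by rw [← e] at hA₁4; omega)
  haveI := hA
  rw [hN₂c] at hAc
  have hA2 : ∀ a ∈ A, a * a = 1 := fun a ha => hA₁2 a (hAA ha)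
  have hA8 : Nat.card A = 8 := hAc
  have hAn : ∀ (g : X) {a : X}, a ∈ A → g * a * g⁻¹ ∈ A := fun g a ha => hA.conj_mem a ha g
  -- no involution of `U` lies in `A`
  by_cases hAU : ∀ u ∈ U, u ∈ A → u = 1
  swap
  · push Not at hAU
    obtain ⟨u, hu, huA, hu1⟩ := hAU
    have hAT : ∀ a ∈ A, a ∈ T → a ∈ W := fun a ha haT => (h.fix u hu hu1 a haT).1 (commute_of_sq hA2 ha huA)
    let f : X → ↥(A ⊓ W) := fun x => ⟨x * u * x⁻¹ * u, by
      have hm : x * u * x⁻¹ * u ∈ A := mul_mem (hAn x huA) huA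
      refine mem_inf.2 ⟨hm, hAT _ hm ?_⟩
      obtain ⟨t, ht, v, hv, rfl⟩ := hTU x
      rw [show t * v * u * (t * v)⁻¹ * u = t * (v * u * v⁻¹) * t⁻¹ * u by group,
        (commute_of_sq h.sq_U hv hu).eq, mul_inv_cancel_right,
        show t * u * t⁻¹ * u = t * (u * t⁻¹ * u) by group]
      exact mul_mem ht (h.conj_mem (inv_mem ht) hu)⟩
    have hfib : ∀ x y, f x = f y → x⁻¹ * y ∈ centralizer ({u} : Set X) := by
      intro x y hxy
      have e : x * u * x⁻¹ = y * u * y⁻¹ := mul_right_cancel (congrArg Subtype.val hxy)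
      rw [mem_centralizer_singleton_iff]
      calc x⁻¹ * y * u = x⁻¹ * (y * u * y⁻¹) * y := by group
        _ = x⁻¹ * (x * u * x⁻¹) * y := by rw [e]
        _ = u * (x⁻¹ * y) := by group
    have hC : Nat.card (centralizer ({u} : Set X)) ≤ 16 := by
      have hs : ∀ c : centralizer ({u} : Set X), ∃ p : W × U, (p.1 : X) * p.2 = c := by
        intro ⟨c, hc⟩
        obtain ⟨t, ht, v, hv, rfl⟩ := hTU c
        refine ⟨(⟨t, (h.fix u hu hu1 t ht).1 ?_⟩, ⟨v, hv⟩), rfl⟩
        have hc' : Commute (t * v) u := mem_centralizer_singleton_iff.1 hc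
        simpa using hc'.mul_left ((commute_of_sq h.sq_U hv hu).inv_left)
      choose g hg using hs
      have := Nat.card_le_card_of_injective g fun a b hab => Subtype.ext (by rw [← hg a, ← hg b, hab])
      rwa [Nat.card_prod, h.card_W, h.card_U] at this
    let r : ↥(A ⊓ W) → X := fun a => if hx : ∃ x, f x = a then hx.choose else 1
    have hr : ∀ x, f (r (f x)) = f x := fun x => by
      have hx : ∃ y, f y = f x := ⟨x, rfl⟩
      simp only [r, dif_pos hx]
      exact hx.choose_spec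
    let g : X → ↥(A ⊓ W) × centralizer ({u} : Set X) := fun x => (f x, ⟨(r (f x))⁻¹ * x, hfib _ _ (hr x)⟩)
    have hg : Function.Injective g := by
      intro a b hab
      simp only [g, Prod.mk.injEq, Subtype.mk.injEq] at hab
      obtain ⟨h1, h2⟩ := hab
      rw [h1] at h2
      exact mul_left_cancel h2
    have h1 := Nat.card_le_card_of_injective g hg
    rw [Nat.card_prod] at h1
    have h2 : Nat.card ↥(A ⊓ W) ≤ 4 := (card_le_of_le inf_le_right).trans h.card_W.le
    have h3 := Nat.mul_le_mul h2 hC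
    omega
  -- displacement of an element of `A`
  have hdisp : ∀ x ∈ A, x ∈ T → ∀ v ∈ U, x⁻¹ * (v * x * v) ∈ W ∧ x⁻¹ * (v * x * v) ∈ A := by
    intro x hxA hxT v hv
    have hxA' : v * x * v ∈ A := by
      have := hAn v hxA
      rwa [h.inv_eq hv] at this
    refine ⟨?_, mul_mem (inv_mem hxA) hxA'⟩
    by_cases hv1 : v = 1
    · simp [hv1]
    refine h.mem_W hv hv1 (mul_mem (inv_mem hxT) (h.conj_mem hxT hv)) ?_
    rw [inv_eq_of_mul_eq_one_right (hA2 x hxA)]
    have hv2 := h.sq_U v hv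
    calc v * (x * (v * x * v)) * v = (v * x * v) * (x * (v * v)) := by simp [mul_assoc]
      _ = x * (v * x * v) := by rw [hv2, mul_one, (commute_of_sq hA2 hxA' hxA).eq]
  -- the case that `W` is inside `A` and normal finishes
  have hfin : ∀ (_ : W ≤ A) (_ : W.Normal), False := by
    intro hWA hWn
    obtain ⟨a₀, ha₀, ha₀W⟩ : ∃ a ∈ A, a ∉ W := by
      by_contra hc
      push Not at hc
      have := card_le_of_le (show A ≤ W from hc)
      rw [hA8, h.card_W] at this
      omega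
    obtain ⟨t, ht, u, hu, rfl⟩ := hTU a₀
    have hT16 := core h A hA2 hWA ha₀ ha₀W (by
      by_cases hu1 : u = 1
      · left; rwa [hu1, mul_one]
      · exact Or.inr ⟨t, ht, u, hu, hu1, rfl⟩) hAU
    omega
  by_cases hout : ∃ x ∈ A, x ∈ T ∧ x ∉ W
  · obtain ⟨x, hxA, hxT, hxW⟩ := hout
    have hWA : W ≤ A := h.displace hxT hxW (fun v hv => (hdisp x hxA hxT v hv).1) fun v hv => (hdisp x hxA hxT v hv).2
    refine hfin hWA ?_
    have hWN : W ≤ N₂ := h.displace hxT hxW (fun v hv => (hdisp x hxA hxT v hv).1) fun v hv => by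
      have := hAd v x hxA
      rwa [h.inv_eq hv] at this
    rw [eq_of_le_of_card_ge hWN (by rw [h.card_W, hN₂c])]
    exact hN₂
  · push Not at hout
    set A₀ := A ⊓ T with hA₀
    have hA₀W : A₀ ≤ W := fun x hx => hout x (mem_inf.1 hx).1 (mem_inf.1 hx).2
    have hform : ∀ a : A, ∃ u : U, ∃ t ∈ T, (a : X) = t * u := fun a => by
      obtain ⟨t, ht, u, hu, e⟩ := hTU a
      exact ⟨⟨u, hu⟩, t, ht, e⟩
    choose pu pt hpt hpe using hform
    by_cases hA₀4 : Nat.card A₀ = 4
    · have hA₀W' : A₀ = W := eq_of_le_of_card_ge hA₀W (by rw [hA₀4, h.card_W])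
      exact hfin (hA₀W' ▸ inf_le_left) (hA₀W' ▸ Subgroup.normal_inf_normal A T)
    -- otherwise `A₀` has order two
    have hpu_inj : ∀ a b : A, pu a = pu b → (a : X)⁻¹ * b ∈ A₀ := by
      intro a b hab
      refine mem_inf.2 ⟨mul_mem (inv_mem a.2) b.2, ?_⟩
      rw [hpe a, hpe b, hab, show (pt a * (pu b : X))⁻¹ * (pt b * (pu b : X)) =
        (pu b : X)⁻¹ * ((pt a)⁻¹ * pt b) * (pu b : X) by group]
      simpa using h.normal.conj_mem _ (mul_mem (inv_mem (hpt a)) (hpt b)) (pu b : X)⁻¹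
    let r : U → A := fun u => if hx : ∃ a, pu a = u then hx.choose else 1
    have hr : ∀ a, pu (r (pu a)) = pu a := fun a => by
      have hx : ∃ b, pu b = pu a := ⟨a, rfl⟩
      simp only [r, dif_pos hx]
      exact hx.choose_spec
    let g : A → U × A₀ := fun a => (pu a, ⟨_, hpu_inj _ a (hr a)⟩)
    have hg : Function.Injective g := by
      intro a b hab
      simp only [g, Prod.mk.injEq, Subtype.mk.injEq] at hab
      obtain ⟨h1, h2⟩ := hab
      rw [h1] at h2
      exact Subtype.ext (mul_left_cancel h2)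
    have hA₀2 : Nat.card A₀ = 2 := by
      obtain ⟨k, hk⟩ := IsPGroup.iff_card.1 (h.two.to_subgroup A₀)
      have h1 := Nat.card_le_card_of_injective g hg
      rw [Nat.card_prod, h.card_U, hA8] at h1
      have h2 := (card_le_of_le hA₀W).trans h.card_W.le
      rw [hk] at h1 h2 hA₀4 ⊢
      rcases Nat.lt_or_ge k 3 with hk3 | hk3
      · interval_cases k <;> omega
      · have := Nat.pow_le_pow_right (show 0 < 2 by norm_num) hk3
        omega
    have hgs : Function.Surjective g := ((Nat.bijective_iff_injective_and_card g).2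
      ⟨hg, by rw [Nat.card_prod, h.card_U, hA8, hA₀2]⟩).2
    -- every element of `A` is in `W U`
    have hWU : ∀ a : A, pt a ∈ W := by
      intro a
      by_contra htW
      have hd : ∀ v ∈ U, (pt a)⁻¹ * (v * pt a * v) ∈ A₀ := by
        intro v hv
        set t := pt a
        set u := (pu a : X) with hu'
        have hua : u ∈ U := (pu a).2
        set e := t⁻¹ * (v * t * v) with he
        have heT : e ∈ T := mul_mem (inv_mem (hpt a)) (h.conj_mem (hpt a) hv)
        have hprod : u⁻¹ * e * u ∈ A := by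
          have h1 : (a : X)⁻¹ * (v * a * v⁻¹) ∈ A := mul_mem (inv_mem a.2) (hAn v a.2)
          rw [hpe a, ← hu', show (t * u)⁻¹ * (v * (t * u) * v⁻¹) = u⁻¹ * (t⁻¹ * v * t * (u * v⁻¹)) by group,
            h.inv_eq hv, (commute_of_sq h.sq_U hua hv).eq] at h1
          rw [he, show u⁻¹ * (t⁻¹ * (v * t * v)) * u = u⁻¹ * (t⁻¹ * v * t * (v * u)) by group]
          exact h1
        have hp0 : u⁻¹ * e * u ∈ A₀ := mem_inf.2 ⟨hprod, by simpa using h.normal.conj_mem e heT u⁻¹⟩
        have hp1 := h.comm_W hua (hA₀W hp0)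
        rw [h.inv_eq hua] at hp0
        rw [h.inv_eq hua] at hp1
        have he2 : e = u * e * u := by
          rw [← hp1]
          simp [mul_assoc, h.sq_U u hua]
          simp [← mul_assoc, h.sq_U u hua]
        rw [he2]; exact hp0
      have hW := h.displace (hpt a) htW (fun v hv => hA₀W (hd v hv)) hd
      have := card_le_of_le hW
      rw [h.card_W, hA₀2] at this
      omega
    have hout' : ∀ a : A, pu a ≠ 1 → pt a ∉ A₀ := fun a hne hm => hne (Subtype.ext (hAU _ (pu a).2 (by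
      have := mul_mem (inv_mem (mem_inf.1 hm).1) a.2
      rwa [hpe a, inv_mul_cancel_left] at this)))
    obtain ⟨u, hu, hu1⟩ : ∃ u ∈ U, u ≠ 1 := by
      by_contra hc
      push Not at hc
      have := h.card_U
      rw [(Subgroup.eq_bot_iff_forall U).2 hc, card_bot] at this
      omega
    obtain ⟨v, hv, hv1, hvu⟩ : ∃ v ∈ U, v ≠ 1 ∧ v ≠ u := by
      by_contra hc
      push Not at hc
      have hsub : (U : Set X) ⊆ {1, u} := fun x hx => by
        by_cases hx1 : x = 1
        · exact Or.inl hx1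
        · exact Or.inr (hc x hx hx1)
      have h1 := Set.ncard_le_ncard hsub (Set.toFinite _)
      rw [← Nat.card_coe_set_eq, SetLike.coe_sort_coe, h.card_U, Set.ncard_pair hu1.symm] at h1
      omega
    obtain ⟨a, ha⟩ := hgs (⟨u, hu⟩, 1)
    obtain ⟨b, hb⟩ := hgs (⟨v, hv⟩, 1)
    have hau : pu a = ⟨u, hu⟩ := congrArg Prod.fst ha
    have hbv : pu b = ⟨v, hv⟩ := congrArg Prod.fst hb
    set c : A := a * b
    have hca : pt a * pt b * (u * v) = (c : X) := by
      have h1 : Commute u (pt b) := by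
        have := h.comm_W hu (hWU b)
        show u * pt b = pt b * u
        conv_rhs => rw [← this]
        rw [mul_assoc, h.sq_U u hu, mul_one]
      rw [show (c : X) = a * b from rfl, hpe a, hpe b, hau, hbv]
      show pt a * pt b * (u * v) = pt a * u * (pt b * v)
      rw [show pt a * u * (pt b * v) = pt a * (u * pt b) * v by group, h1.eq]; group
    rw [hpe c] at hca
    have hd1 : (pt c)⁻¹ * (pt a * pt b) = (pu c : X) * (u * v)⁻¹ := by
      rw [eq_mul_inv_iff_mul_eq, mul_assoc, hca, inv_mul_cancel_left]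
    have hd2 : (pu c : X) * (u * v)⁻¹ = 1 := h.inter _ (mul_mem (pu c).2 (inv_mem (mul_mem hu hv)))
      (hd1 ▸ mul_mem (inv_mem (hpt c)) (mul_mem (hpt a) (hpt b)))
    rw [hd2] at hd1
    have hc1 : pu c ≠ 1 := fun e => by
      rw [e] at hd2
      simp only [OneMemClass.coe_one, one_mul, inv_eq_one] at hd2
      exact hvu ((mul_eq_one_iff_eq_inv.1 hd2).trans (h.inv_eq hv)).symm
    have hidx : (A₀.subgroupOf W).index = 2 := by
      have := (A₀.subgroupOf W).card_mul_index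
      rw [h.card_W, Nat.card_congr (subgroupOfEquivOfLe hA₀W).toEquiv, hA₀2] at this
      omega
    have hm : (⟨pt a, hWU a⟩ : W) * ⟨pt b, hWU b⟩ ∈ A₀.subgroupOf W :=
      (mul_mem_iff_of_index_two hidx).2 (iff_of_false
        (fun h' => hout' a (fun e => hu1 (congrArg Subtype.val (hau.symm.trans e))) (mem_subgroupOf.1 h'))
        (fun h' => hout' b (fun e => hv1 (congrArg Subtype.val (hbv.symm.trans e))) (mem_subgroupOf.1 h')))
    refine hout' c hc1 ?_
    rw [inv_mul_eq_one.1 hd1]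
    exact mem_subgroupOf.1 hm

/-- A normal elementary subgroup of order more than four contains normal ones of orders four and eight. -/
theorem exists_normal_eight (hX : IsPGroup 2 X) (A : Subgroup X) [A.Normal] (hA : 4 < Nat.card A) :
    ∃ N A' : Subgroup X, N.Normal ∧ A'.Normal ∧ A' ≤ A ∧ Nat.card N = 4 ∧ Nat.card A' = 8 ∧ N ≤ A ∧
      ∀ g : X, ∀ a ∈ A', a⁻¹ * (g * a * g⁻¹) ∈ N := by
  obtain ⟨N₁, hN₁, hN₁A, hN₁c, -⟩ := step hX A ⊥ (bot_lt_iff_ne_bot.2 fun e => by
    rw [e, card_bot] at hA; omega)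
  haveI := hN₁
  rw [card_bot, mul_one] at hN₁c
  obtain ⟨N₂, hN₂, hN₂A, hN₂c, -⟩ := step hX A N₁ (lt_of_le_of_ne hN₁A fun e => by rw [← e] at hA; omega)
  haveI := hN₂
  rw [hN₁c] at hN₂c
  obtain ⟨A', hA', hA'A, hA'c, hd⟩ := step hX A N₂ (lt_of_le_of_ne hN₂A fun e => by rw [← e] at hA; omega)
  rw [hN₂c] at hA'c
  exact ⟨N₂, A', hN₂, hA', hA'A, hN₂c, hA'c, hN₂A, hd⟩

end Cfsg.Agent.FixityFour.VFix
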