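import Mathlib
import Cfsg.Agent.Lib.FixityFour.Pairs
import Cfsg.Agent.Lib.FixityFour.VFix

/-!
# A central involution with fixed points and another one with disjoint fixed set
-/

set_option autoImplicit false
set_option linter.style.haveILetI false
set_option linter.unusedSectionVars false

namespace Cfsg.Agent.FixityFour

open Subgroup MulAction
open scoped Pointwise

variable {G Ω : Type*} [Group G] [MulAction G Ω] [Finite G] [Finite Ω]

set_option synthInstance.maxSize 512 in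
theorem cycle_power : ∀ σ : Equiv.Perm (Fin 4), Equiv.Perm.sign σ = -1 → σ ^ 4 = 1 → ∀ k : Fin 4,
    σ ^ (k : ℕ) * σ ^ (k : ℕ) = 1 → Fintype.card {i : Fin 4 // (σ ^ (k : ℕ)) i = i} = 0 →
    σ ^ (k : ℕ) = σ * σ ∧ Fintype.card {i : Fin 4 // σ i = i} = 0 := by decide +kernel

set_option synthInstance.maxSize 512 in
theorem even_with_cycle : ∀ σ q : Equiv.Perm (Fin 4), Equiv.Perm.sign σ = -1 → σ ^ 4 = 1 →
    Fintype.card {i : Fin 4 // σ i = i} = 0 → Equiv.Perm.sign q = 1 → q ^ 4 = 1 →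
    Fintype.card {i : Fin 4 // (q * σ) i = i} = 0 → q = 1 ∨ q = σ * σ := by decide +kernel

set_option synthInstance.maxSize 512 in
theorem fixing_point : ∀ q : Equiv.Perm (Fin 4), q ^ 4 = 1 → (∃ i, q i = i) →
    q = 1 ∨ (q * q = 1 ∧ Fintype.card {i : Fin 4 // q i = i} = 2) := by decide +kernel

set_option synthInstance.maxSize 512 in
theorem even_sq : (∀ σ : Equiv.Perm (Fin 4), Equiv.Perm.sign σ = 1 → σ ^ 4 = 1 → σ * σ = 1) ∧
    Fintype.card {σ : Equiv.Perm (Fin 4) // Equiv.Perm.sign σ = 1 ∧ σ * σ = 1} = 4 := by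
  constructor <;> decide +kernel

variable [FaithfulSMul G Ω] [IsPretransitive G Ω] [IsSimpleGroup G]

/-- `z` is central, and some involution of `S` has a fixed set other than that of `z`. -/
theorem Ctx.disjoint_central (hc : Ctx G Ω)
    (hpair : ∀ d e : G, IsD Ω d → IsD Ω e → Commute d e → (fixedBy Ω d ∩ fixedBy Ω e).ncard ≠ 2)
    (S : Sylow 2 G) {z : G} (hz : IsD Ω z)
    (hzc : ∀ s ∈ (S : Subgroup G), Commute s z) {x : G} (hxS : x ∈ (S : Subgroup G)) (hx : IsD Ω x)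
    (hxF : fixedBy Ω x ≠ fixedBy Ω z) : Cfsg.SectionalPRankLE 2 4 G := by
  classical
  haveI : Fact (Nat.Prime 2) := ⟨Nat.prime_two⟩
  set F := fixedBy Ω z with hFdef
  have hF : F.ncard = 4 := hc.card_D hz
  have hFu : F ≠ Set.univ := fix_ne_univ hz.ne_one
  have hSF : (S : Subgroup G) ≤ stabilizer G F := fun s hs => mem_stab_fix (hzc s hs)
  have hdis : ∀ e ∈ (S : Subgroup G), IsD Ω e → fixedBy Ω e ≠ F → Disjoint F (fixedBy Ω e) := by
    intro e he hD hne
    rcases hc.pair hz hD (hzc e he).symm with h | h | h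
    exacts [absurd h hne, h, absurd h (hpair z e hz hD (hzc e he).symm)]
  set T := (S : Subgroup G) ⊓ fixingSubgroup G F with hT
  -- the image of an involution with other fixed points
  have himg : ∀ e (he : e ∈ (S : Subgroup G)), IsD Ω e → fixedBy Ω e ≠ F →
      Fintype.card {i : Fin 4 // rho hF ⟨e, hSF he⟩ i = i} = 0 := by
    intro e he hD hne
    rw [rho_card, Set.ncard_eq_zero (Set.toFinite _)]
    exact Set.disjoint_iff_inter_eq_empty.1 (hdis e he hD hne)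
  -- centralisers in the kernel are small
  have hker : ∀ e ∈ (S : Subgroup G), IsD Ω e → fixedBy Ω e ≠ F → ∀ a ∈ fixedBy Ω e,
      (∀ k ∈ T ⊓ centralizer ({e} : Set G), k • a ∈ fixedBy Ω e) ∧
      (∀ k ∈ T ⊓ centralizer ({e} : Set G), k • a = a → k = 1) := by
    intro e he hD hne a ha
    have haF : a ∉ F := fun h => (hdis e he hD hne).le_bot ⟨h, ha⟩
    refine ⟨fun k hk => smul_mem_of_mem (mem_stab_fix (mem_centralizer_singleton_iff.1 (mem_inf.1 hk).2)) ha,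
      fun k hk hka => hc.eq_one_of_five hF (mem_inf.1 (mem_inf.1 hk).1).2 haF hka⟩
  have hker4 : ∀ e ∈ (S : Subgroup G), IsD Ω e → fixedBy Ω e ≠ F →
      Nat.card ↥(T ⊓ centralizer ({e} : Set G)) ≤ 4 := by
    intro e he hD hne
    obtain ⟨a, ha⟩ := hD.2
    exact (card_le_of_free (Set.toFinite _) _ (hker e he hD hne a ha).1 (hker e he hD hne a ha).2).trans
      (hc.card_D hD).le
  have hpow4 : ∀ s (hs : s ∈ (S : Subgroup G)), rho hF ⟨s, hSF hs⟩ ^ 4 = 1 := fun s hs =>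
    rho_pow_four hF S.isPGroup' hs (hSF hs)
  -- centraliser = kernel part times image
  have hsplit : ∀ (L : Subgroup G) (e : G), L ≤ (S : Subgroup G) → e ∈ (S : Subgroup G) → IsD Ω e →
      fixedBy Ω e ≠ F → ∀ (P : Equiv.Perm (Fin 4) → Prop) (k : ℕ), Nat.card {q // P q} ≤ k →
      (∀ s (hs : s ∈ (S : Subgroup G)), s ∈ L → Commute s e → P (rho hF ⟨s, hSF hs⟩)) →
      Nat.card ↥(L ⊓ centralizer ({e} : Set G)) ≤ 4 * k := by
    intro L e hL he hD hne P k hk hP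
    obtain ⟨I, hI, hIm⟩ := card_split hF (L ⊓ centralizer ({e} : Set G)) ((inf_le_left.trans hL).trans hSF)
    rw [hI]
    refine Nat.mul_le_mul ((card_le_of_le fun g hg => ?_).trans (hker4 e he hD hne)) (le_trans ?_ hk)
    · obtain ⟨⟨hgL, hgc⟩, hgF⟩ := (mem_inf.1 hg).imp_left mem_inf.1
      exact mem_inf.2 ⟨mem_inf.2 ⟨hL hgL, hgF⟩, hgc⟩
    · refine Nat.card_le_card_of_injective (fun q : I => (⟨q.1, ?_⟩ : {q // P q})) fun p q hpq =>
        Subtype.ext (congrArg (fun z => z.1) hpq :)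
      obtain ⟨g, hg, hq⟩ := (hIm _).1 q.2
      rw [← hq]
      exact hP g (hL (mem_inf.1 hg).1) (mem_inf.1 hg).1 (mem_centralizer_singleton_iff.1 (mem_inf.1 hg).2)
  by_cases hodd : ∃ (y : G) (hy : y ∈ (S : Subgroup G)), Equiv.Perm.sign (rho hF ⟨y, hSF hy⟩) = -1
  · by_cases hreg : ∃ (y : G) (hy : y ∈ (S : Subgroup G)), Equiv.Perm.sign (rho hF ⟨y, hSF hy⟩) = -1 ∧
        ∀ j : ℕ, y ^ j ≠ 1 → ∀ a, a ∉ F → y ^ j • a ≠ a
    · obtain ⟨y, hy, hs, hfree⟩ := hreg
      exact hc.sec_of_odd S hF hFu hSF hy hs hfree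
    push Not at hreg
    -- every odd element is a four-cycle on `F` whose square is the image of an involution in its powers
    have hcyc : ∀ y (hy : y ∈ (S : Subgroup G)), Equiv.Perm.sign (rho hF ⟨y, hSF hy⟩) = -1 →
        Fintype.card {i : Fin 4 // rho hF ⟨y, hSF hy⟩ i = i} = 0 ∧
        ∃ u, u ∈ zpowers y ∧ ∃ hu : u ∈ (S : Subgroup G), IsD Ω u ∧ fixedBy Ω u ≠ F ∧
          rho hF ⟨u, hSF hu⟩ = rho hF ⟨y, hSF hy⟩ * rho hF ⟨y, hSF hy⟩ := by
      intro y hy hs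
      obtain ⟨j, hj, a, haF, hja⟩ := hreg y hy hs
      obtain ⟨k, hk, hkS, hsub⟩ := exists_D_pow S.isPGroup' (pow_mem hy j) hj hja
      rw [← pow_mul] at hk hkS hsub
      have hne : fixedBy Ω (y ^ (j * k)) ≠ F := fun e => haF (e ▸ hsub hja)
      have h0 := himg _ hkS hk hne
      set σ := rho hF ⟨y, hSF hy⟩ with hσ
      have hσ4 := hpow4 y hy
      have he : rho hF ⟨y ^ (j * k), hSF hkS⟩ = σ ^ ((⟨(j * k) % 4, Nat.mod_lt _ (by norm_num)⟩ : Fin 4) : ℕ) := by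
        rw [show (⟨y ^ (j * k), hSF hkS⟩ : stabilizer G F) = ⟨y, hSF hy⟩ ^ (j * k) from Subtype.ext rfl, map_pow]
        conv_lhs => rw [← Nat.mod_add_div (j * k) 4]
        rw [pow_add, pow_mul, hσ4, one_pow, mul_one]
      rw [he] at h0
      have hsq : rho hF ⟨y ^ (j * k), hSF hkS⟩ * rho hF ⟨y ^ (j * k), hSF hkS⟩ = 1 := by
        rw [← map_mul]
        convert map_one (rho hF)
        exact Subtype.ext hk.sq
      rw [he] at hsq
      obtain ⟨h1, h2⟩ := cycle_power σ hs hσ4 _ hsq h0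
      exact ⟨h2, _, pow_mem (mem_zpowers y) _, hkS, hk, hne, he.trans h1⟩
    obtain ⟨y, hy, hys⟩ := hodd
    set σ := rho hF ⟨y, hSF hy⟩ with hσ
    obtain ⟨hσ0, u, -, hu, huD, hune, huσ⟩ := hcyc y hy hys
    have hevI : ∀ s (hs : s ∈ (S : Subgroup G)), Equiv.Perm.sign (rho hF ⟨s, hSF hs⟩) = 1 →
        rho hF ⟨s, hSF hs⟩ = 1 ∨ rho hF ⟨s, hSF hs⟩ = σ * σ := by
      intro s hs hev
      refine even_with_cycle σ _ hys (hpow4 y hy) hσ0 hev (hpow4 s hs) ?_
      have h1 := (hcyc (s * y) (mul_mem hs hy) (by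
        rw [show (⟨s * y, hSF (mul_mem hs hy)⟩ : stabilizer G F) = ⟨s, hSF hs⟩ * ⟨y, hSF hy⟩ from Subtype.ext rfl,
          map_mul, map_mul, hev, hys, one_mul])).1
      rwa [show (⟨s * y, hSF (mul_mem hs hy)⟩ : stabilizer G F) = ⟨s, hSF hs⟩ * ⟨y, hSF hy⟩ from Subtype.ext rfl,
        map_mul] at h1
    refine rank_of_sec S fun H hH N hN hsq => ?_
    by_cases hHodd : ∃ h ∈ H, ∃ hh : h ∈ (S : Subgroup G), Equiv.Perm.sign (rho hF ⟨h, hSF hh⟩) = -1
    · obtain ⟨h, hhH, hh, hhs⟩ := hHodd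
      obtain ⟨-, v, hv, hvS, hvD, hvne, -⟩ := hcyc h hh hhs
      refine (relIndex_le_centralizer hN hsq (zpowers_le.2 hhH hv)).trans ?_
      refine hsplit H v hH hvS hvD hvne
        (fun q => q = 1 ∨ q = σ * σ ∨ q * σ = 1 ∨ q * σ = σ * σ) 4 ?_ fun s hs _ _ => ?_
      · have hsub : ∀ q : {q // q = 1 ∨ q = σ * σ ∨ q * σ = 1 ∨ q * σ = σ * σ},
            q.1 ∈ ({1, σ * σ, σ⁻¹, σ} : Finset (Equiv.Perm (Fin 4))) := by
          rintro ⟨q, h | h | h | h⟩
          · simp [h]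
          · simp [h]
          · simp [eq_inv_of_mul_eq_one_left h]
          · simp [mul_right_cancel h]
        refine (Nat.card_le_card_of_injective (fun q => (⟨_, hsub q⟩ : ({1, σ * σ, σ⁻¹, σ} : Finset _)))
          fun p q hpq => Subtype.ext (congrArg (fun z => z.1) hpq :)).trans ?_
        rw [Nat.card_eq_fintype_card, Fintype.card_coe]
        exact Finset.card_le_four
      · rcases Int.units_eq_one_or (Equiv.Perm.sign (rho hF ⟨s, hSF hs⟩)) with hev | hev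
        · rcases hevI s hs hev with h | h
          exacts [Or.inl h, Or.inr (Or.inl h)]
        · have e : (⟨s * y, hSF (mul_mem hs hy)⟩ : stabilizer G F) = ⟨s, hSF hs⟩ * ⟨y, hSF hy⟩ := Subtype.ext rfl
          rcases hevI (s * y) (mul_mem hs hy) (by rw [e, map_mul, map_mul, hev, hys]; rfl) with h | h <;>
            rw [e, map_mul] at h
          exacts [Or.inr (Or.inr (Or.inl h)), Or.inr (Or.inr (Or.inr h))]
    · push Not at hHodd
      let φ : (S : Subgroup G) →* ℤˣ :=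
        Equiv.Perm.sign.comp ((rho hF).comp (inclusion hSF))
      set K := φ.ker.map (S : Subgroup G).subtype with hK
      have hKS : K ≤ (S : Subgroup G) := map_subtype_le _
      have hKm : ∀ s (hs : s ∈ (S : Subgroup G)), s ∈ K ↔ Equiv.Perm.sign (rho hF ⟨s, hSF hs⟩) = 1 := by
        intro s hs
        constructor
        · rintro ⟨s', hs', rfl⟩; exact hs'
        · exact fun h => ⟨⟨s, hs⟩, h, rfl⟩
      refine sec_of_small (S.isPGroup'.to_le hKS) ((hKm u hu).2 ?_) huD.sq ?_ H (fun h hh => ?_) N hN hsq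
      · rw [huσ, map_mul, hys]; rfl
      · refine hsplit K u hKS hu huD hune (fun q => q = 1 ∨ q = σ * σ) 2 ?_ fun s hs hsK _ =>
          hevI s hs ((hKm s hs).1 hsK)
        have hsub : ∀ q : {q // q = 1 ∨ q = σ * σ}, q.1 ∈ ({1, σ * σ} : Finset (Equiv.Perm (Fin 4))) := by
          rintro ⟨q, h | h⟩ <;> simp [h]
        refine (Nat.card_le_card_of_injective (fun q => (⟨_, hsub q⟩ : ({1, σ * σ} : Finset _)))
          fun p q hpq => Subtype.ext (congrArg (fun z => z.1) hpq :)).trans ?_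
        rw [Nat.card_eq_fintype_card, Fintype.card_coe]
        exact Finset.card_le_two
      · exact (hKm h (hH hh)).2 ((Int.units_eq_one_or _).resolve_right (hHodd h hh (hH hh)))
  push Not at hodd
  obtain ⟨hsq4, hcard4⟩ := even_sq
  have hev : ∀ s (hs : s ∈ (S : Subgroup G)), Equiv.Perm.sign (rho hF ⟨s, hSF hs⟩) = 1 ∧
      rho hF ⟨s, hSF hs⟩ * rho hF ⟨s, hSF hs⟩ = 1 := fun s hs =>
    ⟨(Int.units_eq_one_or _).resolve_right (hodd s hs),
      hsq4 _ ((Int.units_eq_one_or _).resolve_right (hodd s hs)) (hpow4 s hs)⟩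
  have hC16 : ∀ e ∈ (S : Subgroup G), IsD Ω e → fixedBy Ω e ≠ F →
      Nat.card ↥((S : Subgroup G) ⊓ centralizer ({e} : Set G)) ≤ 16 := fun e he hD hne =>
    hsplit (S : Subgroup G) e le_rfl he hD hne
      (fun q => Equiv.Perm.sign q = 1 ∧ q * q = 1) 4 (by rw [Nat.card_eq_fintype_card, hcard4])
      fun s hs _ _ => hev s hs
  refine rank_of_sec S ?_
  set C := (S : Subgroup G) ⊓ centralizer ({x} : Set G) with hC
  by_cases h8 : Nat.card C ≤ 8
  · exact sec_of_small S.isPGroup' hxS hx.sq h8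
  have hCp : IsPGroup 2 C := S.isPGroup'.to_le inf_le_left
  have hC16' : Nat.card C = 16 := by
    obtain ⟨k, hk⟩ := IsPGroup.iff_card.1 hCp
    have h1 := hC16 x hxS hx hxF
    rw [← hC, hk] at h1
    rw [hk] at h8 ⊢
    rcases Nat.lt_or_ge k 4 with h | h
    · have := Nat.pow_le_pow_right (show 0 < 2 by norm_num) (show k ≤ 3 by omega); omega
    · have := Nat.pow_le_pow_right (show 0 < 2 by norm_num) h; omega
  set F' := fixedBy Ω x with hF'def
  have hF' : F'.ncard = 4 := hc.card_D hx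
  have hCc : ∀ c ∈ C, Commute c x := fun c hc' => mem_centralizer_singleton_iff.1 (mem_inf.1 hc').2
  have hCF' : C ≤ stabilizer G F' := fun c hc' => mem_stab_fix (hCc c hc')
  have hdisj : Disjoint F F' := hdis x hxS hx hxF
  set W := T ⊓ centralizer ({x} : Set G) with hW
  have hWC : W ≤ C := inf_le_inf_right _ inf_le_left
  set U := C ⊓ fixingSubgroup G F' with hU
  obtain ⟨I, hI, hIm⟩ := card_split hF C ((inf_le_left : C ≤ _).trans hSF)
  have hI4 : Nat.card I ≤ 4 := by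
    refine (Nat.card_le_card_of_injective
      (fun q : I => (⟨q.1, ?_⟩ : {σ : Equiv.Perm (Fin 4) // Equiv.Perm.sign σ = 1 ∧ σ * σ = 1}))
      fun p q hpq => Subtype.ext (congrArg (fun z => z.1) hpq :)).trans (by rw [Nat.card_eq_fintype_card, hcard4])
    obtain ⟨g, hg, hq⟩ := (hIm _).1 q.2
    rw [← hq]; exact hev g (mem_inf.1 hg).1
  have hW4 : Nat.card W = 4 := by
    refine le_antisymm (hker4 x hxS hx hxF) ?_
    have hle : Nat.card ↥(C ⊓ fixingSubgroup G F) ≤ Nat.card W := card_le_of_le fun g hg => by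
      obtain ⟨hgC, hgF⟩ := mem_inf.1 hg
      exact mem_inf.2 ⟨mem_inf.2 ⟨(mem_inf.1 hgC).1, hgF⟩, (mem_inf.1 hgC).2⟩
    rw [hC16'] at hI
    have := Nat.mul_le_mul hle hI4
    omega
  obtain ⟨a, ha⟩ := hx.2
  obtain ⟨hWa, hWfree⟩ := hker x hxS hx hxF a ha
  have horb : ∀ b ∈ F', ∃ w ∈ W, w • a = b := by
    intro b hb
    let f : W → F' := fun w => ⟨(w : G) • a, hWa w w.2⟩
    have hf : Function.Injective f := fun v w hvw => by
      have h' : (v : G) • a = (w : G) • a := congrArg Subtype.val hvw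
      exact Subtype.ext (inv_mul_eq_one.1 (hWfree ((w : G)⁻¹ * v) (mul_mem (inv_mem w.2) v.2)
        (by rw [mul_smul, h', inv_smul_smul]))).symm
    obtain ⟨w, hw⟩ := ((Nat.bijective_iff_injective_and_card f).2
      ⟨hf, by rw [hW4, Nat.card_coe_set_eq, hF']⟩).2 ⟨b, hb⟩
    exact ⟨w, w.2, congrArg Subtype.val hw⟩
  -- the centraliser is the product
  have hWU : ∀ c ∈ C, ∃ w ∈ W, ∃ u ∈ U, c = w * u := by
    intro c hc'
    obtain ⟨w, hw, hwa⟩ := horb _ (smul_mem_of_mem (hCF' hc') ha)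
    set q := w⁻¹ * c with hq
    have hqC : q ∈ C := mul_mem (inv_mem (hWC hw)) hc'
    have hqa : q • a = a := by rw [hq, mul_smul, ← hwa, inv_smul_smul]
    refine ⟨w, hw, q, mem_inf.2 ⟨hqC, ?_⟩, (mul_inv_cancel_left w c).symm⟩
    have h4 : rho hF' ⟨q, hCF' hqC⟩ ^ 4 = 1 := rho_pow_four hF' hCp hqC (hCF' hqC)
    have hfx : ∃ i, rho hF' ⟨q, hCF' hqC⟩ i = i := by
      have h1 : 0 < Fintype.card {i : Fin 4 // rho hF' ⟨q, hCF' hqC⟩ i = i} := by
        rw [rho_card]; exact (Set.ncard_pos (Set.toFinite _)).2 ⟨a, ha, hqa⟩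
      obtain ⟨⟨i, hi⟩⟩ := Fintype.card_pos_iff.1 h1
      exact ⟨i, hi⟩
    rcases fixing_point _ h4 hfx with h | ⟨hsq, h2⟩
    · exact (rho_one hF' (hCF' hqC)).1 h
    · exfalso
      rw [rho_card] at h2
      have hqq' : q * q ∈ fixingSubgroup G F' := (rho_one hF' (hCF' (mul_mem hqC hqC))).1 (by
        rw [show (⟨q * q, hCF' (mul_mem hqC hqC)⟩ : stabilizer G F') = ⟨q, hCF' hqC⟩ * ⟨q, hCF' hqC⟩ from
          Subtype.ext rfl, map_mul]
        exact hsq)
      have hqS : q ∈ (S : Subgroup G) := (mem_inf.1 hqC).1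
      have hqq : q * q ∈ fixingSubgroup G F := (rho_one hF (hSF (mul_mem hqS hqS))).1 (by
        rw [show (⟨q * q, hSF (mul_mem hqS hqS)⟩ : stabilizer G F) = ⟨q, hSF hqS⟩ * ⟨q, hSF hqS⟩ from
          Subtype.ext rfl, map_mul]
        exact (hev q hqS).2)
      have h1 : q * q = 1 := hc.eq_one_of_five hF hqq (fun h => hdisj.le_bot ⟨h, ha⟩) (mem_fixing.1 hqq' a ha)
      have hq1 : q ≠ 1 := by
        intro e
        rw [e, fixedBy_one_eq_univ, Set.inter_univ, hF'] at h2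
        omega
      exact hpair x q hx ⟨orderOf_eq_prime (by rw [pow_two]; exact h1) hq1, a, hqa⟩ (hCc q hqC).symm h2
  have hUT : ∀ u ∈ U, u ∈ T → u = 1 := fun u hu huT =>
    hc.eq_one_of_five hF (mem_inf.1 huT).2 (fun h => hdisj.le_bot ⟨h, ha⟩) (mem_fixing.1 (mem_inf.1 hu).2 a ha)
  let g : U → {σ : Equiv.Perm (Fin 4) // Equiv.Perm.sign σ = 1 ∧ σ * σ = 1} :=
    fun u => ⟨rho hF ⟨u, hSF (mem_inf.1 (mem_inf.1 u.2).1).1⟩, hev u (mem_inf.1 (mem_inf.1 u.2).1).1⟩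
  have hg : Function.Injective g := by
    intro u v huv
    have h1 : rho hF ⟨u, hSF (mem_inf.1 (mem_inf.1 u.2).1).1⟩ = rho hF ⟨v, hSF (mem_inf.1 (mem_inf.1 v.2).1).1⟩ :=
      congrArg Subtype.val huv
    have hm : (u : G)⁻¹ * v ∈ (S : Subgroup G) :=
      mul_mem (inv_mem (mem_inf.1 (mem_inf.1 u.2).1).1) (mem_inf.1 (mem_inf.1 v.2).1).1
    refine Subtype.ext (inv_mul_eq_one.1 (hUT _ (mul_mem (inv_mem u.2) v.2) (mem_inf.2 ⟨hm, ?_⟩)))
    refine (rho_one hF (hSF hm)).1 ?_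
    rw [show (⟨(u : G)⁻¹ * v, hSF hm⟩ : stabilizer G F) =
      (⟨u, hSF (mem_inf.1 (mem_inf.1 u.2).1).1⟩ : stabilizer G F)⁻¹ * ⟨v, hSF (mem_inf.1 (mem_inf.1 v.2).1).1⟩ from
      Subtype.ext rfl, map_mul, map_inv]
    exact inv_mul_eq_one.2 h1
  have hU4 : Nat.card U = 4 := by
    refine le_antisymm (le_trans (Nat.card_le_card_of_injective g hg)
      (by rw [Nat.card_eq_fintype_card, hcard4])) ?_
    have hs : Function.Surjective (fun p : W × U => (⟨p.1 * p.2, mul_mem (hWC p.1.2) (mem_inf.1 p.2.2).1⟩ : C)) := by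
      rintro ⟨c, hc'⟩
      obtain ⟨w, hw, u, hu, e⟩ := hWU c hc'
      exact ⟨(⟨w, hw⟩, ⟨u, hu⟩), Subtype.ext e.symm⟩
    have := Nat.card_le_card_of_surjective _ hs
    rw [Nat.card_prod, hW4, hC16'] at this
    omega
  have hgs : Function.Surjective g := ((Nat.bijective_iff_injective_and_card g).2
    ⟨hg, by rw [hU4, Nat.card_eq_fintype_card, hcard4]⟩).2
  have hTU : ∀ s ∈ (S : Subgroup G), ∃ t ∈ T, ∃ u ∈ U, s = t * u := by
    intro s hs
    obtain ⟨u, hu⟩ := hgs ⟨_, hev s hs⟩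
    have huS := (mem_inf.1 (mem_inf.1 u.2).1).1
    have h1 : rho hF ⟨u, hSF huS⟩ = rho hF ⟨s, hSF hs⟩ := congrArg Subtype.val hu
    refine ⟨s * (u : G)⁻¹, mem_inf.2 ⟨mul_mem hs (inv_mem huS), ?_⟩, u, u.2, (inv_mul_cancel_right _ _).symm⟩
    refine (rho_one hF (hSF (mul_mem hs (inv_mem huS)))).1 ?_
    rw [show (⟨s * (u : G)⁻¹, hSF (mul_mem hs (inv_mem huS))⟩ : stabilizer G F) =
      ⟨s, hSF hs⟩ * (⟨u, hSF huS⟩ : stabilizer G F)⁻¹ from Subtype.ext rfl, map_mul, map_inv]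
    exact mul_inv_eq_one.2 h1.symm
  have hTn : ∀ s ∈ (S : Subgroup G), ∀ t ∈ T, s * t * s⁻¹ ∈ T := by
    intro s hs t ht
    refine mem_inf.2 ⟨mul_mem (mul_mem hs (mem_inf.1 ht).1) (inv_mem hs), mem_fixing.2 fun b hb => ?_⟩
    rw [mul_smul, mul_smul, mem_fixing.1 (mem_inf.1 ht).2 _ (smul_mem_of_mem (inv_mem (hSF hs)) hb), smul_inv_smul]
  have hUD : ∀ u ∈ U, u ≠ 1 → u * u = 1 ∧ IsD Ω u ∧ fixedBy Ω u = F' := by
    intro u hu hu1
    have huS : u ∈ (S : Subgroup G) := (mem_inf.1 (mem_inf.1 hu).1).1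
    have hsq : u * u = 1 := hUT _ (mul_mem hu hu) (mem_inf.2 ⟨mul_mem huS huS,
      (rho_one hF (hSF (mul_mem huS huS))).1 (by
        rw [show (⟨u * u, hSF (mul_mem huS huS)⟩ : stabilizer G F) = ⟨u, hSF huS⟩ * ⟨u, hSF huS⟩ from
          Subtype.ext rfl, map_mul]
        exact (hev u huS).2)⟩)
    exact ⟨hsq, ⟨orderOf_eq_prime (by rw [pow_two]; exact hsq) hu1, a, mem_fixing.1 (mem_inf.1 hu).2 a ha⟩,
      hc.fix_eq hF' (mem_inf.1 hu).2 hu1⟩
  have hne' : ∀ u ∈ U, u ≠ 1 → fixedBy Ω u ≠ F := fun u hu hu1 => by rw [(hUD u hu hu1).2.2]; exact hxF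
  have hUS : U ≤ (S : Subgroup G) := inf_le_left.trans inf_le_left
  have hcommWU : ∀ w ∈ W, ∀ u ∈ U, Commute w u := by
    intro w hw u hu
    have hwu : w * u * w⁻¹ * u⁻¹ = 1 := by
      refine hUT _ (mul_mem (mem_inf.2 ⟨mul_mem (mul_mem (hWC hw) (mem_inf.1 hu).1) (inv_mem (hWC hw)), ?_⟩)
        (inv_mem hu)) ?_
      · refine mem_fixing.2 fun b hb => ?_
        rw [mul_smul, mul_smul, mem_fixing.1 (mem_inf.1 hu).2 _ (smul_mem_of_mem (inv_mem (hCF' (hWC hw))) hb),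
          smul_inv_smul]
      · rw [show w * u * w⁻¹ * u⁻¹ = w * (u * w⁻¹ * u⁻¹) by group]
        exact mul_mem (mem_inf.1 hw).1 (hTn u (hUS hu) _ (inv_mem (mem_inf.1 hw).1))
    show w * u = u * w
    calc w * u = w * u * w⁻¹ * u⁻¹ * (u * w) := by group
      _ = u * w := by rw [hwu, one_mul]
  set X := (S : Subgroup G)
  have hyp : VFix.Hyp (T.subgroupOf X) (W.subgroupOf X) (U.subgroupOf X) :=
    { two := S.isPGroup'
      normal := ⟨fun t ht s => mem_subgroupOf.2 (hTn s s.2 t ht)⟩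
      le := fun t ht => (mem_inf.1 (mem_subgroupOf.1 ht)).1
      card_W := (Nat.card_congr (subgroupOfEquivOfLe (hWC.trans inf_le_left)).toEquiv).trans hW4
      card_U := (Nat.card_congr (subgroupOfEquivOfLe hUS).toEquiv).trans hU4
      sq_U := fun u hu => by
        by_cases hu1 : u = 1
        · simp [hu1]
        · exact Subtype.ext (hUD _ hu fun e => hu1 (Subtype.ext e)).1
      inter := fun u hu huT => Subtype.ext (hUT _ hu huT)
      fix := fun u hu hu1 t ht => by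
        have hu' : (u : G) ≠ 1 := fun e => hu1 (Subtype.ext e)
        have hWeq : W = T ⊓ centralizer ({(u : G)} : Set G) := eq_of_le_of_card_ge
          (fun w hw => mem_inf.2 ⟨(mem_inf.1 hw).1, mem_centralizer_singleton_iff.2 (hcommWU w hw u hu).eq⟩)
          (by rw [hW4]; exact hker4 _ u.2 (hUD _ hu hu').2.1 (hne' _ hu hu'))
        rw [mem_subgroupOf, hWeq, mem_inf, mem_centralizer_singleton_iff]
        exact ⟨fun h => ⟨ht, congrArg Subtype.val h.eq⟩, fun h => Subtype.ext h.2⟩ }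
  rcases VFix.four_main hyp (fun s => by
      obtain ⟨t, ht, u, hu, e⟩ := hTU s s.2
      exact ⟨⟨t, (mem_inf.1 ht).1⟩, ht, ⟨u, hUS hu⟩, hu, Subtype.ext e⟩) with hsmall | hnorm
  · exact sec_of_four hUS hU4 hsmall fun u hu hu1 => hC16 u (hUS hu) (hUD u hu hu1).2.1 (hne' u hu hu1)
  · refine sec_of_normal S.isPGroup' fun A hA hA2 hAn => ?_
    rw [← Nat.card_congr (subgroupOfEquivOfLe hA).toEquiv]
    exact hnorm _ ⟨fun a ha s => mem_subgroupOf.2 (hAn s s.2 a ha)⟩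
      fun a ha => Subtype.ext (hA2 a ha)

end Cfsg.Agent.FixityFour
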