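import Mathlib
import Cfsg.Agent.Lib.FixityFour.Pairs
import Cfsg.Agent.Lib.FixityFour.VFix
import Cfsg.Agent.Lib.FixityFour.DisjointA

/-!
# The stabiliser of the fixed set of an involution is not a Sylow subgroup
-/

set_option autoImplicit false
set_option linter.style.haveILetI false
set_option linter.unusedSectionVars false

namespace Cfsg.Agent.FixityFour

open Subgroup MulAction
open scoped Pointwise

section PureGroup

variable {G : Type*} [Group G] [Finite G]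

/-- The four-group inside an abelian group of order sixteen: the final count. -/
theorem sec_of_split {S A Δ Q : Subgroup G} (hS : IsPGroup 2 S) (hAS : A ≤ S) (hA2 : ∀ a ∈ A, a * a = 1)
    (hA8 : Nat.card A = 8) (hAn : ∀ s ∈ S, ∀ a ∈ A, s * a * s⁻¹ ∈ A) (hΔA : Δ ≤ A) (hΔ4 : Nat.card Δ = 4)
    (hΔn : ∀ s ∈ S, ∀ a ∈ Δ, s * a * s⁻¹ ∈ Δ) (hd : ∀ s ∈ S, ∀ a ∈ A, a⁻¹ * (s * a * s⁻¹) ∈ Δ)
    (hQS : Q ≤ S) (hQ4 : Nat.card Q = 4) (hQ2 : ∀ q ∈ Q, q * q = 1)
    (hQΔ : ∀ q ∈ Q, ∀ a ∈ Δ, Commute q a)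
    (hfix : ∀ q ∈ Q, q ≠ 1 → ∀ b ∈ S, (∀ a ∈ A, Commute b a) → Commute b q → b ∈ Δ)
    (hQA : ∀ q ∈ Q, (∀ a ∈ A, Commute q a) → q = 1)
    (hC : ∀ q ∈ Q, q ≠ 1 → Nat.card ↥(S ⊓ centralizer ({q} : Set G)) ≤ 16) : Sec S := by
  classical
  haveI : Fact (Nat.Prime 2) := ⟨Nat.prime_two⟩
  set B := S ⊓ centralizer (A : Set G) with hB
  have hBc : ∀ b ∈ B, ∀ a ∈ A, Commute b a := fun b hb a ha =>
    (mem_centralizer_iff.1 (mem_inf.1 hb).2 a ha).symm
  have hBof : ∀ b ∈ S, (∀ a ∈ A, Commute b a) → b ∈ B := fun b hb h =>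
    mem_inf.2 ⟨hb, mem_centralizer_iff.2 fun a ha => (h a ha).symm.eq⟩
  have hBS : B ≤ S := inf_le_left
  have hAB : A ≤ B := fun a ha => hBof a (hAS ha) fun c hc => commute_of_sq hA2 ha hc
  have hBn : ∀ s ∈ S, ∀ b ∈ B, s * b * s⁻¹ ∈ B := by
    intro s hs b hb
    refine hBof _ (mul_mem (mul_mem hs (hBS hb)) (inv_mem hs)) fun a ha => ?_
    have h1 : Commute b (s⁻¹ * a * s⁻¹⁻¹) := hBc b hb _ (hAn s⁻¹ (inv_mem hs) a ha)
    have := h1.map (MulAut.conj s).toMonoidHom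
    simpa [mul_assoc] using this
  obtain ⟨a, ha, haΔ⟩ : ∃ a ∈ A, a ∉ Δ := by
    by_contra h
    push Not at h
    have := card_le_of_le (show A ≤ Δ from h)
    omega
  -- `B` is small
  have hB16 : Nat.card B ≤ 16 := by
    haveI : (B.subgroupOf S).Normal := ⟨fun b hb s => mem_subgroupOf.2 (hBn s s.2 b hb)⟩
    haveI : (Δ.subgroupOf S).Normal := ⟨fun b hb s => mem_subgroupOf.2 (hΔn s s.2 b hb)⟩
    haveI : (A.subgroupOf S).Normal := ⟨fun b hb s => mem_subgroupOf.2 (hAn s s.2 b hb)⟩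
    have hyp : VFix.Hyp (B.subgroupOf S) (Δ.subgroupOf S) (Q.subgroupOf S) :=
      { two := hS
        normal := inferInstance
        le := fun b hb => hAB (hΔA hb)
        card_W := (Nat.card_congr (subgroupOfEquivOfLe (hΔA.trans hAS)).toEquiv).trans hΔ4
        card_U := (Nat.card_congr (subgroupOfEquivOfLe hQS).toEquiv).trans hQ4
        sq_U := fun q hq => Subtype.ext (hQ2 _ hq)
        inter := fun q hq hqB => Subtype.ext (hQA _ hq (hBc _ hqB))
        fix := fun q hq hq1 b hb => by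
          constructor
          · intro h
            exact hfix _ hq (fun e => hq1 (Subtype.ext e)) _ b.2 (hBc _ hb) (congrArg Subtype.val h.eq)
          · intro h
            exact Subtype.ext (hQΔ _ hq _ h).symm.eq }
    rw [← Nat.card_congr (subgroupOfEquivOfLe hBS).toEquiv]
    exact VFix.core hyp (A.subgroupOf S) (fun x hx => Subtype.ext (hA2 _ hx)) (fun x hx => hΔA hx)
      (a₀ := ⟨a, hAS ha⟩) ha haΔ (Or.inl (hAB ha))
      (fun q hq hqA => Subtype.ext (hQA _ hq fun c hc => commute_of_sq hA2 hqA hc))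
  -- displacement of `a`
  let δ : S → Δ := fun s => ⟨a⁻¹ * ((s : G) * a * (s : G)⁻¹), hd s s.2 a ha⟩
  have hgen : ∀ s : G, s * a * s⁻¹ = a → (∀ c ∈ Δ, Commute s c) → ∀ c ∈ A, Commute s c := by
    intro s hsa hsΔ
    have hidx : (Δ.subgroupOf A).index = 2 := by
      have := (Δ.subgroupOf A).card_mul_index
      rw [hA8, Nat.card_congr (subgroupOfEquivOfLe hΔA).toEquiv, hΔ4] at this
      omega
    intro c hc
    by_cases hcΔ : c ∈ Δ
    · exact hsΔ c hcΔ
    · have hm : (⟨a, ha⟩ : A)⁻¹ * ⟨c, hc⟩ ∈ Δ.subgroupOf A := (mul_mem_iff_of_index_two hidx).2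
        (iff_of_false (fun h => haΔ (inv_mem_iff.1 (mem_subgroupOf.1 h))) (fun h => hcΔ (mem_subgroupOf.1 h)))
      have h1 : Commute s a := mul_inv_eq_iff_eq_mul.1 hsa
      simpa using h1.mul_right (hsΔ _ (mem_subgroupOf.1 hm))
  have hrep : ∀ q : Q, δ ⟨q, hQS q.2⟩ = 1 → q = 1 := by
    intro q hq
    refine Subtype.ext (hQA q q.2 (hgen q ?_ (hQΔ q q.2)))
    exact (inv_mul_eq_one.1 (congrArg Subtype.val hq :)).symm
  have hδbij : Function.Bijective fun q : Q => δ ⟨q, hQS q.2⟩ := by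
    refine (Nat.bijective_iff_injective_and_card _).2 ⟨fun p q hpq => ?_, by rw [hQ4, hΔ4]⟩
    have h1 : (p : G) * a * (p : G)⁻¹ = (q : G) * a * (q : G)⁻¹ := mul_left_cancel (congrArg Subtype.val hpq :)
    refine (inv_mul_eq_one.1 (hrep (p⁻¹ * q) (Subtype.ext ?_))).symm.symm
    show a⁻¹ * (((p : G)⁻¹ * q) * a * ((p : G)⁻¹ * q)⁻¹) = 1
    rw [show ((p : G)⁻¹ * q) * a * ((p : G)⁻¹ * q)⁻¹ = (p : G)⁻¹ * ((q : G) * a * (q : G)⁻¹) * p by group, ← h1]
    group
  set X := S ⊓ centralizer (Δ : Set G) with hX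
  have hXc : ∀ s ∈ X, ∀ c ∈ Δ, Commute s c := fun s hs c hc =>
    (mem_centralizer_iff.1 (mem_inf.1 hs).2 c hc).symm
  have hQX : Q ≤ X := fun q hq => mem_inf.2 ⟨hQS hq, mem_centralizer_iff.2 fun c hc => (hQΔ q hq c hc).symm.eq⟩
  have hBX : B ≤ X := fun b hb => mem_inf.2 ⟨hBS hb, mem_centralizer_iff.2 fun c hc => (hBc b hb c (hΔA hc)).symm.eq⟩
  have hXBQ : ∀ s ∈ X, ∃ q ∈ Q, ∃ b ∈ B, s = q * b := by
    intro s hs
    obtain ⟨q, hq⟩ := hδbij.2 (δ ⟨s, (mem_inf.1 hs).1⟩)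
    have h1 : (q : G) * a * (q : G)⁻¹ = s * a * s⁻¹ := mul_left_cancel (congrArg Subtype.val hq :)
    refine ⟨q, q.2, (q : G)⁻¹ * s, hBof _ (mul_mem (inv_mem (hQS q.2)) (mem_inf.1 hs).1) (hgen _ ?_ fun c hc => ?_),
      (mul_inv_cancel_left _ _).symm⟩
    · rw [show ((q : G)⁻¹ * s) * a * ((q : G)⁻¹ * s)⁻¹ = (q : G)⁻¹ * (s * a * s⁻¹) * q by group, ← h1]; group
    · exact ((hQΔ q q.2 c hc).inv_left).mul_left (hXc s hs c hc)
  have hX64 : Nat.card X ≤ 4 * Nat.card B := by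
    have hs : Function.Surjective (fun p : Q × B => (⟨p.1 * p.2, mul_mem (hQX p.1.2) (hBX p.2.2)⟩ : X)) := by
      rintro ⟨s, hs⟩
      obtain ⟨q, hq, b, hb, e⟩ := hXBQ s hs
      exact ⟨(⟨q, hq⟩, ⟨b, hb⟩), Subtype.ext e.symm⟩
    have := Nat.card_le_card_of_surjective _ hs
    rwa [Nat.card_prod, hQ4] at this
  have hXi : X.relIndex S ≤ 2 := by
    haveI : (Δ.subgroupOf S).Normal := ⟨fun b hb s => mem_subgroupOf.2 (hΔn s s.2 b hb)⟩
    by_cases htop : ∀ s ∈ S, s ∈ X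
    · rw [relIndex_eq_one.2 (show S ≤ X from htop)]; norm_num
    push Not at htop
    obtain ⟨s₀, hs₀, hs₀X⟩ := htop
    refine (show (X.subgroupOf S).index = 2 from Subgroup.index_eq_two_iff.2 ⟨⟨s₀, hs₀⟩, fun s => ?_⟩).le
    simp only [mem_subgroupOf, Subgroup.coe_mul]
    by_cases hs : (s : G) ∈ X
    · exact Or.inr ⟨hs, fun hh => hs₀X (by simpa using mul_mem (inv_mem hs) hh)⟩
    refine Or.inl ⟨mem_inf.2 ⟨mul_mem s.2 hs₀, mem_centralizer_iff.2 fun w hw => ?_⟩, hs⟩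
    -- both move `w` in the same way
    obtain ⟨c, hc, hc2, hcc⟩ := exists_central hS (hΔA.trans hAS) (fun r hr x hx => hΔn r hr x hx)
      (fun e => by rw [e, card_bot] at hΔ4; omega)
    have hΔ2 : ∀ x ∈ Δ, x * x = 1 := fun x hx => hA2 x (hΔA hx)
    have hflip : ∀ g ∈ S, g ∉ X → ∀ x ∈ Δ, x ≠ 1 → x ≠ c → g * x * g⁻¹ = c * x := by
      intro g hg hgX x hx hx1 hxc
      obtain ⟨V, hV4, -, hcV, hxV, hVm⟩ := exists_four (hΔ2 c hc) (hΔ2 x hx) (commute_of_sq hΔ2 hc hx)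
        (fun e => by rw [e, orderOf_one] at hc2; omega) hx1 (Ne.symm hxc)
      have hVΔ : V = Δ := eq_of_le_of_card_ge (fun y hy => by
        rcases hVm y hy with rfl | rfl | rfl | rfl
        exacts [one_mem _, hc, hx, mul_mem hc hx]) (by rw [hΔ4, hV4])
      rcases hVm _ (hVΔ.symm ▸ hΔn g hg x hx) with h | h | h | h
      · exact absurd (conj_eq_one_iff.1 h) hx1
      · refine absurd ?_ hxc
        calc x = g⁻¹ * (g * x * g⁻¹) * g := by group
          _ = g⁻¹ * (c * g) := by rw [h, mul_assoc]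
          _ = c := by rw [← (hcc g hg).eq, inv_mul_cancel_left]
      · refine absurd (mem_inf.2 ⟨hg, mem_centralizer_iff.2 fun y hy => ?_⟩) hgX
        have hgx : Commute g x := mul_inv_eq_iff_eq_mul.1 h
        rcases hVm y (hVΔ.symm ▸ hy) with rfl | rfl | rfl | rfl
        exacts [(Commute.one_left g).eq, (hcc g hg).eq.symm, hgx.eq.symm, ((hcc g hg).mul_right hgx).eq.symm]
      · exact h
    have hgoal : (s : G) * s₀ * w * ((s : G) * s₀)⁻¹ = w := by
      by_cases hw1 : w = 1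
      · simp [hw1]
      by_cases hwc : w = c
      · rw [hwc, (hcc _ (mul_mem s.2 hs₀)).eq, mul_inv_cancel_right]
      rw [show (s : G) * s₀ * w * ((s : G) * s₀)⁻¹ = s * (s₀ * w * s₀⁻¹) * (s : G)⁻¹ by group,
        hflip s₀ hs₀ hs₀X w hw hw1 hwc,
        show (s : G) * (c * w) * (s : G)⁻¹ = (s * c * (s : G)⁻¹) * (s * w * (s : G)⁻¹) by group,
        hflip s s.2 hs w hw hw1 hwc, (hcc s s.2).eq, mul_inv_cancel_right, ← mul_assoc, hΔ2 c hc, one_mul]
    exact (mul_inv_eq_iff_eq_mul.1 hgoal).symm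
  have hS128 : Nat.card S ≤ 2 * Nat.card X := by
    have := relIndex_mul_relIndex (⊥ : Subgroup G) X S bot_le inf_le_left
    rw [relIndex_bot_left, relIndex_bot_left] at this
    rw [← this, mul_comm 2]
    exact Nat.mul_le_mul_left _ hXi
  intro H hH N hN hsq
  by_cases hHQ : ∃ q ∈ H, q ∈ Q ∧ q ≠ 1
  · obtain ⟨q, hqH, hqQ, hq1⟩ := hHQ
    exact (relIndex_le_centralizer hN hsq hqH).trans ((card_le_of_le (inf_le_inf_right _ hH)).trans (hC q hqQ hq1))
  by_contra h17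
  push Not at h17
  have hHp : IsPGroup 2 H := hS.to_le hH
  obtain ⟨k, hk⟩ := IsPGroup.iff_card.1 hHp
  have hH32 : Nat.card H = 32 ∧ N = ⊥ := by
    have hinj : Function.Injective (fun p : H × Q => (⟨p.1 * p.2, mul_mem (hH p.1.2) (hQS p.2.2)⟩ : S)) := by
      rintro ⟨x, u⟩ ⟨y, v⟩ hxy
      have hxy' : (x : G) * u = y * v := congrArg Subtype.val hxy
      have he : (y : G)⁻¹ * x = v * (u : G)⁻¹ := by
        rw [eq_mul_inv_iff_mul_eq, mul_assoc, hxy', inv_mul_cancel_left]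
      have h1 : (y : G)⁻¹ * x = 1 := by
        by_contra h
        exact hHQ ⟨_, mul_mem (inv_mem y.2) x.2, he ▸ mul_mem v.2 (inv_mem u.2), h⟩
      rw [h1] at he
      exact Prod.ext (Subtype.ext (inv_mul_eq_one.1 h1).symm) (Subtype.ext (mul_inv_eq_one.1 he.symm).symm)
    have h1 := Nat.card_le_card_of_injective _ hinj
    rw [Nat.card_prod, hQ4] at h1
    have h2 : Nat.card N * N.relIndex H = Nat.card H := by
      rw [← relIndex_bot_left N, ← relIndex_bot_left H]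
      exact relIndex_mul_relIndex _ _ _ bot_le hN
    have hX' := hX64.trans (Nat.mul_le_mul_left 4 hB16)
    have h4 : Nat.card H ≤ 32 := by omega
    have h5 : k = 5 := by
      rw [hk] at h4 h2
      have : 17 ≤ 2 ^ k := le_trans (by omega) (Nat.le_mul_of_pos_left _ (Nat.card_pos (α := N)) |>.trans h2.le)
      rcases Nat.lt_trichotomy k 5 with h | h | h
      · have := Nat.pow_le_pow_right (show 0 < 2 by norm_num) (show k ≤ 4 by omega); omega
      · exact h
      · have := Nat.pow_le_pow_right (show 0 < 2 by norm_num) (show 6 ≤ k by omega); omega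
    refine ⟨by rw [hk, h5]; rfl, Subgroup.card_eq_one.1 ?_⟩
    rw [hk, h5] at h2
    have : Nat.card N < 2 := by
      by_contra hc
      have := Nat.mul_le_mul (show 2 ≤ Nat.card N by omega) (le_refl (N.relIndex H))
      omega
    have := Nat.card_pos (α := N)
    omega
  obtain ⟨hH32, hN⟩ := hH32
  have hHc : ∀ x ∈ H, ∀ y ∈ H, Commute x y := fun x hx y hy => commute_of_sq (fun h hh => by
    have := hsq h hh
    rwa [hN, mem_bot] at this) hx hy
  -- the part of `H` centralising `Δ`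
  set H₁ := H ⊓ X with hH₁
  have hH₁16 : 16 ≤ Nat.card H₁ := by
    have h1 : Nat.card H₁ * H₁.relIndex H = Nat.card H := by
      rw [← relIndex_bot_left H₁, ← relIndex_bot_left H]
      exact relIndex_mul_relIndex _ _ _ bot_le inf_le_left
    have h2 : H₁.relIndex H ≤ 2 := by
      rw [hH₁, inf_relIndex_left]
      exact (relIndex_le_of_le_right hH index_ne_zero_of_finite).trans hXi
    have := Nat.mul_le_mul_left (Nat.card H₁) h2
    omega
  by_cases hout : ∃ h ∈ H₁, h ∉ B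
  · obtain ⟨h, hh, hhB⟩ := hout
    obtain ⟨q, hq, b, hb, rfl⟩ := hXBQ h (mem_inf.1 hh).2
    have hq1 : q ≠ 1 := fun e => hhB (by rw [e, one_mul]; exact hb)
    have hBab : ∀ x ∈ B, ∀ y ∈ B, Commute x y := by
      intro x hx y hy
      by_cases hxA : x ∈ A
      · exact (hBc y hy x hxA).symm
      by_cases hyA : y ∈ A
      · exact hBc x hx y hyA
      have hidx : (A.subgroupOf B).index = 2 := by
        have h1 := (A.subgroupOf B).card_mul_index
        rw [Nat.card_congr (subgroupOfEquivOfLe hAB).toEquiv, hA8] at h1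
        have h2 : (A.subgroupOf B).index ≠ 1 := fun e => hxA
          (mem_subgroupOf.1 (show (⟨x, hx⟩ : B) ∈ A.subgroupOf B by rw [index_eq_one.1 e]; exact mem_top _))
        have h3 : (A.subgroupOf B).index ≠ 0 := index_ne_zero_of_finite
        omega
      have hm : (⟨x, hx⟩ : B)⁻¹ * ⟨y, hy⟩ ∈ A.subgroupOf B := (mul_mem_iff_of_index_two hidx).2
        (iff_of_false (fun h => hxA (inv_mem_iff.1 (mem_subgroupOf.1 h))) (fun h => hyA (mem_subgroupOf.1 h)))
      simpa using (Commute.refl x).mul_right (hBc x hx _ (mem_subgroupOf.1 hm))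
    have hsubΔ : H₁ ⊓ B ≤ Δ := by
      intro c hc
      obtain ⟨hcH, hcB⟩ := mem_inf.1 hc
      refine hfix q hq hq1 c (hBS hcB) (hBc c hcB) ?_
      simpa using (hHc c (mem_inf.1 hcH).1 _ (mem_inf.1 hh).1).mul_right (hBab c hcB b hb).inv_right
    have hle4 : (H₁ ⊓ B).relIndex H₁ ≤ 4 := by
      rw [inf_relIndex_left]
      refine (relIndex_le_of_le_right inf_le_right index_ne_zero_of_finite).trans ?_
      have hs : Function.Surjective (fun p : Q => (QuotientGroup.mk ⟨p, hQX p.2⟩ : X ⧸ B.subgroupOf X)) := by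
        rintro ⟨x, hx⟩
        obtain ⟨p, hp, c, hc, e⟩ := hXBQ x hx
        refine ⟨⟨p, hp⟩, QuotientGroup.eq.2 (mem_subgroupOf.2 ?_)⟩
        simp only [Subgroup.coe_mul, Subgroup.coe_inv]
        rw [e, inv_mul_cancel_left]
        exact hc
      have := Nat.card_le_card_of_surjective _ hs
      rwa [hQ4, ← index_eq_card] at this
    have h1 : Nat.card ↥(H₁ ⊓ B) * (H₁ ⊓ B).relIndex H₁ = Nat.card H₁ := by
      rw [← relIndex_bot_left (H₁ ⊓ B), ← relIndex_bot_left H₁]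
      exact relIndex_mul_relIndex _ _ _ bot_le inf_le_left
    have h2 : Nat.card ↥(H₁ ⊓ B) ≤ 4 := (card_le_of_le hsubΔ).trans hΔ4.le
    have h3 := Nat.mul_le_mul h2 hle4
    have heq : H₁ ⊓ B = Δ := eq_of_le_of_card_ge hsubΔ (by
      rw [hΔ4]
      by_contra hc
      have := Nat.mul_le_mul (show Nat.card ↥(H₁ ⊓ B) ≤ 3 by omega) hle4
      omega)
    have hΔH : Δ ≤ H := fun c hc => (mem_inf.1 (mem_inf.1 (heq.symm ▸ hc : c ∈ H₁ ⊓ B)).1).1
    have hHX : H ≤ X := fun x hx => mem_inf.2 ⟨hH hx, mem_centralizer_iff.2 fun c hc =>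
      (hHc c (hΔH hc) x hx).eq⟩
    rw [hH₁, inf_eq_left.2 hHX] at h3 h1
    omega
  · push Not at hout
    have hB' : H₁ = B := eq_of_le_of_card_ge hout (hB16.trans hH₁16)
    have hAH : A ≤ H := fun c hc => (mem_inf.1 (hB'.symm ▸ hAB hc : c ∈ H₁)).1
    have hHB : H ≤ B := fun x hx => hBof x (hH hx) fun c hc => hHc x hx c (hAH hc)
    have := card_le_of_le hHB
    omega

end PureGroup

variable {G Ω : Type*} [Group G] [MulAction G Ω] [Finite G] [Finite Ω] [FaithfulSMul G Ω]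

set_option synthInstance.maxSize 512 in
theorem fpf_even : (∀ σ : Equiv.Perm (Fin 4), σ * σ = 1 → Fintype.card {i : Fin 4 // σ i = i} = 0 →
      Equiv.Perm.sign σ = 1) ∧
    ∀ σ : Equiv.Perm (Fin 4), σ ^ 4 = 1 →
      (∀ τ : Equiv.Perm (Fin 4), Equiv.Perm.sign τ = 1 → τ * τ = 1 → σ * τ = τ * σ) →
      Equiv.Perm.sign σ = 1 ∧ σ * σ = 1 := by
  constructor <;> decide +kernel

/-- `d` is central in the stabiliser `R` of its fixed set, a proper subgroup of the Sylow subgroup. -/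
theorem Ctx.disjoint_noncentral (hc : Ctx G Ω)
    (hpair : ∀ d e : G, IsD Ω d → IsD Ω e → Commute d e → (fixedBy Ω d ∩ fixedBy Ω e).ncard ≠ 2)
    (S : Sylow 2 G) {d : G} (hd : IsD Ω d) (hdS : d ∈ (S : Subgroup G))
    (hdc : ∀ r ∈ (S : Subgroup G) ⊓ stabilizer G (fixedBy Ω d), Commute r d)
    (hne : (S : Subgroup G) ⊓ stabilizer G (fixedBy Ω d) ≠ (S : Subgroup G)) :
    Cfsg.SectionalPRankLE 2 4 G := by
  classical
  haveI : Fact (Nat.Prime 2) := ⟨Nat.prime_two⟩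
  refine rank_of_sec S ?_
  set F := fixedBy Ω d with hFdef
  have hF : F.ncard = 4 := hc.card_D hd
  set R := (S : Subgroup G) ⊓ stabilizer G F with hR
  have hRS : R ≤ (S : Subgroup G) := inf_le_left
  have hRF : R ≤ stabilizer G F := inf_le_right
  have hdR : d ∈ R := mem_inf.2 ⟨hdS, mem_stab_fix (Commute.refl d)⟩
  have hCd : ∀ s ∈ (S : Subgroup G), Commute s d → s ∈ R := fun s hs h => mem_inf.2 ⟨hs, mem_stab_fix h⟩
  have hRp : IsPGroup 2 R := S.isPGroup'.to_le hRS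
  have hCdR : (S : Subgroup G) ⊓ centralizer ({d} : Set G) ≤ R := fun s hs =>
    hCd s (mem_inf.1 hs).1 (mem_centralizer_singleton_iff.1 (mem_inf.1 hs).2)
  obtain ⟨g, hgS, hgR, hgn, hgn'⟩ := exists_normalizing S.isPGroup' hRS hne
  set d' := g * d * g⁻¹ with hd'
  have hd'R : d' ∈ R := hgn d hdR
  have hd'D : IsD Ω d' := hd.conj g
  have hd'c : ∀ r ∈ R, Commute r d' := fun r hr => by
    have := (hdc _ (hgn' r hr)).map (MulAut.conj g).toMonoidHom
    simpa [hd', mul_assoc] using this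
  set F' := fixedBy Ω d' with hF'def
  have hF' : F'.ncard = 4 := hc.card_D hd'D
  have hFF : F' = g • F := fix_conj d g
  have hdisj : Disjoint F F' := by
    rcases hc.pair hd hd'D (hd'c d hdR) with h | h | h
    · exact absurd (mem_inf.2 ⟨hgS, mem_stabilizer_iff.2 (hFF.symm.trans h)⟩) hgR
    · exact h
    · exact absurd h (hpair d d' hd hd'D (hd'c d hdR))
  have hRF' : R ≤ stabilizer G F' := fun r hr => mem_stab_fix (hd'c r hr)
  obtain ⟨a, ha⟩ := hd.2
  obtain ⟨a', ha'⟩ := hd'D.2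
  have haF' : a ∉ F' := fun h => hdisj.le_bot ⟨ha, h⟩
  have ha'F : a' ∉ F := fun h => hdisj.le_bot ⟨h, ha'⟩
  set Q := R ⊓ fixingSubgroup G F with hQ
  set Q' := R ⊓ fixingSubgroup G F' with hQ'
  have hQfree : ∀ q ∈ Q, ∀ b ∈ F', q • b = b → q = 1 := fun q hq b hb hqb =>
    hc.eq_one_of_five hF (mem_inf.1 hq).2 (fun h => hdisj.le_bot ⟨h, hb⟩) hqb
  have hQ'free : ∀ q ∈ Q', ∀ b ∈ F, q • b = b → q = 1 := fun q hq b hb hqb =>
    hc.eq_one_of_five hF' (mem_inf.1 hq).2 (fun h => hdisj.le_bot ⟨hb, h⟩) hqb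
  have hQ4 : Nat.card Q ≤ 4 := (card_le_of_free (Set.toFinite F') Q (a := a')
    (fun q hq => smul_mem_of_mem (hRF' (mem_inf.1 hq).1) ha') fun q hq h => hQfree q hq a' ha' h).trans hF'.le
  have hdQ : d ∈ Q := mem_inf.2 ⟨hdR, mem_fixing.2 fun b hb => hb⟩
  -- conjugation by `g` carries `Q` to `Q'`
  have hQQ' : Q.map (MulAut.conj g).toMonoidHom = Q' := by
    apply le_antisymm
    · rintro _ ⟨q, hq, rfl⟩
      refine mem_inf.2 ⟨hgn q (mem_inf.1 hq).1, mem_fixing.2 fun b hb => ?_⟩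
      rw [hFF] at hb
      obtain ⟨c, hc', rfl⟩ := hb
      show (g * q * g⁻¹) • g • c = g • c
      rw [mul_smul, mul_smul, inv_smul_smul, mem_fixing.1 (mem_inf.1 hq).2 c hc']
    · intro q hq
      refine ⟨g⁻¹ * q * g, mem_inf.2 ⟨hgn' q (mem_inf.1 hq).1, mem_fixing.2 fun c hc' => ?_⟩, by
        show g * (g⁻¹ * q * g) * g⁻¹ = q
        group⟩
      have hb : g • c ∈ F' := hFF ▸ Set.smul_mem_smul_set hc'
      rw [mul_smul, mul_smul, mem_fixing.1 (mem_inf.1 hq).2 _ hb, inv_smul_smul]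
  have hQQ'c : Nat.card Q' = Nat.card Q := by
    rw [← hQQ', card_map_of_injective (MulAut.conj g).injective]
  by_cases h8 : Nat.card R ≤ 8
  · exact sec_of_small S.isPGroup' hdS hd.sq ((card_le_of_le hCdR).trans h8)
  obtain ⟨k, hk⟩ := IsPGroup.iff_card.1 hRp
  have hQp : IsPGroup 2 Q := hRp.to_le inf_le_left
  obtain ⟨j, hj⟩ := IsPGroup.iff_card.1 hQp
  have hj2 : 1 ≤ j ∧ j ≤ 2 := by
    constructor
    · by_contra h0
      have h1 : Nat.card Q = 1 := by rw [hj, show j = 0 by omega]; rfl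
      have h2 := hdQ
      rw [Subgroup.card_eq_one.1 h1, mem_bot] at h2
      exact hd.ne_one h2
    · by_contra h2
      have := Nat.pow_le_pow_right (show 0 < 2 by norm_num) (show 3 ≤ j by omega)
      omega
  -- an involution of `R` fixing a point of `F` is trivial there
  have hinvfix : ∀ r ∈ R, r * r = 1 → ∀ hr : r ∈ stabilizer G F,
      (∃ i, rho hF ⟨r, hr⟩ i = i) → rho hF ⟨r, hr⟩ = 1 := by
    intro r hrR hrr hr hfx
    rcases fixing_point _ (rho_pow_four hF hRp hrR hr) hfx with h | ⟨-, h2⟩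
    · exact h
    · exfalso
      rw [rho_card] at h2
      have hr1 : r ≠ 1 := fun e => by
        rw [e, fixedBy_one_eq_univ, Set.inter_univ, hF] at h2; omega
      obtain ⟨b, -, hb⟩ := Set.nonempty_of_ncard_ne_zero (show (F ∩ fixedBy Ω r).ncard ≠ 0 by omega)
      exact hpair d r hd ⟨orderOf_eq_prime (by rw [pow_two]; exact hrr) hr1, b, hb⟩ (hdc r hrR).symm h2
  obtain ⟨-, hcard4⟩ := even_sq
  obtain ⟨hfpf, hcentV⟩ := fpf_even
  rcases Nat.lt_or_ge j 2 with hj1 | hj2'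
  · -- the kernel has order two
    have hQ2c : Nat.card Q = 2 := by rw [hj, show j = 1 by omega]; rfl
    by_contra hsec
    refine hsec (sec_of_normal S.isPGroup' fun A hA hA2 hAn => ?_)
    by_contra hA4
    obtain ⟨m, hm⟩ := two_pow_of_pgroup hA2
    have hA8 : 8 ≤ Nat.card A := by
      rcases Nat.lt_or_ge m 3 with h | h
      · interval_cases m <;> omega
      · rw [hm]; exact Nat.pow_le_pow_right (by norm_num : 0 < 2) h
    -- an elementary group of order at least eight containing `d`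
    obtain ⟨B, hBR, hB2, hB8, hdB⟩ : ∃ B : Subgroup G, B ≤ R ∧ (∀ b ∈ B, b * b = 1) ∧ 8 ≤ Nat.card B ∧ d ∈ B := by
      by_cases hdA : d ∈ A
      · exact ⟨A, fun b hb => hCd b (hA hb) (commute_of_sq hA2 hb hdA), hA2, hA8, hdA⟩
      set CA := A ⊓ centralizer ({d} : Set G) with hCA
      have hcomm : ∀ b ∈ CA, Commute b d := fun b hb => mem_centralizer_singleton_iff.1 (mem_inf.1 hb).2
      let B : Subgroup G :=
        { carrier := {b | ∃ c ∈ CA, b = c ∨ b = c * d}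
          one_mem' := ⟨1, one_mem _, Or.inl rfl⟩
          mul_mem' := by
            rintro x y ⟨a, ha, hc⟩ ⟨b, hb, hd'⟩
            refine ⟨a * b, mul_mem ha hb, ?_⟩
            rcases hc with hc | hc <;> rcases hd' with hd' | hd' <;> rw [hc, hd']
            · exact Or.inl rfl
            · exact Or.inr (mul_assoc _ _ _).symm
            · exact Or.inr (by rw [mul_assoc, ← (hcomm b hb).eq, mul_assoc])
            · exact Or.inl (by rw [mul_assoc a, ← mul_assoc d, ← (hcomm b hb).eq, mul_assoc b, hd.sq, mul_one])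
          inv_mem' := by
            rintro x ⟨a, ha, hc⟩
            refine ⟨a⁻¹, inv_mem ha, ?_⟩
            rcases hc with hc | hc <;> rw [hc]
            · exact Or.inl rfl
            · exact Or.inr (by rw [mul_inv_rev, inv_eq_of_mul_eq_one_right hd.sq, (hcomm _ (inv_mem ha)).eq]) }
      refine ⟨B, ?_, ?_, ?_, ⟨1, one_mem _, Or.inr (one_mul d).symm⟩⟩
      · rintro b ⟨c, hc', h | h⟩ <;> rw [h]
        · exact hCd c (hA (mem_inf.1 hc').1) (hcomm c hc')
        · exact mul_mem (hCd c (hA (mem_inf.1 hc').1) (hcomm c hc')) hdR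
      · rintro b ⟨c, hc', h | h⟩ <;> rw [h]
        · exact hA2 c (mem_inf.1 hc').1
        · rw [(hcomm c hc').symm.mul_mul_mul_comm, hA2 c (mem_inf.1 hc').1, hd.sq, one_mul]
      · have hsq := card_le_fixed_sq hA2 hd.sq (hAn d hdS)
        rw [← hCA] at hsq
        obtain ⟨i, hi⟩ := two_pow_of_pgroup (A := CA) fun c hc' => hA2 c (mem_inf.1 hc').1
        have hle : CA ≤ B := fun c hc' => ⟨c, hc', Or.inl rfl⟩
        have hlt : Nat.card CA < Nat.card B := by
          refine lt_of_le_of_ne (card_le_of_le hle) fun e => hdA ?_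
          have hdB : d ∈ B := ⟨1, one_mem _, Or.inr (one_mul d).symm⟩
          rw [← eq_of_le_of_card_ge hle e.ge] at hdB
          exact (mem_inf.1 hdB).1
        obtain ⟨l, hl⟩ := IsPGroup.iff_card.1 (S.isPGroup'.to_le (show B ≤ (S : Subgroup G) by
          rintro b ⟨c, hc', h | h⟩ <;> rw [h]
          exacts [hA (mem_inf.1 hc').1, mul_mem (hA (mem_inf.1 hc').1) hdS]))
        rw [hi] at hsq hlt
        rw [hl] at hlt ⊢
        have hi2 : 2 ≤ i := by
          by_contra h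
          interval_cases i <;> omega
        have hil : i < l := (Nat.pow_lt_pow_iff_right (by norm_num)).1 hlt
        exact Nat.pow_le_pow_right (by norm_num : 0 < 2) (by omega : 3 ≤ l)
    have hBV : ∀ b (hb : b ∈ B), Equiv.Perm.sign (rho hF ⟨b, hRF (hBR hb)⟩) = 1 ∧
        rho hF ⟨b, hRF (hBR hb)⟩ * rho hF ⟨b, hRF (hBR hb)⟩ = 1 := by
      intro b hb
      have hsq : rho hF ⟨b, hRF (hBR hb)⟩ * rho hF ⟨b, hRF (hBR hb)⟩ = 1 := by
        rw [← map_mul]
        convert map_one (rho hF)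
        exact Subtype.ext (hB2 b hb)
      refine ⟨?_, hsq⟩
      by_cases h0 : Fintype.card {i : Fin 4 // rho hF ⟨b, hRF (hBR hb)⟩ i = i} = 0
      · exact hfpf _ hsq h0
      · obtain ⟨⟨i, hi⟩⟩ := Fintype.card_pos_iff.1 (Nat.pos_of_ne_zero h0)
        rw [hinvfix b (hBR hb) (hB2 b hb) _ ⟨i, hi⟩, map_one]
    obtain ⟨J, hJ, hJm⟩ := card_split hF B (hBR.trans hRF)
    let emb : J → {σ : Equiv.Perm (Fin 4) // Equiv.Perm.sign σ = 1 ∧ σ * σ = 1} := fun q => ⟨q.1, by
      obtain ⟨b, hb, hq⟩ := (hJm _).1 q.2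
      rw [← hq]; exact hBV b hb⟩
    have hemb : Function.Injective emb := fun p q hpq => Subtype.ext (congrArg (fun z => z.1) hpq :)
    have hJ4 : Nat.card J ≤ 4 :=
      (Nat.card_le_card_of_injective emb hemb).trans (by rw [Nat.card_eq_fintype_card, hcard4])
    have hker : Nat.card ↥(B ⊓ fixingSubgroup G F) ≤ 2 :=
      (card_le_of_le (inf_le_inf_right _ hBR)).trans hQ2c.le
    have hmul := Nat.mul_le_mul hker hJ4
    have hB8' : Nat.card B = 8 := by rw [hJ]; rw [hJ] at hB8; omega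
    have hJ4' : Nat.card J = 4 := by
      by_contra h
      have := Nat.mul_le_mul hker (show Nat.card J ≤ 3 by omega)
      omega
    have hembs := ((Nat.bijective_iff_injective_and_card emb).2
      ⟨hemb, by rw [hJ4', Nat.card_eq_fintype_card, hcard4]⟩).2
    refine hsec (sec_of_eight S.isPGroup' (hBR.trans hRS) hB2 hB8' fun s hs hcs => ?_)
    have hsR : s ∈ R := hCd s hs (hcs d hdB)
    have hsV := hcentV (rho hF ⟨s, hRF hsR⟩) (rho_pow_four hF hRp hsR (hRF hsR)) fun τ h1 h2 => by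
      obtain ⟨⟨q, hq⟩, hqe⟩ := hembs ⟨τ, h1, h2⟩
      obtain ⟨b, hb, hbq⟩ := (hJm q).1 hq
      have hτ : q = τ := congrArg Subtype.val hqe
      rw [← hτ, ← hbq, ← map_mul, ← map_mul]
      exact congrArg (rho hF) (Subtype.ext (hcs b hb).eq)
    obtain ⟨⟨q, hq⟩, hqe⟩ := hembs ⟨_, hsV⟩
    obtain ⟨b, hb, hbq⟩ := (hJm q).1 hq
    have hbs : rho hF ⟨b, hRF (hBR hb)⟩ = rho hF ⟨s, hRF hsR⟩ := hbq.trans (congrArg Subtype.val hqe)
    have hQd : ∀ c ∈ Q, c = 1 ∨ c = d := by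
      intro c hc'
      by_contra h
      push Not at h
      haveI : Fintype Q := Fintype.ofFinite _
      have : 2 < Nat.card Q := by
        rw [Nat.card_eq_fintype_card, Fintype.two_lt_card_iff]
        exact ⟨1, ⟨c, hc'⟩, ⟨d, hdQ⟩, fun e => h.1 (congrArg Subtype.val e).symm,
          fun e => hd.ne_one (congrArg Subtype.val e).symm, fun e => h.2 (congrArg Subtype.val e)⟩
      omega
    have hm' : b⁻¹ * s ∈ Q := mem_inf.2 ⟨mul_mem (inv_mem (hBR hb)) hsR,
      (rho_one hF (hRF (mul_mem (inv_mem (hBR hb)) hsR))).1 (by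
        rw [show (⟨b⁻¹ * s, hRF (mul_mem (inv_mem (hBR hb)) hsR)⟩ : stabilizer G F) =
          (⟨b, hRF (hBR hb)⟩ : stabilizer G F)⁻¹ * ⟨s, hRF hsR⟩ from Subtype.ext rfl, map_mul, map_inv]
        exact inv_mul_eq_one.2 hbs)⟩
    rcases hQd _ hm' with h | h
    · exact (inv_mul_eq_one.1 h) ▸ hb
    · have := mul_mem hb hdB
      rwa [← h, mul_inv_cancel_left] at this
  -- the kernel has order four
  have hQc : Nat.card Q = 4 := by rw [hj, show j = 2 by omega]; rfl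
  have horb : ∀ b ∈ F, ∃ q ∈ Q', q • a = b := by
    intro b hb
    let f : Q' → F := fun q => ⟨(q : G) • a, smul_mem_of_mem (hRF (mem_inf.1 q.2).1) ha⟩
    have hf : Function.Injective f := fun v w hvw => by
      have h' : (v : G) • a = (w : G) • a := congrArg Subtype.val hvw
      exact Subtype.ext (inv_mul_eq_one.1 (hQ'free ((w : G)⁻¹ * v) (mul_mem (inv_mem w.2) v.2) a ha
        (by rw [mul_smul, h', inv_smul_smul]))).symm
    obtain ⟨q, hq⟩ := ((Nat.bijective_iff_injective_and_card f).2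
      ⟨hf, by rw [hQQ'c, hQc, Nat.card_coe_set_eq, hF]⟩).2 ⟨b, hb⟩
    exact ⟨q, q.2, congrArg Subtype.val hq⟩
  have horb' : ∀ b ∈ F', ∃ q ∈ Q, q • a' = b := by
    intro b hb
    let f : Q → F' := fun q => ⟨(q : G) • a', smul_mem_of_mem (hRF' (mem_inf.1 q.2).1) ha'⟩
    have hf : Function.Injective f := fun v w hvw => by
      have h' : (v : G) • a' = (w : G) • a' := congrArg Subtype.val hvw
      exact Subtype.ext (inv_mul_eq_one.1 (hQfree ((w : G)⁻¹ * v) (mul_mem (inv_mem w.2) v.2) a' ha'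
        (by rw [mul_smul, h', inv_smul_smul]))).symm
    obtain ⟨q, hq⟩ := ((Nat.bijective_iff_injective_and_card f).2
      ⟨hf, by rw [hQc, Nat.card_coe_set_eq, hF']⟩).2 ⟨b, hb⟩
    exact ⟨q, q.2, congrArg Subtype.val hq⟩
  have hprod : ∀ r ∈ R, ∃ q' ∈ Q', ∃ q ∈ Q, r = q' * q := by
    intro r hr
    obtain ⟨w, hw, hwa⟩ := horb _ (smul_mem_of_mem (hRF hr) ha)
    set s := w⁻¹ * r with hs
    have hsR : s ∈ R := mul_mem (inv_mem (mem_inf.1 hw).1) hr
    have hsa : s • a = a := by rw [hs, mul_smul, ← hwa, inv_smul_smul]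
    refine ⟨w, hw, s, mem_inf.2 ⟨hsR, ?_⟩, (mul_inv_cancel_left w r).symm⟩
    by_contra hsF
    obtain ⟨q, hq, hqa⟩ := horb' _ (smul_mem_of_mem (hRF' hsR) ha')
    set t := q⁻¹ * s with ht
    have htR : t ∈ R := mul_mem (inv_mem (mem_inf.1 hq).1) hsR
    have hta' : t • a' = a' := by rw [ht, mul_smul, ← hqa, inv_smul_smul]
    have hta : t • a = a := by rw [ht, mul_smul, hsa, mem_fixing.1 (inv_mem (mem_inf.1 hq).2) a ha]
    have hts : t ∉ fixingSubgroup G F := fun h => hsF (by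
      have := mul_mem (mem_inf.1 hq).2 h
      rwa [ht, mul_inv_cancel_left] at this)
    have hfix : ∀ {E : Set Ω} (hE : E.ncard = 4) (hst : t ∈ stabilizer G E) {b : Ω}, b ∈ E → t • b = b →
        ∃ i, rho hE ⟨t, hst⟩ i = i := by
      intro E hE hst b hb htb
      have h1 : 0 < Fintype.card {i : Fin 4 // rho hE ⟨t, hst⟩ i = i} := by
        rw [rho_card]; exact (Set.ncard_pos (Set.toFinite _)).2 ⟨b, hb, htb⟩
      obtain ⟨⟨i, hi⟩⟩ := Fintype.card_pos_iff.1 h1
      exact ⟨i, hi⟩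
    have hfa := hfix hF (hRF htR) ha hta
    rcases fixing_point _ (rho_pow_four hF hRp htR (hRF htR)) hfa with h | ⟨hsq, -⟩
    · exact hts ((rho_one hF (hRF htR)).1 h)
    have hfa' := hfix hF' (hRF' htR) ha' hta'
    rcases fixing_point _ (rho_pow_four hF' hRp htR (hRF' htR)) hfa' with h | ⟨hsq', -⟩
    · exact hts (by
        rw [hQ'free t (mem_inf.2 ⟨htR, (rho_one hF' (hRF' htR)).1 h⟩) a ha hta]
        exact one_mem _)
    have h2 : t * t = 1 := by
      refine hc.eq_one_of_five hF ((rho_one hF (hRF (mul_mem htR htR))).1 ?_) ha'F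
        (mem_fixing.1 ((rho_one hF' (hRF' (mul_mem htR htR))).1 ?_) a' ha')
      · rw [show (⟨t * t, hRF (mul_mem htR htR)⟩ : stabilizer G F) = ⟨t, hRF htR⟩ * ⟨t, hRF htR⟩ from
          Subtype.ext rfl, map_mul]
        exact hsq
      · rw [show (⟨t * t, hRF' (mul_mem htR htR)⟩ : stabilizer G F') = ⟨t, hRF' htR⟩ * ⟨t, hRF' htR⟩ from
          Subtype.ext rfl, map_mul]
        exact hsq'
    exact hts ((rho_one hF (hRF htR)).1 (hinvfix t htR h2 (hRF htR) hfa))
  have hQQone : ∀ x ∈ Q, x ∈ Q' → x = 1 := fun x hx hx' => hQfree x hx a' ha' (mem_fixing.1 (mem_inf.1 hx').2 a' ha')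
  have hnormQ : ∀ r ∈ R, ∀ q ∈ Q, r * q * r⁻¹ ∈ Q := by
    intro r hr q hq
    refine mem_inf.2 ⟨mul_mem (mul_mem hr (mem_inf.1 hq).1) (inv_mem hr), mem_fixing.2 fun b hb => ?_⟩
    rw [mul_smul, mul_smul, mem_fixing.1 (mem_inf.1 hq).2 _ (smul_mem_of_mem (inv_mem (hRF hr)) hb), smul_inv_smul]
  have hnormQ' : ∀ r ∈ R, ∀ q ∈ Q', r * q * r⁻¹ ∈ Q' := by
    intro r hr q hq
    refine mem_inf.2 ⟨mul_mem (mul_mem hr (mem_inf.1 hq).1) (inv_mem hr), mem_fixing.2 fun b hb => ?_⟩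
    rw [mul_smul, mul_smul, mem_fixing.1 (mem_inf.1 hq).2 _ (smul_mem_of_mem (inv_mem (hRF' hr)) hb), smul_inv_smul]
  have hcommQQ : ∀ q ∈ Q, ∀ q' ∈ Q', Commute q q' := by
    intro q hq q' hq'
    have h1 : q * q' * q⁻¹ * q'⁻¹ = 1 := hQQone _
      (by rw [show q * q' * q⁻¹ * q'⁻¹ = q * (q' * q⁻¹ * q'⁻¹) by group]
          exact mul_mem hq (hnormQ q' (mem_inf.1 hq').1 _ (inv_mem hq)))
      (mul_mem (hnormQ' q (mem_inf.1 hq).1 q' hq') (inv_mem hq'))
    show q * q' = q' * q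
    calc q * q' = q * q' * q⁻¹ * q'⁻¹ * (q' * q) := by group
      _ = q' * q := by rw [h1, one_mul]
  have hR16 : Nat.card R ≤ 16 := by
    have hs : Function.Surjective (fun p : Q' × Q => (⟨p.1 * p.2, mul_mem (mem_inf.1 p.1.2).1 (mem_inf.1 p.2.2).1⟩ : R)) := by
      rintro ⟨r, hr⟩
      obtain ⟨q', hq', q, hq, e⟩ := hprod r hr
      exact ⟨(⟨q', hq'⟩, ⟨q, hq⟩), Subtype.ext e.symm⟩
    have := Nat.card_le_card_of_surjective _ hs
    rwa [Nat.card_prod, hQQ'c, hQc] at this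
  by_contra hsec
  refine hsec (sec_of_normal S.isPGroup' fun A₁ hA₁ hA₁2 hA₁n => ?_)
  by_contra hA₁4
  set X := (S : Subgroup G) with hXdef
  haveI : (A₁.subgroupOf X).Normal := ⟨fun b hb s => mem_subgroupOf.2 (hA₁n s s.2 b hb)⟩
  obtain ⟨N, A', hN, hA', hA'A, hN4, hA'8, -, hdisp⟩ := VFix.exists_normal_eight S.isPGroup' (A₁.subgroupOf X)
    (by rw [Nat.card_congr (subgroupOfEquivOfLe hA₁).toEquiv]; omega)
  set A := A'.map X.subtype with hAdef
  have hAS : A ≤ X := map_subtype_le _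
  have hA2 : ∀ c ∈ A, c * c = 1 := by
    rintro _ ⟨c, hc', rfl⟩
    exact hA₁2 _ (hA'A hc')
  have hA8 : Nat.card A = 8 := by rw [card_map_of_injective X.subtype_injective, hA'8]
  have hAn : ∀ s ∈ X, ∀ c ∈ A, s * c * s⁻¹ ∈ A := by
    rintro s hs _ ⟨c, hc', rfl⟩
    exact ⟨⟨s, hs⟩ * c * ⟨s, hs⟩⁻¹, hA'.conj_mem c hc' _, rfl⟩
  -- `Q` is elementary
  have hQ2 : ∀ q ∈ Q, q * q = 1 := by
    by_contra hQe
    push Not at hQe
    obtain ⟨q₀, hq₀, hq₀2⟩ := hQe
    have hQd : ∀ q ∈ Q, q * q = 1 → q = 1 ∨ q = d := by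
      intro q hq hqq
      by_contra h
      push Not at h
      obtain ⟨V, hV4, hV2, -, -, hVm⟩ := exists_four hqq hd.sq (hdc q (mem_inf.1 hq).1) h.1 hd.ne_one h.2
      have : V = Q := eq_of_le_of_card_ge (fun v hv => by
        rcases hVm v hv with rfl | rfl | rfl | rfl
        exacts [one_mem _, hq, hdQ, mul_mem hq hdQ]) (by rw [hQc, hV4])
      exact hq₀2 (hV2 q₀ (this ▸ hq₀))
    have hd'two : ∀ q ∈ Q', q * q = 1 → q = 1 ∨ q = d' := by
      intro q hq hqq
      rw [← hQQ'] at hq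
      obtain ⟨p, hp, rfl⟩ := hq
      rw [← map_mul] at hqq
      rcases hQd p hp ((MulAut.conj g).injective (hqq.trans (map_one _).symm)) with h | h
      · exact Or.inl (by rw [h]; exact map_one _)
      · exact Or.inr (by rw [h]; rfl)
    have hsmall : ∀ E : Subgroup G, E ≤ R → (∀ e ∈ E, e * e = 1) → Nat.card E ≤ 4 := by
      intro E hER hE2
      have hsub : (E : Set G) ⊆ {1, d, d', d' * d} := by
        intro e he
        obtain ⟨q', hq', q, hq, rfl⟩ := hprod e (hER he)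
        have h1 : q' * q' * (q * q) = 1 := by
          rw [← (hcommQQ q hq q' hq').mul_mul_mul_comm]
          exact hE2 _ he
        have h2 : q * q = 1 := hQQone _ (mul_mem hq hq)
          (by rw [eq_inv_of_mul_eq_one_right h1]; exact inv_mem (mul_mem hq' hq'))
        have h3 : q' * q' = 1 := by rwa [h2, mul_one] at h1
        rcases hQd q hq h2 with rfl | rfl <;> rcases hd'two q' hq' h3 with rfl | rfl <;> simp
      have h4 : ({1, d, d', d' * d} : Set G).ncard ≤ 4 := by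
        have := Set.ncard_insert_le (1 : G) {d, d', d' * d}
        have := Set.ncard_insert_le d {d', d' * d}
        have := Set.ncard_insert_le d' {d' * d}
        have := Set.ncard_singleton (d' * d)
        omega
      rw [← SetLike.coe_sort_coe, Nat.card_coe_set_eq]
      exact (Set.ncard_le_ncard hsub (Set.toFinite _)).trans h4
    have hAR : ¬ A ≤ R := fun h => by
      have := hsmall A h hA2
      omega
    -- the centraliser of `d` in `A` together with `d`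
    have hdA : d ∉ A := fun hdA => hAR fun c hc' => hCd c (hAS hc') (commute_of_sq hA2 hc' hdA)
    set CA := A ⊓ centralizer ({d} : Set G) with hCA
    have hsq := card_le_fixed_sq hA2 hd.sq (hAn d hdS)
    rw [← hCA, hA8] at hsq
    obtain ⟨i, hi⟩ := two_pow_of_pgroup (A := CA) fun c hc' => hA2 c (mem_inf.1 hc').1
    have hCAR : CA ≤ R := fun c hc' =>
      hCd c (hAS (mem_inf.1 hc').1) (mem_centralizer_singleton_iff.1 (mem_inf.1 hc').2)
    have hcomm : ∀ c ∈ CA, Commute c d := fun c hc' => mem_centralizer_singleton_iff.1 (mem_inf.1 hc').2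
    have hE := hsmall (CA ⊔ zpowers d) (sup_le hCAR (zpowers_le.2 hdR)) (by
      intro e he
      rw [← SetLike.mem_coe, coe_mul_of_left_le_normalizer_right _ _ (fun c hc' => by
        rw [mem_normalizer_iff]
        intro n
        constructor
        · rintro ⟨l, rfl⟩
          exact ⟨l, by simp [((hcomm c hc').zpow_right l).eq]⟩
        · intro hn
          obtain ⟨l, hl⟩ := hn
          refine ⟨l, ?_⟩
          have := congrArg (fun t => c⁻¹ * t * c) hl
          simpa [mul_assoc, ← ((hcomm c hc').zpow_right l).eq] using this)] at he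
      obtain ⟨c, hc', x, ⟨l, rfl⟩, rfl⟩ := Set.mem_mul.1 he
      show c * d ^ l * (c * d ^ l) = 1
      rw [((hcomm c hc').zpow_right l).symm.mul_mul_mul_comm, hA2 c (mem_inf.1 hc').1, one_mul, ← zpow_add,
        ← two_mul, zpow_mul, zpow_two, hd.sq, one_zpow])
    have hi2 : 2 ≤ i := by
      rw [hi] at hsq
      by_contra h
      interval_cases i <;> omega
    have hCA4 : 4 ≤ Nat.card CA := hi ▸ Nat.pow_le_pow_right (by norm_num : 0 < 2) hi2
    have heq : CA = CA ⊔ zpowers d := eq_of_le_of_card_ge le_sup_left (hE.trans hCA4)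
    have hdCA : d ∈ CA := heq ▸ mem_sup_right (mem_zpowers d)
    exact hdA (mem_inf.1 hdCA).1
  have hQ'2 : ∀ q ∈ Q', q * q = 1 := by
    rw [← hQQ']
    rintro _ ⟨p, hp, rfl⟩
    rw [← map_mul, hQ2 p hp, map_one]
  have hR2 : ∀ r ∈ R, r * r = 1 := by
    intro r hr
    obtain ⟨q', hq', q, hq, rfl⟩ := hprod r hr
    rw [(hcommQQ q hq q' hq').mul_mul_mul_comm, hQ'2 q' hq', hQ2 q hq, one_mul]
  have hCq : ∀ q ∈ Q, q ≠ 1 → X ⊓ centralizer ({q} : Set G) = R := by
    intro q hq hq1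
    apply le_antisymm
    · intro s hs
      refine mem_inf.2 ⟨(mem_inf.1 hs).1, ?_⟩
      have := mem_stab_fix (Ω := Ω) (mem_centralizer_singleton_iff.1 (mem_inf.1 hs).2 : Commute s q)
      rwa [hc.fix_eq hF (mem_inf.1 hq).2 hq1] at this
    · exact fun r hr => mem_inf.2 ⟨hRS hr,
        mem_centralizer_singleton_iff.2 (commute_of_sq hR2 hr (mem_inf.1 hq).1).eq⟩
  have hC16 : ∀ q ∈ Q, q ≠ 1 → Nat.card ↥(X ⊓ centralizer ({q} : Set G)) ≤ 16 := fun q hq hq1 => by
    rw [hCq q hq hq1]; exact hR16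
  have hQS : Q ≤ X := inf_le_left.trans hRS
  by_cases hQA : ∃ q ∈ Q, q ∈ A ∧ q ≠ 1
  · obtain ⟨q, hq, hqA, hq1⟩ := hQA
    refine hsec (sec_of_four hQS hQc ?_ hC16)
    -- the class of `q` is small
    have hne1 : ∀ s : X, (s : G) * q * (s : G)⁻¹ ≠ 1 := fun s e => hq1 (conj_eq_one_iff.1 e)
    let f : X → {c : A // c ≠ 1} := fun s => ⟨⟨_, hAn s s.2 q hqA⟩, fun e => hne1 s (congrArg Subtype.val e)⟩
    let r : {c : A // c ≠ 1} → X := fun c => if hx : ∃ s, f s = c then hx.choose else 1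
    have hr : ∀ s, f (r (f s)) = f s := fun s => by
      have hx : ∃ y, f y = f s := ⟨s, rfl⟩
      simp only [r, dif_pos hx]
      exact hx.choose_spec
    let h : X → {c : A // c ≠ 1} × R := fun s => (f s, ⟨((r (f s) : X) : G)⁻¹ * s, by
      rw [← hCq q hq hq1]
      refine mem_inf.2 ⟨mul_mem (inv_mem (r (f s)).2) s.2, mem_centralizer_singleton_iff.2 ?_⟩
      have e : ((r (f s) : X) : G) * q * ((r (f s) : X) : G)⁻¹ = (s : G) * q * (s : G)⁻¹ :=
        congrArg (fun z => ((z.1 : A) : G)) (hr s)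
      set t := ((r (f s) : X) : G)
      calc t⁻¹ * s * q = t⁻¹ * ((s : G) * q * (s : G)⁻¹) * s := by group
        _ = t⁻¹ * (t * q * t⁻¹) * s := by rw [e]
        _ = q * (t⁻¹ * s) := by group⟩)
    have hh : Function.Injective h := by
      intro u v huv
      simp only [h, Prod.mk.injEq, Subtype.mk.injEq] at huv
      obtain ⟨h1, h2⟩ := huv
      rw [h1] at h2
      exact Subtype.ext (mul_left_cancel h2)
    have h1 := Nat.card_le_card_of_injective h hh
    haveI : Fintype A := Fintype.ofFinite _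
    rw [Nat.card_prod, Nat.card_eq_fintype_card (α := {c : A // c ≠ 1}), Fintype.card_subtype_compl,
      Fintype.card_subtype_eq, ← Nat.card_eq_fintype_card, hA8] at h1
    obtain ⟨n, hn⟩ := IsPGroup.iff_card.1 S.isPGroup'
    have h2 := h1.trans (Nat.mul_le_mul_left 7 hR16)
    rw [hn] at h2 ⊢
    rcases Nat.lt_or_ge n 7 with h | h
    · exact Nat.pow_le_pow_right (show 0 < 2 by norm_num) (show n ≤ 6 by omega)
    · have := Nat.pow_le_pow_right (show 0 < 2 by norm_num) h; omega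
  push Not at hQA
  set Δ := A ⊓ R with hΔ
  have hΔc : ∀ q ∈ Q, ∀ c ∈ Δ, Commute q c := fun q hq c hc' =>
    commute_of_sq hR2 (mem_inf.1 hq).1 (mem_inf.1 hc').2
  have hCAq : ∀ q ∈ Q, q ≠ 1 → ∀ c ∈ A, Commute c q → c ∈ Δ := fun q hq hq1 c hc' h =>
    mem_inf.2 ⟨hc', hCq q hq hq1 ▸ mem_inf.2 ⟨hAS hc', mem_centralizer_singleton_iff.2 h.eq⟩⟩
  have hΔ4 : Nat.card Δ = 4 := by
    have hinj : Function.Injective (fun p : Δ × Q => (⟨p.1 * p.2, mul_mem (mem_inf.1 p.1.2).2 (mem_inf.1 p.2.2).1⟩ : R)) := by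
      rintro ⟨x, u⟩ ⟨y, v⟩ hxy
      have hxy' : (x : G) * u = y * v := congrArg Subtype.val hxy
      have he : (y : G)⁻¹ * x = v * (u : G)⁻¹ := by
        rw [eq_mul_inv_iff_mul_eq, mul_assoc, hxy', inv_mul_cancel_left]
      have h1 : (y : G)⁻¹ * x = 1 := hQA _ (he ▸ mul_mem v.2 (inv_mem u.2))
        (mul_mem (inv_mem (mem_inf.1 y.2).1) (mem_inf.1 x.2).1)
      rw [h1] at he
      exact Prod.ext (Subtype.ext (inv_mul_eq_one.1 h1).symm) (Subtype.ext (mul_inv_eq_one.1 he.symm).symm)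
    have h1 := Nat.card_le_card_of_injective _ hinj
    rw [Nat.card_prod, hQc] at h1
    have hle : A ⊓ centralizer ({d} : Set G) ≤ Δ := fun c hc' =>
      hCAq d hdQ hd.ne_one c (mem_inf.1 hc').1 (mem_centralizer_singleton_iff.1 (mem_inf.1 hc').2)
    have hsq := (card_le_fixed_sq hA2 hd.sq (hAn d hdS)).trans (Nat.mul_le_mul (card_le_of_le hle) (card_le_of_le hle))
    obtain ⟨i, hi⟩ := two_pow_of_pgroup (A := Δ) fun c hc' => hA2 c (mem_inf.1 hc').1
    rw [hA8, hi] at hsq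
    rw [hi] at h1 ⊢
    rcases Nat.lt_or_ge i 3 with h | h
    · interval_cases i <;> omega
    · have := Nat.pow_le_pow_right (show 0 < 2 by norm_num) h; omega
  obtain ⟨a₁, ha₁, ha₁Δ⟩ : ∃ c ∈ A, c ∉ Δ := by
    by_contra h
    push Not at h
    have := card_le_of_le (show A ≤ Δ from h)
    omega
  have hQA' : ∀ q ∈ Q, (∀ c ∈ A, Commute q c) → q = 1 := fun q hq h => by
    by_contra hq1
    exact ha₁Δ (hCAq q hq hq1 a₁ ha₁ (h a₁ ha₁).symm)
  set N' := N.map X.subtype with hN'def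
  have hdispG : ∀ s ∈ X, ∀ c ∈ A, c⁻¹ * (s * c * s⁻¹) ∈ N' := by
    rintro s hs _ ⟨c, hc', rfl⟩
    exact ⟨_, hdisp ⟨s, hs⟩ c hc', rfl⟩
  have hNΔ : N' = Δ := by
    let e : Q → ↥(Δ ⊓ N') := fun q => ⟨a₁⁻¹ * ((q : G) * a₁ * (q : G)⁻¹), mem_inf.2 ⟨by
      by_cases hq1 : (q : G) = 1
      · rw [hq1]; simp
      have hqa : (q : G) * a₁ * (q : G)⁻¹ ∈ A := hAn q (hQS q.2) a₁ ha₁
      refine hCAq q q.2 hq1 _ (mul_mem (inv_mem ha₁) hqa) ?_
      rw [inv_eq_of_mul_eq_one_right (hA2 a₁ ha₁)]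
      refine (mul_inv_eq_iff_eq_mul.1 ?_).symm
      have hq2 := hQ2 q q.2
      have hqi : (q : G)⁻¹ = q := inv_eq_of_mul_eq_one_right hq2
      calc (q : G) * (a₁ * ((q : G) * a₁ * (q : G)⁻¹)) * (q : G)⁻¹
          = ((q : G) * a₁ * (q : G)⁻¹) * (((q : G) * q) * a₁ * ((q : G)⁻¹ * (q : G)⁻¹)) := by group
        _ = ((q : G) * a₁ * (q : G)⁻¹) * a₁ := by rw [← mul_inv_rev, hq2]; simp
        _ = a₁ * ((q : G) * a₁ * (q : G)⁻¹) := (commute_of_sq hA2 hqa ha₁).eq, hdispG q (hQS q.2) a₁ ha₁⟩⟩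
    have he : Function.Injective e := by
      intro p q hpq
      have h1 : (p : G) * a₁ * (p : G)⁻¹ = (q : G) * a₁ * (q : G)⁻¹ := mul_left_cancel (congrArg Subtype.val hpq :)
      refine Subtype.ext (inv_mul_eq_one.1 ?_)
      by_contra hne'
      refine ha₁Δ (hCAq _ (mul_mem (inv_mem p.2) q.2) hne' a₁ ha₁ ?_)
      refine (mul_inv_eq_iff_eq_mul.1 ?_).symm
      rw [show ((p : G)⁻¹ * q) * a₁ * ((p : G)⁻¹ * q)⁻¹ = (p : G)⁻¹ * ((q : G) * a₁ * (q : G)⁻¹) * p by group, ← h1]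
      group
    have h4 := Nat.card_le_card_of_injective e he
    rw [hQc] at h4
    have hN'4 : Nat.card N' = 4 := by rw [card_map_of_injective X.subtype_injective, hN4]
    exact (eq_of_le_of_card_ge inf_le_right (by rw [hN'4]; exact h4)).symm.trans
      (eq_of_le_of_card_ge inf_le_left (by rw [hΔ4]; exact h4))
  refine hsec (sec_of_split S.isPGroup' hAS hA2 hA8 hAn (inf_le_left : Δ ≤ A) hΔ4 ?_ ?_ hQS hQc hQ2
    hΔc (fun q hq hq1 b hb hbA hbq => ?_) hQA' hC16)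
  · rw [← show N' = A ⊓ R from hNΔ]
    rintro s hs _ ⟨c, hc', rfl⟩
    exact ⟨⟨s, hs⟩ * c * ⟨s, hs⟩⁻¹, hN.conj_mem c hc' _, rfl⟩
  · rw [← show N' = A ⊓ R from hNΔ]; exact hdispG
  · -- the centraliser of `A` in `R` is `Δ`
    have hbR : b ∈ R := hCq q hq hq1 ▸ mem_inf.2 ⟨hb, mem_centralizer_singleton_iff.2 hbq.eq⟩
    have hinj : Function.Injective (fun p : Δ × Q => (⟨p.1 * p.2, mul_mem (mem_inf.1 p.1.2).2 (mem_inf.1 p.2.2).1⟩ : R)) := by
      rintro ⟨x, u⟩ ⟨y, v⟩ hxy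
      have hxy' : (x : G) * u = y * v := congrArg Subtype.val hxy
      have he : (y : G)⁻¹ * x = v * (u : G)⁻¹ := by
        rw [eq_mul_inv_iff_mul_eq, mul_assoc, hxy', inv_mul_cancel_left]
      have h1 : (y : G)⁻¹ * x = 1 := hQA _ (he ▸ mul_mem v.2 (inv_mem u.2))
        (mul_mem (inv_mem (mem_inf.1 y.2).1) (mem_inf.1 x.2).1)
      rw [h1] at he
      exact Prod.ext (Subtype.ext (inv_mul_eq_one.1 h1).symm) (Subtype.ext (mul_inv_eq_one.1 he.symm).symm)
    obtain ⟨⟨x, u⟩, hxu⟩ := ((Nat.bijective_iff_injective_and_card _).2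
      ⟨hinj, le_antisymm (Nat.card_le_card_of_injective _ hinj)
        (by rw [Nat.card_prod, hQc, hΔ4]; exact hR16)⟩).2 ⟨b, hbR⟩
    have hb' : (x : G) * u = b := congrArg Subtype.val hxu
    have hu : (u : G) = 1 := hQA' u u.2 fun c hc' => by
      have h1 : (u : G) = (x : G)⁻¹ * b := by rw [← hb', inv_mul_cancel_left]
      rw [h1]
      exact ((commute_of_sq hA2 (mem_inf.1 x.2).1 hc').inv_left).mul_left (hbA c hc')
    rw [← hb', hu, mul_one]
    exact x.2

end Cfsg.Agent.FixityFour
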