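import Mathlib
import Cfsg.Prelude.Def_Involutions
import Cfsg.Agent.Lib.Involutions.StronglyEmbedded
import Cfsg.Agent.Lib.Involutions.ThompsonTransfer
import Cfsg.Agent.Lib.FixityFour.Pairs
import Cfsg.Agent.Lib.FixityFour.NormalFour
import Cfsg.Agent.Lib.FixityFour.VFix

/-!
# All involutions with fixed points in a Sylow subgroup fix the same four points
-/

set_option autoImplicit false
set_option linter.style.haveILetI false
set_option linter.unusedSectionVars false

namespace Cfsg.Agent.FixityFour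

open Subgroup MulAction
open scoped Pointwise

variable {G Ω : Type*} [Group G] [MulAction G Ω] [Finite G] [Finite Ω]

/-- In every two-group, the involutions with fixed points have the same fixed set. -/
theorem share {S : Sylow 2 G} {F : Set Ω} (hall : ∀ u ∈ (S : Subgroup G), IsD Ω u → fixedBy Ω u = F)
    {Q : Subgroup G} (hQ : IsPGroup 2 Q) {d e : G} (hdQ : d ∈ Q) (heQ : e ∈ Q) (hd : IsD Ω d) (he : IsD Ω e) :
    fixedBy Ω d = fixedBy Ω e := by
  haveI : Fact (Nat.Prime 2) := ⟨Nat.prime_two⟩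
  obtain ⟨m, -, hm⟩ := conj_into S (M := ⊤) le_top (le_top : Q ≤ ⊤) hQ
  have h1 := hall _ (hm d hdQ) (hd.conj m)
  have h2 := hall _ (hm e heQ) (he.conj m)
  rw [fix_conj] at h1 h2
  exact MulAction.injective m (h1.trans h2.symm)

/-- Conjugate elements centralising involutions fixing `F` are conjugate by an element stabilising `F`. -/
theorem fusion {S : Sylow 2 G} {F : Set Ω} (hall : ∀ u ∈ (S : Subgroup G), IsD Ω u → fixedBy Ω u = F)
    {d u g : G} (hd : IsD Ω d) (hdF : fixedBy Ω d = F) (hu : Commute d u) (hv : Commute d (g * u * g⁻¹)) :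
    ∃ c : G, Commute c (g * u * g⁻¹) ∧ c * g ∈ stabilizer G F := by
  haveI : Fact (Nat.Prime 2) := ⟨Nat.prime_two⟩
  set v := g * u * g⁻¹ with hvdef
  set C := centralizer ({v} : Set G)
  have hdC : d ∈ C := mem_centralizer_singleton_iff.2 hv.eq
  have hd'C : g * d * g⁻¹ ∈ C := mem_centralizer_singleton_iff.2 (by
    rw [hvdef, show g * d * g⁻¹ * (g * u * g⁻¹) = g * (d * u) * g⁻¹ by group, hu.eq]; group)
  have hp : ∀ {x : G} (hx : x ∈ C), orderOf x = 2 → IsPGroup 2 (zpowers (⟨x, hx⟩ : C)) := fun hx h2 =>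
    IsPGroup.of_card (n := 1) (by rw [Nat.card_zpowers, Subgroup.orderOf_mk, h2, pow_one])
  obtain ⟨Q, hQ⟩ := (hp hdC hd.1).exists_le_sylow
  obtain ⟨c, -, hc⟩ := conj_into Q (M := ⊤) le_top (le_top : zpowers (⟨_, hd'C⟩ : C) ≤ ⊤)
    (hp hd'C (hd.conj g).1)
  have h1 : (c : G) * (g * d * g⁻¹) * (c : G)⁻¹ ∈ (Q : Subgroup C).map C.subtype :=
    ⟨_, hc _ (mem_zpowers _), rfl⟩
  have h2 : d ∈ (Q : Subgroup C).map C.subtype := ⟨_, hQ (mem_zpowers _), rfl⟩
  have h3 := share hall (Q.isPGroup'.map C.subtype) h2 h1 hd ((hd.conj g).conj c)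
  refine ⟨c, mem_centralizer_singleton_iff.1 c.2, mem_stab_of_conj hdF ?_⟩
  rw [show (c : G) * g * d * ((c : G) * g)⁻¹ = c * (g * d * g⁻¹) * (c : G)⁻¹ by group, ← h3, hdF]

set_option synthInstance.maxSize 512 in
theorem commuting_double : ∀ σ x : Equiv.Perm (Fin 4), Equiv.Perm.sign σ = 1 → x * x = 1 →
    Fintype.card {i : Fin 4 // x i = i} = 0 → σ * x = x * σ → σ * σ = 1 := by decide +kernel

set_option synthInstance.maxSize 512 in
theorem even_two_elements : (∀ σ : Equiv.Perm (Fin 4), Equiv.Perm.sign σ = 1 → σ ^ 4 = 1 → σ * σ = 1) ∧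
    Fintype.card {σ : Equiv.Perm (Fin 4) // Equiv.Perm.sign σ = 1 ∧ σ * σ = 1} = 4 := by
  constructor <;> decide +kernel

theorem no_index_two [IsSimpleGroup G] (hna : ¬ IsMulCommutative G) (H : Subgroup G) : H.index ≠ 2 := by
  intro h
  rcases (normal_of_index_eq_two h).eq_bot_or_eq_top with e | e
  · rw [e, index_bot] at h
    exact SmallSimple.Basic.not_comm_of_not_prime (G := G) |> fun _ => hna (by
      haveI : Fact (Nat.Prime 2) := ⟨Nat.prime_two⟩
      haveI := isCyclic_of_prime_card (α := G) h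
      exact ⟨⟨fun a b => by
        obtain ⟨g, hg⟩ := IsCyclic.exists_generator (α := G)
        obtain ⟨i, rfl⟩ := hg a
        obtain ⟨j, rfl⟩ := hg b
        show g ^ i * g ^ j = g ^ j * g ^ i
        rw [← zpow_add, ← zpow_add, add_comm]⟩⟩)
  · rw [e, index_top] at h; omega

variable [FaithfulSMul G Ω] [IsPretransitive G Ω] [IsSimpleGroup G]

/-- All involutions with fixed points in a Sylow subgroup fix `F`. -/
theorem Ctx.equal_case (hc : Ctx G Ω) (S : Sylow 2 G) {z : G} (hzS : z ∈ (S : Subgroup G)) (hz : IsD Ω z)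
    (hzc : ∀ s ∈ (S : Subgroup G), Commute s z)
    (hall : ∀ u ∈ (S : Subgroup G), IsD Ω u → fixedBy Ω u = fixedBy Ω z) :
    Cfsg.SectionalPRankLE 2 4 G ∨ ∃ H : Subgroup G, Cfsg.IsStronglyEmbedded H := by
  classical
  haveI : Fact (Nat.Prime 2) := ⟨Nat.prime_two⟩
  set F := fixedBy Ω z with hFdef
  have hF : F.ncard = 4 := hc.card_D hz
  have hFu : F ≠ Set.univ := fix_ne_univ hz.ne_one
  have h0 : F.Nonempty := hz.2
  have hSF : (S : Subgroup G) ≤ stabilizer G F := fun s hs => mem_stab_fix (hzc s hs)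
  -- elements of `S` move all points off `F`
  have hoff : ∀ s ∈ (S : Subgroup G), s ≠ 1 → ∀ a, a ∉ F → s • a ≠ a := by
    intro s hs hs1 a ha hsa
    obtain ⟨k, hk, hkS, hsub⟩ := exists_D_pow S.isPGroup' hs hs1 hsa
    exact ha (hall _ hkS hk ▸ hsub hsa)
  by_cases hodd : ∃ (y : G) (hy : y ∈ (S : Subgroup G)), Equiv.Perm.sign (rho hF ⟨y, hSF hy⟩) = -1
  · obtain ⟨y, hy, hsign⟩ := hodd
    exact Or.inl (hc.sec_of_odd S hF hFu hSF hy hsign fun j hj a ha => hoff _ (pow_mem hy j) hj a ha)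
  push Not at hodd
  have hevS : ∀ (y : G) (hy : y ∈ (S : Subgroup G)), Equiv.Perm.sign (rho hF ⟨y, hSF hy⟩) = 1 := fun y hy =>
    (Int.units_eq_one_or _).resolve_right (hodd y hy)
  -- the whole stabiliser acts evenly
  have hevM : ∀ m : stabilizer G F, Equiv.Perm.sign (rho hF m) = 1 := by
    intro m
    have ho : orderOf (m : G) ≠ 0 := (orderOf_pos _).ne'
    set k := orderOf (m : G) / 2 ^ (orderOf (m : G)).factorization 2 with hk
    have hkodd : Odd k := Nat.odd_iff.2 (Nat.two_dvd_ne_zero.1 (Nat.not_dvd_ordCompl Nat.prime_two ho))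
    have hko : orderOf ((m : G) ^ k) = 2 ^ (orderOf (m : G)).factorization 2 := by
      rw [hk, orderOf_pow_of_dvd (Nat.ordCompl_pos 2 ho).ne' (Nat.ordCompl_dvd _ _),
        Nat.div_div_self (Nat.ordProj_dvd _ _) ho]
    obtain ⟨c, hc', hcS⟩ := conj_into S hSF (zpowers_le.2 (pow_mem m.2 k) : zpowers ((m : G) ^ k) ≤ _)
      (IsPGroup.of_card (by rw [Nat.card_zpowers, hko]))
    have h1 := hevS _ (hcS _ (mem_zpowers _))
    rw [show (⟨c * (m : G) ^ k * c⁻¹, hSF (hcS _ (mem_zpowers _))⟩ : stabilizer G F) =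
      ⟨c, hc'⟩ * m ^ k * (⟨c, hc'⟩ : stabilizer G F)⁻¹ from Subtype.ext rfl, map_mul, map_mul, map_mul, map_mul,
      map_inv, map_inv, map_pow, map_pow, mul_comm (Equiv.Perm.sign (rho hF ⟨c, hc'⟩)), mul_inv_cancel_right] at h1
    rcases Int.units_eq_one_or (Equiv.Perm.sign (rho hF m)) with h | h
    · exact h
    · rw [h, hkodd.neg_one_pow] at h1
      exact absurd h1 (by decide)
  have hDM : ∀ t ∈ stabilizer G F, IsD Ω t → fixedBy Ω t = F := by
    intro t ht hD
    obtain ⟨c, hc', hcS⟩ := conj_into S hSF (zpowers_le.2 ht : zpowers t ≤ _)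
      (IsPGroup.of_card (n := 1) (by rw [Nat.card_zpowers, hD.1, pow_one]))
    have h1 := hall _ (hcS t (mem_zpowers t)) (hD.conj c)
    rw [fix_conj] at h1
    conv_rhs at h1 => rw [← mem_stabilizer_iff.1 hc']
    exact MulAction.injective c h1
  by_cases hgood : ∀ x ∈ (S : Subgroup G), orderOf x = 2 → ¬ IsD Ω x → centralizer ({x} : Set G) ≤ stabilizer G F
  · refine Or.inr ⟨_, Involutions.StronglyEmbedded.of_conj (stab_ne_top h0 hFu) ?_ fun t ht ht2 g hg => ?_⟩
    · refine even_iff_two_dvd.2 ?_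
      have := orderOf_dvd_natCard (⟨z, hSF hzS⟩ : stabilizer G F)
      rwa [Subgroup.orderOf_mk, hz.1] at this
    · by_cases hD : IsD Ω t
      · exact mem_stab_of_conj (hDM t ht hD) (hDM _ hg (hD.conj g))
      · obtain ⟨c, hc', hcS⟩ := conj_into S hSF (zpowers_le.2 ht : zpowers t ≤ _)
          (IsPGroup.of_card (n := 1) (by rw [Nat.card_zpowers, ht2, pow_one]))
        obtain ⟨m, hm, hmS⟩ := conj_into S hSF (zpowers_le.2 hg : zpowers (g * t * g⁻¹) ≤ _)
          (IsPGroup.of_card (n := 1) (by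
            rw [Nat.card_zpowers, show g * t * g⁻¹ = MulAut.conj g t from rfl, MulEquiv.orderOf_eq, ht2, pow_one]))
        set u := c * t * c⁻¹ with hu
        set g' := m * g * c⁻¹ with hg'
        have huS : u ∈ (S : Subgroup G) := hcS t (mem_zpowers t)
        have hvS : g' * u * g'⁻¹ ∈ (S : Subgroup G) := by
          rw [hg', hu, show m * g * c⁻¹ * (c * t * c⁻¹) * (m * g * c⁻¹)⁻¹ = m * (g * t * g⁻¹) * m⁻¹ by group]
          exact hmS _ (mem_zpowers _)
        obtain ⟨e, he, heg⟩ := fusion hall hz rfl (hzc u huS).symm (hzc _ hvS).symm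
        have hnD : ¬ IsD Ω (g' * u * g'⁻¹) := fun h => hD (by
          have := (h.conj g'⁻¹).conj c⁻¹
          simpa [hu, mul_assoc] using this)
        have heM := hgood _ hvS (by
          rw [show g' * u * g'⁻¹ = MulAut.conj g' u from rfl, MulEquiv.orderOf_eq, hu,
            show c * t * c⁻¹ = MulAut.conj c t from rfl, MulEquiv.orderOf_eq, ht2]) hnD
          (mem_centralizer_singleton_iff.2 he.eq)
        have hgM : m * g * c⁻¹ ∈ stabilizer G F := by simpa using mul_mem (inv_mem heM) heg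
        simpa [mul_assoc] using mul_mem (mul_mem (inv_mem hm) hgM) hc'
  left
  push Not at hgood
  obtain ⟨x, hxS, hx2, hxD, hxC⟩ := hgood
  set T := (S : Subgroup G) ⊓ fixingSubgroup G F with hT
  have hTD : ∀ e ∈ T, e ≠ 1 → e * e = 1 → IsD Ω e ∧ fixedBy Ω e = F := fun e he he1 he2 =>
    ⟨⟨orderOf_eq_prime (by rw [pow_two]; exact he2) he1, h0.mono fun a ha => mem_fixing.1 (mem_inf.1 he).2 a ha⟩,
      hc.fix_eq hF (mem_inf.1 he).2 he1⟩
  have lemmaB : ∀ (x : G) (hxS : x ∈ (S : Subgroup G)), orderOf x = 2 → ¬ IsD Ω x →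
      ¬ centralizer ({x} : Set G) ≤ stabilizer G F → ∀ e₁ ∈ T, ∀ e₂ ∈ T, e₁ ≠ 1 → e₂ ≠ 1 → e₁ * e₁ = 1 → e₂ * e₂ = 1 → Commute e₁ x → Commute e₂ x →
      e₁ = e₂ := by
    intro x hxS hx2 hxD hxC
    obtain ⟨g₀, hg₀x, hg₀⟩ := SetLike.not_le_iff_exists.1 hxC
    have hxfix : Fintype.card {i : Fin 4 // rho hF ⟨x, hSF hxS⟩ i = i} = 0 := by
      rw [rho_card]
      rw [Set.ncard_eq_zero (Set.toFinite _), Set.eq_empty_iff_forall_notMem]
      exact fun a ha => hxD ⟨hx2, a, ha.2⟩
    intro e₁ h₁ e₂ h₂ h₁1 h₂1 h₁2 h₂2 h₁x h₂x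
    by_contra hne
    let Bl : Set (Set Ω) := {B | B ≠ F ∧ ∃ g, Commute g x ∧ B = g • F}
    have hBl : Bl.Nonempty := ⟨g₀ • F, fun h => hg₀ (mem_stabilizer_iff.2 h), g₀,
      mem_centralizer_singleton_iff.1 hg₀x, rfl⟩
    haveI : Nonempty Bl := hBl.to_subtype
    choose r hr hrB using fun B : Bl => B.2.2
    let el : Bl × Bool → G := fun p => r p.1 * (if p.2 then e₁ else e₂) * (r p.1)⁻¹
    have hel : ∀ p, IsD Ω (el p) ∧ Commute (el p) x ∧ fixedBy Ω (el p) = (p.1 : Set Ω) := by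
      rintro ⟨B, b⟩
      have hb : IsD Ω (if b then e₁ else e₂) ∧ Commute (if b then e₁ else e₂) x ∧
          fixedBy Ω (if b then e₁ else e₂) = F := by
        cases b
        · exact ⟨(hTD _ h₂ h₂1 h₂2).1, h₂x, (hTD _ h₂ h₂1 h₂2).2⟩
        · exact ⟨(hTD _ h₁ h₁1 h₁2).1, h₁x, (hTD _ h₁ h₁1 h₁2).2⟩
      refine ⟨hb.1.conj _, ((hr B).mul_left hb.2.1).mul_left (hr B).inv_left, ?_⟩
      show fixedBy Ω (r B * _ * (r B)⁻¹) = _
      rw [fix_conj, hb.2.2, ← hrB B]
    have hout : ∀ p, el p ∉ stabilizer G F := fun p hp =>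
      p.1.2.1 ((hel p).2.2.symm.trans (hDM _ hp (hel p).1))
    let f : Bl × Bool → Bl := fun p => ⟨el p • F, fun h => hout p (mem_stabilizer_iff.2 h), el p, (hel p).2.1, rfl⟩
    have hninj : ¬ Function.Injective f := by
      intro hinj
      have := Nat.card_le_card_of_injective f hinj
      rw [Nat.card_prod, Nat.card_eq_fintype_card (α := Bool), Fintype.card_bool] at this
      have : 0 < Nat.card Bl := Nat.card_pos
      omega
    simp only [Function.Injective, not_forall] at hninj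
    obtain ⟨p, q, hpq, hne'⟩ := hninj
    set e := el p with hedef
    set e' := el q with he'def
    have hee : e ≠ e' := by
      intro h
      have hB : p.1 = q.1 := Subtype.ext ((hel p).2.2.symm.trans ((congrArg (fixedBy Ω) h).trans (hel q).2.2))
      obtain ⟨B, b⟩ := p
      obtain ⟨B', b'⟩ := q
      simp only at hB
      subst hB
      have hi : (if b then e₁ else e₂) = (if b' then e₁ else e₂) := mul_left_cancel (mul_right_cancel h)
      cases b <;> cases b'
      exacts [hne' rfl, hne hi.symm, hne hi, hne' rfl]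
    have hFe : e • F = e' • F := congrArg Subtype.val hpq
    have hei : e⁻¹ = e := inv_eq_of_mul_eq_one_right (hel p).1.sq
    have he'i : e'⁻¹ = e' := inv_eq_of_mul_eq_one_right (hel q).1.sq
    set j := e * e' with hj
    have hjF : j ∈ stabilizer G F := mem_stabilizer_iff.2 (by
      rw [hj, mul_smul, ← hFe, smul_smul, (hel p).1.sq, one_smul])
    have hjx : Commute j x := (hel p).2.1.mul_left (hel q).2.1
    have hjj : j * j ∈ fixingSubgroup G F := by
      refine (rho_one hF (mul_mem hjF hjF)).1 ?_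
      set j' : stabilizer G F := ⟨j, hjF⟩ with hj'
      have e2 : (⟨j * j, mul_mem hjF hjF⟩ : stabilizer G F) = j' * j' := Subtype.ext rfl
      rw [e2, map_mul]
      refine commuting_double _ (rho hF ⟨x, hSF hxS⟩) (hevM _) ?_ hxfix ?_
      · rw [← map_mul]
        convert map_one (rho hF)
        exact Subtype.ext (by
          have := pow_orderOf_eq_one x
          rwa [hx2, pow_two] at this)
      · rw [← map_mul, ← map_mul]
        exact congrArg (rho hF) (Subtype.ext hjx.eq)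
    have hjj1 : j * j = 1 := by
      obtain ⟨a, haB, haF⟩ : ∃ a ∈ e • F, a ∉ F := by
        by_contra hsub
        push Not at hsub
        have hle : F.ncard ≤ (e • F).ncard := le_of_eq (Set.ncard_image_of_injective _ (MulAction.injective e)).symm
        exact (f p).2.1 (Set.eq_of_subset_of_ncard_le hsub hle (Set.toFinite _))
      obtain ⟨b, hb, rfl⟩ := haB
      refine hc.eq_one_of_five hF hjj haF ?_
      have h1 := mem_fixing.1 (inv_mem hjj) b hb
      have key : j * j * e = e * (j * j)⁻¹ := by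
        rw [hj]; simp only [mul_inv_rev, hei, he'i]; simp [mul_assoc]
      show (j * j) • e • b = e • b
      rw [smul_smul, key, mul_smul, h1]
    have hcom : Commute e e' := by
      show e * e' = e' * e
      calc e * e' = j := rfl
        _ = j⁻¹ := (inv_eq_of_mul_eq_one_right hjj1).symm
        _ = e' * e := by rw [hj, mul_inv_rev, hei, he'i]
    obtain ⟨V, hV4, -, heV, he'V, -⟩ := exists_four (hel p).1.sq (hel q).1.sq hcom (hel p).1.ne_one (hel q).1.ne_one hee
    have hsame := share hall (IsPGroup.of_card (n := 2) (by rw [hV4]; rfl) : IsPGroup 2 V) heV he'V (hel p).1 (hel q).1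
    have hjfix : j ∈ fixingSubgroup G (fixedBy Ω e) := mul_mem (mem_fixing.2 fun a ha => ha)
      (mem_fixing.2 fun a ha => (hsame ▸ ha : a ∈ fixedBy Ω e'))
    have hj1 : j ≠ 1 := fun h => hee ((mul_eq_one_iff_eq_inv.1 h).trans he'i)
    have hjD : IsD Ω j := ⟨orderOf_eq_prime (by rw [pow_two]; exact hjj1) hj1,
      (hel p).1.2.mono fun a ha => mem_fixing.1 hjfix a ha⟩
    refine p.1.2.1 ?_
    rw [← (hel p).2.2, ← hc.fix_eq (hc.card_D (hel p).1) hjfix hj1, hDM j hjF hjD]
  -- the index of the kernel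
  have hTi : T.relIndex (S : Subgroup G) ≤ 4 := by
    obtain ⟨I, hI, hIm⟩ := card_split hF (S : Subgroup G) hSF
    have hI4 : Nat.card I ≤ 4 := by
      obtain ⟨hsq, hcard⟩ := even_two_elements
      refine le_trans (Nat.card_le_card_of_injective
        (fun q : I => (⟨q.1, ?_⟩ : {σ : Equiv.Perm (Fin 4) // Equiv.Perm.sign σ = 1 ∧ σ * σ = 1})) ?_)
        (by rw [Nat.card_eq_fintype_card, hcard])
      · obtain ⟨y, hy, hq⟩ := (hIm _).1 q.2
        rw [← hq]
        refine ⟨hevS y hy, hsq _ (hevS y hy) ?_⟩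
        obtain ⟨k, hk⟩ := IsPGroup.iff_orderOf.1 S.isPGroup' ⟨y, hy⟩
        rw [Subgroup.orderOf_mk] at hk
        obtain ⟨i, hi, hi'⟩ := (Nat.dvd_prime_pow Nat.prime_two).1
          ((orderOf_map_dvd (rho hF) ⟨y, hSF hy⟩).trans (by rw [Subgroup.orderOf_mk, hk]))
        have hle : orderOf (rho hF ⟨y, hSF hy⟩) ∣ 4 := by
          have hd := orderOf_dvd_natCard (rho hF ⟨y, hSF hy⟩)
          rw [Nat.card_perm, Nat.card_fin, hi'] at hd
          rw [hi']
          refine pow_dvd_pow 2 (Nat.lt_succ_iff.1 ?_) |>.trans (dvd_refl (2 ^ 2))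
          by_contra h3
          have h16 : 2 ^ 3 ∣ 2 ^ i := pow_dvd_pow 2 (by omega)
          have : ∀ σ : Equiv.Perm (Fin 4), σ ^ 12 = 1 := by decide +kernel
          have h12 := orderOf_dvd_of_pow_eq_one (this (rho hF ⟨y, hSF hy⟩))
          rw [hi'] at h12
          have := h16.trans h12
          omega
        exact orderOf_dvd_iff_pow_eq_one.1 hle
      · intro p q hpq
        exact Subtype.ext (congrArg (fun z => z.1) hpq :)
    have hmul : Nat.card T * T.relIndex (S : Subgroup G) = Nat.card (S : Subgroup G) := by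
      rw [← relIndex_bot_left T, ← relIndex_bot_left (S : Subgroup G)]
      exact relIndex_mul_relIndex _ _ _ bot_le inf_le_left
    refine Nat.le_of_mul_le_mul_left ?_ (Nat.card_pos : 0 < Nat.card T)
    rw [hmul, hI]
    exact Nat.mul_le_mul_left _ hI4
  have hTn : ∀ s ∈ (S : Subgroup G), ∀ t ∈ T, s * t * s⁻¹ ∈ T := by
    intro s hs t ht
    refine mem_inf.2 ⟨mul_mem (mul_mem hs (mem_inf.1 ht).1) (inv_mem hs), mem_fixing.2 fun a ha => ?_⟩
    rw [mul_smul, mul_smul, mem_fixing.1 (mem_inf.1 ht).2 _ (smul_mem_of_mem (inv_mem (hSF hs)) ha), smul_inv_smul]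
  haveI : (T.subgroupOf (S : Subgroup G)).Normal := ⟨fun t ht s => mem_subgroupOf.2 (hTn s s.2 t ht)⟩
  have hR : T.subgroupOf (S : Subgroup G) ≠ ⊥ := fun h => by
    have : (⟨z, hzS⟩ : (S : Subgroup G)) ∈ T.subgroupOf (S : Subgroup G) :=
      mem_subgroupOf.2 (mem_inf.2 ⟨hzS, mem_fixing.2 fun a ha => ha⟩)
    rw [h, mem_bot] at this
    exact hz.ne_one (congrArg Subtype.val this)
  rcases NormalFour.exists_four_or_cyclic S.isPGroup' (T.subgroupOf (S : Subgroup G)) hR with
    ⟨E, hEn, hET, hE4, hE2⟩ | ⟨y, hyT, hy⟩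
  swap
  · refine rank_of_sec S (sec_of_cyclic y.2 ?_)
    have h1 : (zpowers (y : G)).relIndex T ≤ 2 := by
      rw [← relIndex_subgroupOf (inf_le_left : T ≤ (S : Subgroup G))]
      convert hy using 2
      ext w
      rw [mem_subgroupOf]
      constructor
      · rintro ⟨i, hi⟩; exact ⟨i, Subtype.ext (by simpa using hi)⟩
      · rintro ⟨i, rfl⟩; exact ⟨i, by simp⟩
    rw [← relIndex_mul_relIndex (zpowers (y : G)) T (S : Subgroup G) (zpowers_le.2 hyT) inf_le_left]
    exact (Nat.mul_le_mul h1 hTi).trans le_rfl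
  exfalso
  haveI := hEn
  set K := centralizer (E : Set (S : Subgroup G)) with hK
  -- centralisers of involutions outside the kernel commuting with `E` lie in the stabiliser
  have hgK : ∀ w : (S : Subgroup G), w ∈ K → orderOf (w : G) = 2 → ¬ IsD Ω (w : G) →
      centralizer ({(w : G)} : Set G) ≤ stabilizer G F := by
    intro w hwK hw2 hwD
    by_contra hwC
    haveI : Fintype E := Fintype.ofFinite _
    have h2 : 2 < Fintype.card E := by rw [← Nat.card_eq_fintype_card, hE4]; norm_num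
    obtain ⟨a, b, c, hab, hac, hbc⟩ := Fintype.two_lt_card_iff.1 h2
    have hex : ∃ p q : E, p ≠ 1 ∧ q ≠ 1 ∧ p ≠ q := by
      by_cases ha : a = 1
      · exact ⟨b, c, fun e => hab (ha.trans e.symm), fun e => hac (ha.trans e.symm), hbc⟩
      by_cases hb : b = 1
      · exact ⟨a, c, ha, fun e => hbc (hb.trans e.symm), hac⟩
      exact ⟨a, b, ha, hb, hab⟩
    obtain ⟨p, q, hp, hq, hpq⟩ := hex
    have hval : ∀ r : E, (r : (S : Subgroup G)) = 1 ↔ r = 1 := fun r => OneMemClass.coe_eq_one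
    refine hpq (Subtype.ext (Subtype.ext (lemmaB _ w.2 hw2 hwD hwC _ (hET p.2) _ (hET q.2)
      (fun e => hp ((hval p).1 (Subtype.ext e))) (fun e => hq ((hval q).1 (Subtype.ext e)))
      (congrArg Subtype.val (hE2 _ p.2)) (congrArg Subtype.val (hE2 _ q.2)) ?_ ?_)))
    · exact congrArg Subtype.val (mem_centralizer_iff.1 hwK _ p.2)
    · exact congrArg Subtype.val (mem_centralizer_iff.1 hwK _ q.2)
  have hxK : (⟨x, hxS⟩ : (S : Subgroup G)) ∉ K := fun h => hxC (hgK _ h hx2 hxD)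
  -- the centraliser of `E` has index two
  have hE1 : E ≠ ⊥ := fun e => by rw [e, card_bot] at hE4; omega
  obtain ⟨c, hcE, hc2, hcc⟩ := exists_central (R := (⊤ : Subgroup (S : Subgroup G))) (S.isPGroup'.to_subgroup _) le_top
    (fun r _ e he => hEn.conj_mem e he r) hE1
  have hflip : ∀ g : (S : Subgroup G), g ∉ K → ∀ w ∈ E, w ≠ 1 → w ≠ c → g * w * g⁻¹ = c * w := by
    intro g hg w hw hw1 hwc
    obtain ⟨V, hV4, -, hcV, hwV, hVm⟩ := exists_four (hE2 c hcE) (hE2 w hw) (commute_of_sq hE2 hcE hw)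
      (fun e => by rw [e, orderOf_one] at hc2; omega) hw1 (Ne.symm hwc)
    have hVE : V = E := eq_of_le_of_card_ge (fun y hy => by
      rcases hVm y hy with rfl | rfl | rfl | rfl
      exacts [one_mem _, hcE, hw, mul_mem hcE hw]) (by rw [hE4, hV4])
    rcases hVm _ (hVE.symm ▸ hEn.conj_mem w hw g) with h | h | h | h
    · exact absurd (conj_eq_one_iff.1 h) hw1
    · refine absurd ?_ hwc
      calc w = g⁻¹ * (g * w * g⁻¹) * g := by group
        _ = g⁻¹ * (c * g) := by rw [h, mul_assoc]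
        _ = c := by rw [← (hcc g (mem_top g)).eq, inv_mul_cancel_left]
    · refine absurd (mem_centralizer_iff.2 fun y hy => ?_) hg
      have hgw : g * w = w * g := mul_inv_eq_iff_eq_mul.1 h
      rcases hVm y (hVE.symm ▸ hy) with rfl | rfl | rfl | rfl
      exacts [(Commute.one_left g).eq, (hcc g (mem_top g)).eq.symm, hgw.symm,
        ((hcc g (mem_top g)).mul_right hgw).eq.symm]
    · exact h
  have hidx : K.index = 2 := by
    refine Subgroup.index_eq_two_iff.2 ⟨⟨x, hxS⟩, fun g => ?_⟩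
    by_cases hg : g ∈ K
    · exact Or.inr ⟨hg, fun hh => hxK (by simpa using mul_mem (inv_mem hg) hh)⟩
    · refine Or.inl ⟨mem_centralizer_iff.2 fun w hw => ?_, hg⟩
      set x₀ : (S : Subgroup G) := ⟨x, hxS⟩
      have hgoal : g * x₀ * w * (g * x₀)⁻¹ = w := by
        by_cases hw1 : w = 1
        · simp [hw1]
        by_cases hwc : w = c
        · rw [hwc, (hcc (g * x₀) (mem_top _)).eq, mul_inv_cancel_right]
        rw [show g * x₀ * w * (g * x₀)⁻¹ = g * (x₀ * w * x₀⁻¹) * g⁻¹ by group, hflip x₀ hxK w hw hw1 hwc,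
          show g * (c * w) * g⁻¹ = (g * c * g⁻¹) * (g * w * g⁻¹) by group, hflip g hg w hw hw1 hwc,
          (hcc g (mem_top g)).eq, mul_inv_cancel_right, ← mul_assoc, hE2 c hcE, one_mul]
      exact (mul_inv_eq_iff_eq_mul.1 hgoal).symm
  obtain ⟨g₁, hg₁⟩ := Involutions.ThompsonTransfer.exists_conj_mem (no_index_two hc.na) S (K.map (S : Subgroup G).subtype)
    (map_subtype_le K) (by
      show (K.map (S : Subgroup G).subtype).relIndex (S : Subgroup G) = 2
      rw [relIndex, subgroupOf, comap_map_eq_self_of_injective (S : Subgroup G).subtype_injective]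
      exact hidx) x hx2
  obtain ⟨w, hwK, hwe⟩ := hg₁
  change (w : G) = g₁ * x * g₁⁻¹ at hwe
  have hw2 : orderOf (w : G) = 2 := by
    rw [hwe, show g₁ * x * g₁⁻¹ = MulAut.conj g₁ x from rfl, MulEquiv.orderOf_eq, hx2]
  have hwD : ¬ IsD Ω (w : G) := fun h => hxD (by
    have := h.conj g₁⁻¹
    rw [hwe] at this
    simpa [mul_assoc] using this)
  have hwM := hgK w hwK hw2 hwD
  obtain ⟨d, hd, hdg⟩ := fusion hall hz rfl (hzc x hxS).symm (hwe ▸ (hzc _ w.2).symm)
  have hdM : d ∈ stabilizer G F := hwM (mem_centralizer_singleton_iff.2 (hwe ▸ hd.eq))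
  have hg₁M : g₁ ∈ stabilizer G F := by simpa using mul_mem (inv_mem hdM) hdg
  obtain ⟨g₀, hg₀x, hg₀⟩ := SetLike.not_le_iff_exists.1 hxC
  refine hg₀ ?_
  have hm : g₁ * g₀ * g₁⁻¹ ∈ stabilizer G F := hwM (mem_centralizer_singleton_iff.2 (by
    rw [hwe, show g₁ * g₀ * g₁⁻¹ * (g₁ * x * g₁⁻¹) = g₁ * (g₀ * x) * g₁⁻¹ by group,
      mem_centralizer_singleton_iff.1 hg₀x]
    group))
  simpa [mul_assoc] using mul_mem (mul_mem (inv_mem hg₁M) hm) hg₁M

end Cfsg.Agent.FixityFour
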