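import Mathlib
import Cfsg.Agent.Lib.FixityFour.Equal
import Cfsg.Agent.Lib.FixityFour.DisjointA
import Cfsg.Agent.Lib.FixityFour.DisjointB

/-!
# Involutions fixing four points
-/

set_option autoImplicit false
set_option linter.style.haveILetI false
set_option linter.unusedSectionVars false

namespace Cfsg.Agent.FixityFour

open Subgroup MulAction
open scoped Pointwise

variable {G Ω : Type*} [Group G] [MulAction G Ω] [Finite G] [Finite Ω] [FaithfulSMul G Ω] [IsPretransitive G Ω]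
  [IsSimpleGroup G]

/-- Some involution fixes four points: a strongly embedded subgroup or sectional two-rank at most four. -/
theorem Ctx.four_case (hc : Ctx G Ω) (hex : ∃ d : G, IsD Ω d) :
    Cfsg.SectionalPRankLE 2 4 G ∨ ∃ H : Subgroup G, Cfsg.IsStronglyEmbedded H := by
  classical
  haveI : Fact (Nat.Prime 2) := ⟨Nat.prime_two⟩
  by_cases htwo : ∃ d e : G, IsD Ω d ∧ IsD Ω e ∧ Commute d e ∧ (fixedBy Ω d ∩ fixedBy Ω e).ncard = 2
  · obtain ⟨d, e, hd, he, hde, h2⟩ := htwo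
    exact Or.inl (hc.sec_of_two hd he hde h2)
  have hpair : ∀ d e : G, IsD Ω d → IsD Ω e → Commute d e → (fixedBy Ω d ∩ fixedBy Ω e).ncard ≠ 2 :=
    fun d e hd he hde h2 => htwo ⟨d, e, hd, he, hde, h2⟩
  obtain ⟨d₀, hd₀⟩ := hex
  set F := fixedBy Ω d₀ with hFdef
  have hF : F.ncard = 4 := hc.card_D hd₀
  set M := stabilizer G F with hM
  have hd₀M : d₀ ∈ M := mem_stab_fix (Commute.refl d₀)
  -- a Sylow subgroup of the stabiliser, extended to one of `G`
  obtain ⟨P, hP⟩ : ∃ P : Sylow 2 M, zpowers (⟨d₀, hd₀M⟩ : M) ≤ (P : Subgroup M) :=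
    (IsPGroup.of_card (n := 1) (by rw [Nat.card_zpowers, Subgroup.orderOf_mk, hd₀.1, pow_one]) :
      IsPGroup 2 (zpowers (⟨d₀, hd₀M⟩ : M))).exists_le_sylow
  obtain ⟨S, hS⟩ := (P.isPGroup'.map M.subtype).exists_le_sylow
  set R := (S : Subgroup G) ⊓ M with hR
  have hd₀R : d₀ ∈ R ⊓ fixingSubgroup G F :=
    mem_inf.2 ⟨mem_inf.2 ⟨hS ⟨_, hP (mem_zpowers _), rfl⟩, hd₀M⟩, mem_fixing.2 fun a ha => ha⟩
  obtain ⟨d, hd, hd2, hdc⟩ := exists_central (S.isPGroup'.to_le (inf_le_left : R ≤ _))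
    (inf_le_left : R ⊓ fixingSubgroup G F ≤ R) (fun r hr x hx => by
      refine mem_inf.2 ⟨mul_mem (mul_mem hr (mem_inf.1 hx).1) (inv_mem hr), mem_fixing.2 fun a ha => ?_⟩
      rw [mul_smul, mul_smul, mem_fixing.1 (mem_inf.1 hx).2 _
        (smul_mem_of_mem (inv_mem (mem_inf.1 hr).2) ha), smul_inv_smul])
    (fun h => hd₀.ne_one (by rwa [h, mem_bot] at hd₀R))
  have hd1 : d ≠ 1 := fun e => by rw [e, orderOf_one] at hd2; omega
  have hdF : fixedBy Ω d = F := hc.fix_eq hF (mem_inf.1 hd).2 hd1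
  have hdD : IsD Ω d := ⟨hd2, hdF.symm ▸ hd₀.2⟩
  have hdS : d ∈ (S : Subgroup G) := (mem_inf.1 (mem_inf.1 hd).1).1
  by_cases hRS : R = (S : Subgroup G)
  · have hdc' : ∀ s ∈ (S : Subgroup G), Commute s d := fun s hs => hdc s (show s ∈ R by rw [hRS]; exact hs)
    by_cases hall : ∀ u ∈ (S : Subgroup G), IsD Ω u → fixedBy Ω u = fixedBy Ω d
    · exact hc.equal_case S hdS hdD hdc' hall
    · push Not at hall
      obtain ⟨x, hxS, hx, hxF⟩ := hall
      exact Or.inl (hc.disjoint_central hpair S hdD hdc' hxS hx hxF)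
  · refine Or.inl (hc.disjoint_noncentral hpair S hdD hdS (fun r hr => hdc r ?_) ?_)
    · rwa [hdF] at hr
    · rwa [hdF]

end Cfsg.Agent.FixityFour
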