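import Mathlib
import Cfsg.Prelude.Def_Involutions
import Cfsg.Agent.Lib.Involutions.StronglyEmbedded
import Cfsg.Agent.Recognition.FixityTwoSylow
import Cfsg.Agent.Lib.FixityFour.Shape

/-!
# All involutions fix the same number `k ≤ 3` of points
-/

set_option autoImplicit false
set_option linter.style.haveILetI false
set_option linter.unusedSectionVars false

namespace Cfsg.Agent.FixityFour

open Subgroup MulAction
open scoped Pointwise

variable {G Ω : Type*} [Group G] [Finite G] [MulAction G Ω] [FaithfulSMul G Ω] [IsPretransitive G Ω] [Finite Ω]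

theorem sq_of_order_two {g : G} (h : orderOf g = 2) : g * g = 1 := by
  have := pow_orderOf_eq_one g
  rwa [h, pow_two] at this

theorem ne_one_of_order_two {g : G} (h : orderOf g = 2) : g ≠ 1 := fun e => by
  rw [e, orderOf_one] at h; omega

theorem order_two {g : G} (h : g * g = 1) (h1 : g ≠ 1) : orderOf g = 2 :=
  orderOf_eq_prime (by rw [pow_two]; exact h) h1

/-- A strongly embedded stabiliser: all involutions of a Sylow subgroup have the same fixed set. -/
theorem stronglyEmbedded_of_fix (S : Sylow 2 G) {F : Set Ω} (h0 : F.Nonempty) {z : G}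
    (hz : z ∈ (S : Subgroup G)) (hz2 : orderOf z = 2) (hSF : (S : Subgroup G) ≤ stabilizer G F)
    (hall : ∀ u ∈ (S : Subgroup G), orderOf u = 2 → fixedBy Ω u = F) :
    ∃ H : Subgroup G, Cfsg.IsStronglyEmbedded H := by
  haveI : Fact (Nat.Prime 2) := ⟨Nat.prime_two⟩
  have hne : F ≠ Set.univ := hall z hz hz2 ▸ fix_ne_univ (ne_one_of_order_two hz2)
  have hfix : ∀ t ∈ stabilizer G F, orderOf t = 2 → fixedBy Ω t = F := by
    intro t ht ht2
    obtain ⟨m, hm, hmS⟩ := conj_into S (P := zpowers t) hSF (zpowers_le.2 ht)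
      (IsPGroup.of_card (n := 1) (by rw [Nat.card_zpowers, ht2, pow_one]))
    have h1 := hall _ (hmS t (mem_zpowers t)) (by
      rw [show m * t * m⁻¹ = MulAut.conj m t from rfl, MulEquiv.orderOf_eq, ht2])
    rw [fix_conj] at h1
    conv_rhs at h1 => rw [← mem_stabilizer_iff.1 hm]
    exact (MulAction.injective m) h1
  refine ⟨_, Involutions.StronglyEmbedded.of_conj (stab_ne_top h0 hne) ?_ fun t ht ht2 g hg => ?_⟩
  · exact even_iff_two_dvd.2 (hz2 ▸ (by
      have := orderOf_dvd_natCard (⟨z, hSF hz⟩ : stabilizer G F)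
      rwa [Subgroup.orderOf_mk] at this))
  · exact mem_stab_of_conj (hfix t ht ht2) (hfix _ hg (by
      rw [show g * t * g⁻¹ = MulAut.conj g t from rfl, MulEquiv.orderOf_eq, ht2]))

/-- All involutions fix exactly `k ≤ 3` points, `k` positive. -/
theorem small_case (S : Sylow 2 G) {k : ℕ} (hk1 : 1 ≤ k) (hk3 : k ≤ 3) (hev : ∃ g : G, orderOf g = 2)
    (hall : ∀ g : G, orderOf g = 2 → (fixedBy Ω g).ncard = k) :
    (∃ H : Subgroup G, Cfsg.IsStronglyEmbedded H) ∨
      ((∃ n : ℕ, Nonempty ((S : Subgroup G) ≃* DihedralGroup n)) ∨ Cfsg.IsQuasiDihedral (S : Subgroup G)) := by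
  classical
  haveI : Fact (Nat.Prime 2) := ⟨Nat.prime_two⟩
  have hS1 : (S : Subgroup G) ≠ ⊥ := by
    obtain ⟨g, hg⟩ := hev
    exact S.ne_bot_of_dvd_card (hg ▸ orderOf_dvd_natCard g)
  obtain ⟨z, hz, hz2, hzc⟩ := exists_central S.isPGroup' le_rfl (fun r hr x hx => mul_mem (mul_mem hr hx) (inv_mem hr)) hS1
  set F := fixedBy Ω z with hF
  have hFk : F.ncard = k := hall z hz2
  have h0 : F.Nonempty := Set.nonempty_of_ncard_ne_zero (by omega)
  have hSF : (S : Subgroup G) ≤ stabilizer G F := fun s hs => mem_stab_fix (hzc s hs)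
  by_cases hsame : ∀ u ∈ (S : Subgroup G), orderOf u = 2 → fixedBy Ω u = F
  · exact Or.inl (stronglyEmbedded_of_fix S h0 hz hz2 hSF hsame)
  right
  push Not at hsame
  obtain ⟨x, hxS, hx2, hxF⟩ := hsame
  set C := (S : Subgroup G) ⊓ centralizer ({x} : Set G) with hC
  have hCp : IsPGroup 2 C := S.isPGroup'.to_le inf_le_left
  have hCc : ∀ c ∈ C, Commute c x := fun c hc => mem_centralizer_singleton_iff.1 (mem_inf.1 hc).2
  set B := fixedBy Ω x \ F with hB
  have hB0 : B.Nonempty := Set.sdiff_nonempty.2 fun h => hxF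
    (Set.eq_of_subset_of_ncard_le h (by rw [hFk, hall x hx2]) (Set.toFinite _))
  obtain ⟨a, ha⟩ := hB0
  have hker : Nat.card ↥(C ⊓ fixingSubgroup G F) ≤ 3 := by
    refine le_trans (card_le_of_free (Set.toFinite B) _ (a := a) (fun c hc => ?_) fun c hc hca => ?_) ?_
    · obtain ⟨hcC, hcF⟩ := mem_inf.1 hc
      refine ⟨smul_mem_of_mem (mem_stab_fix (hCc c hcC)) ha.1, fun h => ha.2 ?_⟩
      have h' := smul_mem_of_mem (inv_mem (fixing_le_stab hcF)) h
      rwa [inv_smul_smul] at h'
    · by_contra hc1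
      obtain ⟨hcC, hcF⟩ := mem_inf.1 hc
      obtain ⟨j, hj⟩ := exists_pow_orderOf hCp hcC hc1
      have hsub : insert a F ⊆ fixedBy Ω (c ^ j) := by
        refine Set.insert_subset (fix_subset_pow c j hca) fun b hb => fix_subset_pow c j ?_
        exact mem_fixing.1 hcF b hb
      have := Set.ncard_le_ncard hsub (Set.toFinite _)
      rw [Set.ncard_insert_of_notMem ha.2, hFk, hall _ hj] at this
      omega
    · exact (Set.ncard_le_ncard Set.sdiff_subset (Set.toFinite _)).trans (by rw [hall x hx2]; omega)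
  obtain ⟨i, hi, hid⟩ := image_le C hCp (F := F) ((inf_le_left : C ≤ _).trans hSF)
  have hC4 : Nat.card C ≤ 4 := by
    obtain ⟨j, hj⟩ := IsPGroup.iff_card.1 (hCp.to_le (inf_le_left : C ⊓ fixingSubgroup G F ≤ C))
    have hj1 : j ≤ 1 := by
      by_contra h
      rw [hj] at hker
      have : 2 ^ 2 ≤ 2 ^ j := Nat.pow_le_pow_right (by norm_num) (by omega)
      omega
    have hi1 : i ≤ 1 := by
      by_contra h
      rw [hFk] at hid
      have h4 : 4 ∣ k.factorial := (pow_dvd_pow 2 (show 2 ≤ i by omega)).trans hid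
      interval_cases k <;> norm_num [Nat.factorial] at h4
    rw [hi, hj, ← pow_add]
    exact Nat.pow_le_pow_right (by norm_num : 0 < 2) (by omega : j + i ≤ 2)
  obtain ⟨V, hV4, -, hzV, hxV, hVm⟩ := exists_four (sq_of_order_two hz2) (sq_of_order_two hx2) (hzc x hxS).symm
    (ne_one_of_order_two hz2) (ne_one_of_order_two hx2) (fun e => hxF (by rw [← e]))
  have hVC : V ≤ C := fun v hv => by
    have hxC : x ∈ C := mem_inf.2 ⟨hxS, mem_centralizer_singleton_iff.2 rfl⟩
    have hzC : z ∈ C := mem_inf.2 ⟨hz, mem_centralizer_singleton_iff.2 (hzc x hxS).symm.eq⟩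
    rcases hVm v hv with rfl | rfl | rfl | rfl
    exacts [one_mem _, hzC, hxC, mul_mem hzC hxC]
  have hVeq : V = C := eq_of_le_of_card_ge hVC (hC4.trans hV4.ge)
  refine Recognition.FixityTwoSylow.dihedral_or_semidihedral S.isPGroup' (u := ⟨x, hxS⟩)
    (by rw [Subgroup.orderOf_mk, hx2]) ?_ fun _ => ⟨⟨z, hz⟩, by rw [Subgroup.orderOf_mk, hz2],
      fun e => hxF (by
        have he : z = x := congrArg Subtype.val e
        rw [hF, he])⟩
  rw [← hV4, hVeq]
  rw [← Nat.card_congr (subgroupOfEquivOfLe (inf_le_left : C ≤ _)).toEquiv]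
  refine Nat.card_congr (Equiv.subtypeEquivRight fun s => ?_)
  rw [mem_subgroupOf, mem_inf, mem_centralizer_singleton_iff, mem_centralizer_singleton_iff, Subtype.ext_iff]
  exact ⟨fun h => ⟨s.2, h⟩, fun h => h.2⟩

end Cfsg.Agent.FixityFour
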