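import Mathlib
import Cfsg.Agent.Lib.FixityFour.Shape
import Cfsg.Agent.Lib.Involutions.TransferControl

/-!
# An element of order three with centraliser of three-part nine, never inverted

Such an element is outside the kernel of some homomorphism to a cyclic group of order three.
-/

set_option autoImplicit false
set_option linter.style.haveILetI false
set_option linter.unusedSectionVars false

namespace Cfsg.Agent.FixityFour.Three

open Subgroup

/-- The group of order three receiving the homomorphisms. -/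
abbrev C3 := Multiplicative (ZMod 3)

set_option synthInstance.maxSize 512 in
/-- A set of nonzero vectors of the plane without opposite pairs lies on a line off the origin or sums to
one of its members up to sign. -/
theorem plane_fact : ∀ S : Finset (ZMod 3 × ZMod 3), (∀ c ∈ S, -c ∉ S) →
    (∀ a : ZMod 3 × ZMod 3, ∃ c ∈ S, a.1 * c.1 + a.2 * c.2 ≠ 1) →
    (∑ c ∈ S, c) ∈ S ∨ -(∑ c ∈ S, c) ∈ S := by decide +kernel

variable {X : Type*} [Group X] [Finite X]

theorem mem_normalizer_of_conj_mem {K : Subgroup X} {g : X} (h : ∀ y ∈ K, g * y * g⁻¹ ∈ K) :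
    g ∈ normalizer (K : Set X) := by
  have hmap : K.map (MulAut.conj g).toMonoidHom = K :=
    eq_of_le_of_card_ge (by rintro _ ⟨y, hy, rfl⟩; exact h y hy)
      (by rw [card_map_of_injective (MulAut.conj g).injective])
  refine mem_normalizer_iff.2 fun y => ⟨h y, fun hy => ?_⟩
  rw [← hmap] at hy
  obtain ⟨w, hw, hwe⟩ := hy
  exact ((MulAut.conj g).injective hwe : w = y) ▸ hw

/-- The subgroup of order nine on two commuting independent elements of order three. -/
theorem exists_nine {x z : X} (hx : x ^ 3 = 1) (hz : z ^ 3 = 1) (hxz : Commute x z) (hx1 : x ≠ 1)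
    (hzx : ∀ i : ℕ, z ≠ x ^ i) : ∃ K : Subgroup X, Nat.card K = 9 ∧ x ∈ K ∧ z ∈ K ∧ IsPGroup 3 K ∧
      ∀ y ∈ K, ∃ i j : Fin 3, y = x ^ (i : ℕ) * z ^ (j : ℕ) := by
  haveI : Fact (Nat.Prime 3) := ⟨Nat.prime_three⟩
  have hm : ∀ (w : X), w ^ 3 = 1 → ∀ i : ℕ, w ^ i = w ^ (i % 3) := fun w hw i => by
    conv_lhs => rw [← Nat.mod_add_div i 3, pow_add, pow_mul, hw, one_pow, mul_one]
  let K : Subgroup X :=
    { carrier := {y | ∃ i j : Fin 3, y = x ^ (i : ℕ) * z ^ (j : ℕ)}
      one_mem' := ⟨0, 0, by simp⟩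
      mul_mem' := by
        rintro _ _ ⟨i, j, rfl⟩ ⟨k, l, rfl⟩
        refine ⟨⟨((i : ℕ) + k) % 3, Nat.mod_lt _ (by norm_num)⟩, ⟨((j : ℕ) + l) % 3, Nat.mod_lt _ (by norm_num)⟩, ?_⟩
        show _ = x ^ (((i : ℕ) + k) % 3) * z ^ (((j : ℕ) + l) % 3)
        rw [← hm x hx, ← hm z hz, pow_add, pow_add, (hxz.symm.pow_pow (j : ℕ) (k : ℕ)).mul_mul_mul_comm]
      inv_mem' := by
        rintro _ ⟨i, j, rfl⟩
        refine ⟨⟨(2 * (i : ℕ)) % 3, Nat.mod_lt _ (by norm_num)⟩, ⟨(2 * (j : ℕ)) % 3, Nat.mod_lt _ (by norm_num)⟩, ?_⟩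
        show _ = x ^ (2 * (i : ℕ) % 3) * z ^ (2 * (j : ℕ) % 3)
        rw [← hm x hx, ← hm z hz, mul_inv_rev, ← ((hxz.pow_pow (i : ℕ) (j : ℕ)).inv_inv).eq]
        congr 1
        · refine inv_eq_of_mul_eq_one_right ?_
          rw [← pow_add, show (i : ℕ) + 2 * i = 3 * i by ring, pow_mul, hx, one_pow]
        · refine inv_eq_of_mul_eq_one_right ?_
          rw [← pow_add, show (j : ℕ) + 2 * j = 3 * j by ring, pow_mul, hz, one_pow] }
  have hxK : x ∈ K := ⟨1, 0, by simp⟩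
  have hzK : z ∈ K := ⟨0, 1, by simp⟩
  let f : Fin 3 × Fin 3 → K := fun p => ⟨x ^ (p.1 : ℕ) * z ^ (p.2 : ℕ), p.1, p.2, rfl⟩
  have hf : Function.Bijective f := by
    refine ⟨?_, fun ⟨y, i, j, h⟩ => ⟨(i, j), Subtype.ext h.symm⟩⟩
    rintro ⟨i, j⟩ ⟨k, l⟩ h
    have h' : x ^ (i : ℕ) * z ^ (j : ℕ) = x ^ (k : ℕ) * z ^ (l : ℕ) := congrArg Subtype.val h
    have hxo : orderOf x = 3 := orderOf_eq_prime hx hx1
    have hzo : orderOf z = 3 := orderOf_eq_prime hz fun e => hzx 0 (by rw [e, pow_zero])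
    have hjl : j = l := by
      by_contra hne
      -- some power of `z` would lie in the powers of `x`
      have h2 : z ^ ((j : ℕ) + 2 * l) = x ^ ((k : ℕ) + 2 * i) := by
        calc z ^ ((j : ℕ) + 2 * l) = (x ^ (i : ℕ))⁻¹ * (x ^ (i : ℕ) * z ^ (j : ℕ)) * z ^ (2 * (l : ℕ)) := by
              rw [inv_mul_cancel_left, ← pow_add]
          _ = (x ^ (i : ℕ))⁻¹ * x ^ (k : ℕ) * z ^ ((l : ℕ) + 2 * l) := by rw [h', pow_add]; group
          _ = x ^ ((k : ℕ) + 2 * i) := by
              rw [show (l : ℕ) + 2 * l = 3 * l by ring, pow_mul, hz, one_pow, mul_one, pow_add]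
              have : (x ^ (i : ℕ))⁻¹ = x ^ (2 * (i : ℕ)) := inv_eq_of_mul_eq_one_right (by
                rw [← pow_add, show (i : ℕ) + 2 * i = 3 * i by ring, pow_mul, hx, one_pow])
              rw [this, ((Commute.refl x).pow_pow _ _).eq]
      have h3 : ∃ e : ℕ, ((j : ℕ) + 2 * l) * e % 3 = 1 := by
        have : ((j : ℕ) + 2 * l) % 3 ≠ 0 := by
          intro h0
          exact hne (Fin.ext (by omega))
        refine ⟨((j : ℕ) + 2 * l) % 3, ?_⟩
        rw [Nat.mul_mod, Nat.mod_mod]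
        have := Nat.mod_lt ((j : ℕ) + 2 * l) (show 0 < 3 by norm_num)
        interval_cases hh : ((j : ℕ) + 2 * l) % 3 <;> omega
      obtain ⟨e, he⟩ := h3
      apply hzx (((k : ℕ) + 2 * i) * e)
      rw [pow_mul, ← h2, ← pow_mul, hm z hz (((j : ℕ) + 2 * l) * e), he, pow_one]
    subst hjl
    have h1 : x ^ (i : ℕ) = x ^ (k : ℕ) := mul_right_cancel h'
    have := pow_injOn_Iio_orderOf (Set.mem_Iio.2 (by rw [hxo]; exact i.2)) (Set.mem_Iio.2 (by rw [hxo]; exact k.2)) h1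
    exact Prod.ext (Fin.ext this) rfl
  have hc : Nat.card K = 9 := by
    rw [← Nat.card_eq_of_bijective f hf]; simp
  exact ⟨K, hc, hxK, hzK, IsPGroup.of_card (n := 2) (by rw [hc]; rfl), fun y hy => hy⟩

/-- Extension of a homomorphism by transfer, when fusion of `x` is controlled. -/
theorem extend_hom {N : Subgroup X} (hidx : Nat.Coprime 3 N.index) (ψ : N →* C3) {x : X} (hx : x ∈ N)
    (hx3 : x ^ 3 = 1) (hψ : ψ ⟨x, hx⟩ ≠ 1)
    (hfus : ∀ (a : X) (ha : a * x * a⁻¹ ∈ N), ψ ⟨a * x * a⁻¹, ha⟩ = ψ ⟨x, hx⟩) :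
    ∃ V : X →* C3, V x ≠ 1 := by
  refine ⟨MonoidHom.transfer ψ, ?_⟩
  rw [Involutions.TransferControl.transfer_eq_pow ψ hx fun k a ha => ?_]
  · intro h
    have h3 : ψ ⟨x, hx⟩ ^ 3 = 1 := by
      rw [← map_pow]
      convert map_one ψ
      exact Subtype.ext hx3
    exact hψ (orderOf_eq_one_iff.1 (Nat.eq_one_of_dvd_coprimes hidx
      (orderOf_dvd_of_pow_eq_one h3) (orderOf_dvd_of_pow_eq_one h)))
  · have hk : x ^ k = x ^ (k % 3) := by
      conv_lhs => rw [← Nat.mod_add_div k 3, pow_add, pow_mul, hx3, one_pow, mul_one]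
    have hk' : ψ ⟨x, hx⟩ ^ k = ψ ⟨x, hx⟩ ^ (k % 3) := by
      rw [← map_pow, ← map_pow]; exact congrArg ψ (Subtype.ext hk)
    rw [hk']
    have hk3 : k % 3 = 0 ∨ k % 3 = 1 ∨ k % 3 = 2 := by omega
    rcases hk3 with h | h | h <;> rw [h] at hk ⊢
    · rw [pow_zero]
      convert map_one ψ
      rw [hk]; simp
    · rw [pow_one]
      have ha' : a * x * a⁻¹ ∈ N := by rwa [hk, pow_one] at ha
      rw [← hfus a ha']
      exact congrArg ψ (Subtype.ext (show a * x ^ k * a⁻¹ = a * x * a⁻¹ by rw [hk, pow_one]))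
    · have hinv : x ^ 2 = x⁻¹ := eq_inv_of_mul_eq_one_left (by rw [← pow_succ]; exact hx3)
      have ha' : a * x * a⁻¹ ∈ N := by
        have := inv_mem ha
        rw [hk, hinv] at this
        simpa [mul_assoc] using this
      have hinv' : (⟨x, hx⟩ : N) ^ 2 = (⟨x, hx⟩ : N)⁻¹ := Subtype.ext hinv
      rw [← map_pow, hinv', map_inv, ← hfus a ha', ← map_inv]
      exact congrArg ψ (Subtype.ext (show a * x ^ k * a⁻¹ = (a * x * a⁻¹)⁻¹ by rw [hk, hinv]; simp [mul_assoc]))

/-- Two shears fixing different lines generate an element inverting the plane. -/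
theorem inv_of_shears {r s u v : X} (hr1 : r * v * r⁻¹ = v) (hr2 : r * u * r⁻¹ = u * v)
    (hs1 : s * u * s⁻¹ = u) (hs2 : s * v * s⁻¹ = v * u) (hc : Commute u v) :
    ∃ t : X, t * u * t⁻¹ = u⁻¹ ∧ t * v * t⁻¹ = v⁻¹ := by
  have hs1' : s⁻¹ * u * s = u := by
    conv_lhs => rw [← hs1]
    group
  have hs2' : s⁻¹ * v * s = v * u⁻¹ := by
    have h : v = s⁻¹ * (v * u) * s := by rw [← hs2]; group
    conv_rhs => rw [h, show s⁻¹ * (v * u) * s = (s⁻¹ * v * s) * (s⁻¹ * u * s) by group, hs1', mul_inv_cancel_right]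
  have hwv : r * s⁻¹ * r * v * (r * s⁻¹ * r)⁻¹ = u⁻¹ := by
    calc r * s⁻¹ * r * v * (r * s⁻¹ * r)⁻¹ = r * (s⁻¹ * (r * v * r⁻¹) * s) * r⁻¹ := by group
      _ = r * (v * u⁻¹) * r⁻¹ := by rw [hr1, hs2']
      _ = (r * v * r⁻¹) * (r * u * r⁻¹)⁻¹ := by group
      _ = u⁻¹ := by rw [hr1, hr2, mul_inv_rev, mul_inv_cancel_left]
  have hwu : r * s⁻¹ * r * u * (r * s⁻¹ * r)⁻¹ = v := by
    calc r * s⁻¹ * r * u * (r * s⁻¹ * r)⁻¹ = r * (s⁻¹ * (r * u * r⁻¹) * s) * r⁻¹ := by group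
      _ = r * ((s⁻¹ * u * s) * (s⁻¹ * v * s)) * r⁻¹ := by rw [hr2]; group
      _ = r * (u * (v * u⁻¹)) * r⁻¹ := by rw [hs1', hs2']
      _ = r * v * r⁻¹ := by rw [← mul_assoc u, hc.eq, mul_inv_cancel_right]
      _ = v := hr1
  set w := r * s⁻¹ * r
  refine ⟨w * w, ?_, ?_⟩
  · calc w * w * u * (w * w)⁻¹ = w * (w * u * w⁻¹) * w⁻¹ := by group
      _ = u⁻¹ := by rw [hwu, hwv]
  · calc w * w * v * (w * w)⁻¹ = w * (w * v * w⁻¹) * w⁻¹ := by group
      _ = (w * u * w⁻¹)⁻¹ := by rw [hwv]; group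
      _ = v⁻¹ := by rw [hwu]

/-- The base: Sylow subgroups of order nine. -/
theorem base (P : Sylow 3 X) {x : X} (hxP : x ∈ (P : Subgroup X)) (hx : orderOf x = 3)
    (h9 : Nat.card (P : Subgroup X) = 9) (hexp : ∀ y ∈ (P : Subgroup X), y ^ 3 = 1)
    (hinv : ∀ g : X, g * x * g⁻¹ ≠ x⁻¹) : ∃ V : X →* C3, V x ≠ 1 := by
  classical
  haveI : Fact (Nat.Prime 3) := ⟨Nat.prime_three⟩
  have hx3 : x ^ 3 = 1 := hexp x hxP
  have hx1 : x ≠ 1 := fun e => by rw [e, orderOf_one] at hx; omega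
  have hcomm : ∀ a ∈ (P : Subgroup X), ∀ b ∈ (P : Subgroup X), Commute a b := fun a ha b hb =>
    congrArg Subtype.val
      ((IsPGroup.isMulCommutative_of_card_eq_prime_sq (p := 3) (by rw [h9]; rfl)).is_comm.comm
        (⟨a, ha⟩ : (P : Subgroup X)) ⟨b, hb⟩)
  obtain ⟨w, hwP, hw⟩ : ∃ w ∈ (P : Subgroup X), ∀ i : ℕ, w ≠ x ^ i := by
    by_contra h
    push Not at h
    have := card_le_of_le (show (P : Subgroup X) ≤ zpowers x from fun w hw => by
      obtain ⟨i, hi⟩ := h w hw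
      exact hi ▸ pow_mem (mem_zpowers x) i)
    rw [Nat.card_zpowers, hx, h9] at this
    omega
  obtain ⟨K, hK9, hxK, hwK, -, hKm⟩ := exists_nine hx3 (hexp w hwP) (hcomm x hxP w hwP) hx1 hw
  have hKP : K = (P : Subgroup X) := eq_of_le_of_card_ge (fun y hy => by
    obtain ⟨i, j, rfl⟩ := hKm y hy
    exact mul_mem (pow_mem hxP _) (pow_mem hwP _)) (by rw [hK9, h9])
  -- coordinates
  let e : ZMod 3 × ZMod 3 → (P : Subgroup X) := fun c =>
    ⟨x ^ c.1.val * w ^ c.2.val, mul_mem (pow_mem hxP _) (pow_mem hwP _)⟩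
  have hes : Function.Surjective e := by
    rintro ⟨y, hy⟩
    obtain ⟨i, j, hij⟩ := hKm y (hKP.symm ▸ hy)
    exact ⟨((i : ZMod 3), (j : ZMod 3)), Subtype.ext hij.symm⟩
  have he : Function.Bijective e :=
    (Nat.bijective_iff_surjective_and_card e).2 ⟨hes, by rw [h9]; simp⟩
  have hm : ∀ (y : X), y ^ 3 = 1 → ∀ a b : ZMod 3, y ^ (a + b).val = y ^ a.val * y ^ b.val := by
    intro y hy a b
    rw [← pow_add, ZMod.val_add]
    conv_rhs => rw [← Nat.mod_add_div (a.val + b.val) 3, pow_add, pow_mul, hy, one_pow, mul_one]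
  have hadd : ∀ c d, e (c + d) = e c * e d := fun c d => Subtype.ext (by
    show x ^ (c.1 + d.1).val * w ^ (c.2 + d.2).val = x ^ c.1.val * w ^ c.2.val * (x ^ d.1.val * w ^ d.2.val)
    rw [hm x hx3, hm w (hexp w hwP)]
    exact ((hcomm x hxP w hwP).pow_pow d.1.val c.2.val).mul_mul_mul_comm _ _)
  let E : Multiplicative (ZMod 3 × ZMod 3) ≃* (P : Subgroup X) :=
    { Equiv.ofBijective e he with
      toFun := fun c => e c.toAdd
      invFun := fun y => Multiplicative.ofAdd ((Equiv.ofBijective e he).symm y)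
      left_inv := fun c => congrArg Multiplicative.ofAdd ((Equiv.ofBijective e he).symm_apply_apply c.toAdd)
      right_inv := fun y => (Equiv.ofBijective e he).apply_symm_apply y
      map_mul' := fun c d => hadd c.toAdd d.toAdd }
  -- the orbit of `x` under the normaliser
  let S : Finset (ZMod 3 × ZMod 3) := Finset.univ.filter fun c =>
    ∃ n ∈ normalizer ((P : Subgroup X) : Set X), n * x * n⁻¹ = (e c : X)
  have hSm : ∀ c, c ∈ S ↔ ∃ n ∈ normalizer ((P : Subgroup X) : Set X), n * x * n⁻¹ = (e c : X) := fun c => by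
    simp [S]
  have he0 : (e 0 : X) = 1 := by simp [e]
  by_cases hline : ∃ a : ZMod 3 × ZMod 3, ∀ c ∈ S, a.1 * c.1 + a.2 * c.2 = 1
  · obtain ⟨a, ha⟩ := hline
    let lam : Multiplicative (ZMod 3 × ZMod 3) →* C3 :=
      { toFun := fun c => Multiplicative.ofAdd (a.1 * c.toAdd.1 + a.2 * c.toAdd.2)
        map_one' := by simp
        map_mul' := fun c d => by
          rw [← ofAdd_add]
          congr 1
          simp only [toAdd_mul, Prod.fst_add, Prod.snd_add]
          ring }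
    have hval : ∀ y (hy : y ∈ (P : Subgroup X)),
        (∃ n ∈ normalizer ((P : Subgroup X) : Set X), n * x * n⁻¹ = y) →
        lam.comp E.symm.toMonoidHom ⟨y, hy⟩ = Multiplicative.ofAdd 1 := by
      intro y hy h
      obtain ⟨c, hc⟩ := he.2 ⟨y, hy⟩
      have hcS : c ∈ S := (hSm c).2 (by rw [hc]; exact h)
      rw [← hc, MonoidHom.comp_apply, show E.symm.toMonoidHom (e c) = Multiplicative.ofAdd c from
        E.symm_apply_eq.2 rfl]
      exact congrArg Multiplicative.ofAdd (ha c hcS)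
    refine extend_hom ((Nat.prime_three.coprime_iff_not_dvd).2 P.not_dvd_index) (lam.comp E.symm.toMonoidHom)
      hxP hx3 ?_ fun b hb => ?_
    · rw [hval x hxP ⟨1, one_mem _, by simp⟩]
      exact fun h => one_ne_zero (Multiplicative.ofAdd.injective (h.trans ofAdd_zero.symm) : (1 : ZMod 3) = 0)
    · rw [hval x hxP ⟨1, one_mem _, by simp⟩]
      refine hval _ hb ?_
      obtain ⟨n, hn, hne⟩ := Sylow.conj_eq_normalizer_conj_of_mem_centralizer P x b⁻¹
        (mem_centralizer_iff.2 fun y hy => (hcomm y hy x hxP).eq)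
        (by rw [inv_inv]; exact mem_centralizer_iff.2 fun y hy => (hcomm y hy _ hb).eq)
      exact ⟨n⁻¹, inv_mem hn, by rw [inv_inv] at hne ⊢; exact hne.symm⟩
  exfalso
  push Not at hline
  have hanti : ∀ c ∈ S, -c ∉ S := by
    intro c hc hc'
    obtain ⟨n, -, hne⟩ := (hSm c).1 hc
    obtain ⟨m, -, hme⟩ := (hSm (-c)).1 hc'
    have hprod : (e c : X) * e (-c) = 1 := by
      rw [← coe_mul, ← hadd, add_neg_cancel]; exact he0
    rw [← hne, ← hme] at hprod
    refine hinv (n⁻¹ * m) ?_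
    calc n⁻¹ * m * x * (n⁻¹ * m)⁻¹ = n⁻¹ * (m * x * m⁻¹) * n := by group
      _ = x⁻¹ := by rw [eq_inv_of_mul_eq_one_right hprod]; group
  -- normaliser elements permute the orbit and fix its sum
  have hsum : ∀ n ∈ normalizer ((P : Subgroup X) : Set X),
      n * (e (∑ c ∈ S, c) : X) * n⁻¹ = e (∑ c ∈ S, c) := by
    intro n hn
    have hmem : ∀ c, n * (e c : X) * n⁻¹ ∈ (P : Subgroup X) := fun c => (mem_normalizer_iff.1 hn _).1 (e c).2
    choose τ hτ using fun c => he.2 ⟨_, hmem c⟩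
    have hτ' : ∀ c, (e (τ c) : X) = n * (e c : X) * n⁻¹ := fun c => congrArg Subtype.val (hτ c)
    have hτadd : ∀ c d, τ (c + d) = τ c + τ d := fun c d => he.1 (Subtype.ext (by
      rw [hτ', hadd, hadd, coe_mul, coe_mul, hτ', hτ']; group))
    have hτ0 : τ 0 = 0 := he.1 (Subtype.ext (by rw [hτ', he0]; group))
    have hτinj : Function.Injective τ := fun c d h => he.1 (Subtype.ext (by
      have := congrArg (fun c => (e c : X)) h
      simp only [hτ'] at this
      exact mul_left_cancel (mul_right_cancel this)))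
    let T : ZMod 3 × ZMod 3 →+ ZMod 3 × ZMod 3 := { toFun := τ, map_zero' := hτ0, map_add' := hτadd }
    have himg : S.image τ = S := by
      refine Finset.eq_of_subset_of_card_le (fun c hc => ?_) (Finset.card_image_of_injective _ hτinj).ge
      obtain ⟨d, hd, rfl⟩ := Finset.mem_image.1 hc
      obtain ⟨m, hm, hme⟩ := (hSm d).1 hd
      exact (hSm _).2 ⟨n * m, mul_mem hn hm, by rw [hτ', ← hme]; group⟩
    rw [← hτ']
    refine congrArg (fun c => (e c : X)) ?_
    calc τ (∑ c ∈ S, c) = ∑ c ∈ S, τ c := map_sum T _ S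
      _ = ∑ c ∈ S.image τ, c := (Finset.sum_image (f := fun c => c) fun a _ b _ h => hτinj h).symm
      _ = _ := by rw [himg]
  have hfix : ∃ c ∈ S, ∀ n ∈ normalizer ((P : Subgroup X) : Set X), n * (e c : X) * n⁻¹ = e c := by
    rcases plane_fact S hanti hline with h | h
    · exact ⟨_, h, hsum⟩
    · refine ⟨_, h, fun n hn => ?_⟩
      have hneg : (e (-∑ c ∈ S, c) : X) = (e (∑ c ∈ S, c) : X)⁻¹ := eq_inv_of_mul_eq_one_left (by
        rw [← coe_mul, ← hadd, neg_add_cancel]; exact he0)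
      rw [hneg, ← conj_inv, hsum n hn]
  obtain ⟨c, hc, hcfix⟩ := hfix
  obtain ⟨n₀, hn₀, hne⟩ := (hSm c).1 hc
  obtain ⟨d, hd, hdne⟩ := hline (1, 0)
  obtain ⟨m, hm, hme⟩ := (hSm d).1 hd
  have hall : ∀ n ∈ normalizer ((P : Subgroup X) : Set X), n * x * n⁻¹ = x := by
    intro n hn
    have := hcfix (n₀ * n * n₀⁻¹) (mul_mem (mul_mem hn₀ hn) (inv_mem hn₀))
    rw [← hne] at this
    calc n * x * n⁻¹ = n₀⁻¹ * (n₀ * n * n₀⁻¹ * (n₀ * x * n₀⁻¹) * (n₀ * n * n₀⁻¹)⁻¹) * n₀ := by group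
      _ = x := by rw [this]; group
  have hd1 : d = (1, 0) := he.1 (Subtype.ext (by
    rw [← hme, hall m hm]
    show x = x ^ (1 : ZMod 3).val * w ^ (0 : ZMod 3).val
    rw [show (1 : ZMod 3).val = 1 from rfl, show (0 : ZMod 3).val = 0 from rfl, pow_one, pow_zero, mul_one]))
  rw [hd1] at hdne
  exact hdne (by simp)

/-- A `3`-element normalising a plane, fixing `z` and moving `x`, has a power shearing the plane. -/
theorem shear_of_normalizes {x z s : X} {i j : Fin 3} {k : ℕ} (hs : s ^ 3 ^ k = 1) (hx : x ^ 3 = 1) (hz : z ^ 3 = 1)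
    (hxz : Commute x z) (hx1 : x ≠ 1) (hzx : ∀ i : ℕ, z ≠ x ^ i) (hsz : s * z * s⁻¹ = z)
    (hij : s * x * s⁻¹ = x ^ (i : ℕ) * z ^ (j : ℕ)) (hnc : ¬ Commute s x) :
    ∃ m : ℕ, s ^ m * z * (s ^ m)⁻¹ = z ∧ s ^ m * x * (s ^ m)⁻¹ = x * z := by
  have hzo : ∀ k : ℕ, s * z ^ k * s⁻¹ = z ^ k := fun k => by rw [← conj_pow, hsz]
  have hi : (i : ℕ) = 0 ∨ (i : ℕ) = 1 ∨ (i : ℕ) = 2 := by omega
  rcases hi with hi | hi | hi
  · exfalso
    rw [hi, pow_zero, one_mul] at hij
    have h1 : x = z ^ (j : ℕ) := by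
      calc x = s⁻¹ * (s * x * s⁻¹) * s := by group
        _ = s⁻¹ * (s * z ^ (j : ℕ) * s⁻¹) * s := by rw [hij, hzo]
        _ = z ^ (j : ℕ) := by group
    have hj : (j : ℕ) = 0 ∨ (j : ℕ) = 1 ∨ (j : ℕ) = 2 := by omega
    rcases hj with hj | hj | hj <;> rw [hj] at h1
    · exact hx1 (by rw [h1, pow_zero])
    · exact hzx 1 (by rw [pow_one, h1, pow_one])
    · exact hzx 2 (by rw [h1, ← pow_mul, show 2 * 2 = 3 + 1 by rfl, pow_add, hz, one_mul, pow_one])
  · rw [hi, pow_one] at hij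
    have hj : (j : ℕ) = 0 ∨ (j : ℕ) = 1 ∨ (j : ℕ) = 2 := by omega
    rcases hj with hj | hj | hj <;> rw [hj] at hij
    · rw [pow_zero, mul_one] at hij
      exact absurd (mul_inv_eq_iff_eq_mul.1 hij) hnc
    · rw [pow_one] at hij
      exact ⟨1, by rw [pow_one]; exact hsz, by rw [pow_one]; exact hij⟩
    · refine ⟨2, ?_, ?_⟩ <;> rw [pow_two s]
      · calc s * s * z * (s * s)⁻¹ = s * (s * z * s⁻¹) * s⁻¹ := by group
          _ = z := by rw [hsz, hsz]
      · calc s * s * x * (s * s)⁻¹ = s * (s * x * s⁻¹) * s⁻¹ := by group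
          _ = (s * x * s⁻¹) * (s * z ^ 2 * s⁻¹) := by conv_lhs => rw [hij]
                                                      group
          _ = x * z ^ (2 + 2) := by rw [hij, hzo, mul_assoc, ← pow_add]
          _ = x * z := by rw [show 2 + 2 = 3 + 1 by rfl, pow_add, hz, one_mul, pow_one]
  · exfalso
    rw [hi] at hij
    -- the square would centralise `x`
    have h2 : Commute (s * s) x := by
      refine mul_inv_eq_iff_eq_mul.1 ?_
      calc s * s * x * (s * s)⁻¹ = s * (s * x * s⁻¹) * s⁻¹ := by group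
        _ = (s * x * s⁻¹) ^ 2 * (s * z ^ (j : ℕ) * s⁻¹) := by
            conv_lhs => rw [hij]
            rw [conj_pow]; group
        _ = (x ^ 2 * z ^ (j : ℕ)) ^ 2 * z ^ (j : ℕ) := by rw [hij, hzo]
        _ = x ^ 4 * (z ^ (j : ℕ)) ^ 3 := by
            rw [(hxz.pow_pow 2 (j : ℕ)).mul_pow, ← pow_mul x, pow_succ (z ^ (j : ℕ)) 2, mul_assoc]
        _ = x := by
            rw [show 4 = 3 + 1 by rfl, pow_add, hx, ← pow_mul, mul_comm (j : ℕ) 3, pow_mul, hz, one_pow, one_mul,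
              pow_one, mul_one]
    have hsx : Commute s x := by
      have hk' : s ^ 3 ^ k = 1 := hs
      obtain ⟨m, hm⟩ : Odd (3 ^ k) := (by decide : Odd 3).pow
      have e : s = (s * s) ^ (m + 1) := by
        rw [← pow_two, ← pow_mul, show 2 * (m + 1) = 2 * m + 1 + 1 by ring, ← hm, pow_succ, hk', one_mul]
      rw [e]; exact h2.pow_left _
    exact hnc hsx


/-- A shear of the plane on `x` and a central element, from a larger Sylow subgroup. -/
theorem exists_shear (P : Sylow 3 X) {x z : X} (hxP : x ∈ (P : Subgroup X)) (hzP : z ∈ (P : Subgroup X))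
    (hx : x ^ 3 = 1) (hz : z ^ 3 = 1) (hzc : ∀ r ∈ (P : Subgroup X), Commute r z) (hx1 : x ≠ 1)
    (hzx : ∀ i : ℕ, z ≠ x ^ i) (h27 : 9 < Nat.card (P : Subgroup X))
    (hC : ∀ K : Subgroup X, K ≤ centralizer ({x} : Set X) → IsPGroup 3 K → Nat.card K ≤ 9) :
    ∃ s ∈ (P : Subgroup X), s * z * s⁻¹ = z ∧ s * x * s⁻¹ = x * z := by
  haveI : Fact (Nat.Prime 3) := ⟨Nat.prime_three⟩
  obtain ⟨E, hE9, hxE, hzE, -, hEm⟩ := exists_nine hx hz (hzc x hxP) hx1 hzx
  have hEP : E ≤ (P : Subgroup X) := fun y hy => by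
    obtain ⟨i, j, rfl⟩ := hEm y hy
    exact mul_mem (pow_mem hxP _) (pow_mem hzP _)
  obtain ⟨s, hsP, hsE, hsn, -⟩ := exists_normalizing P.isPGroup' hEP (fun e => by rw [e] at hE9; omega)
  have hcent : ∀ t ∈ (P : Subgroup X), Commute t x → t ∈ E := by
    intro t ht htx
    set K := (P : Subgroup X) ⊓ centralizer ({x} : Set X)
    have hEK : E ≤ K := fun y hy => by
      obtain ⟨i, j, rfl⟩ := hEm y hy
      exact mem_inf.2 ⟨mul_mem (pow_mem hxP _) (pow_mem hzP _), mem_centralizer_singleton_iff.2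
        (((Commute.refl x).pow_left _).mul_left ((hzc x hxP).symm.pow_left _)).eq⟩
    rw [eq_of_le_of_card_ge hEK (by
      rw [hE9]; exact hC K inf_le_right (P.isPGroup'.to_le inf_le_left))]
    exact mem_inf.2 ⟨ht, mem_centralizer_singleton_iff.2 htx.eq⟩
  have hsz : s * z * s⁻¹ = z := by rw [(hzc s hsP).eq, mul_inv_cancel_right]
  obtain ⟨i, j, hij⟩ := hEm _ (hsn x hxE)
  obtain ⟨k, hk⟩ := P.isPGroup' ⟨s, hsP⟩
  obtain ⟨m, hmz, hmx⟩ := shear_of_normalizes (congrArg Subtype.val hk) hx hz (hzc x hxP) hx1 hzx hsz hij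
    fun h => hsE (hcent s hsP h)
  exact ⟨s ^ m, pow_mem hsP m, hmz, hmx⟩

universe u

/-- An element of order three with centralisers of three-part at most nine, not conjugate to its inverse,
survives in a homomorphism onto a group of order three. -/
theorem exists_hom : ∀ (n : ℕ) {X : Type u} [Group X] [Finite X] (P : Sylow 3 X) (x : X),
    Nat.card (P : Subgroup X) = n → x ∈ (P : Subgroup X) → orderOf x = 3 → 9 ≤ n →
    (n = 9 → ∀ y ∈ (P : Subgroup X), y ^ 3 = 1) →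
    (∀ K : Subgroup X, K ≤ centralizer ({x} : Set X) → IsPGroup 3 K → Nat.card K ≤ 9) →
    (∀ g : X, g * x * g⁻¹ ≠ x⁻¹) → ∃ V : X →* C3, V x ≠ 1 := by
  intro n
  induction n using Nat.strong_induction_on with
  | _ n ih =>
  intro X _ _ P x hn hxP hx h9 hexp hC hinv
  classical
  haveI : Fact (Nat.Prime 3) := ⟨Nat.prime_three⟩
  rcases eq_or_lt_of_le h9 with h | h
  · exact base P hxP hx (hn.trans h.symm) (hexp h.symm) hinv
  have hx3 : x ^ 3 = 1 := by rw [← hx]; exact pow_orderOf_eq_one x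
  have hx1 : x ≠ 1 := fun e => by rw [e, orderOf_one] at hx; omega
  have hP1 : (P : Subgroup X) ≠ ⊥ := fun e => by rw [e, card_bot] at hn; omega
  obtain ⟨z, hzP, hzo, hzc⟩ := exists_central P.isPGroup' le_rfl
    (fun r hr y hy => mul_mem (mul_mem hr hy) (inv_mem hr)) hP1
  have hz3 : z ^ 3 = 1 := by rw [← hzo]; exact pow_orderOf_eq_one z
  have hz1 : z ≠ 1 := fun e => by rw [e, orderOf_one] at hzo; omega
  -- conjugates of `x` in `P` are independent of `z`, with small centralisers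
  have hconjC : ∀ (g : X) (K : Subgroup X), K ≤ centralizer ({g * x * g⁻¹} : Set X) → IsPGroup 3 K →
      Nat.card K ≤ 9 := by
    intro g K hK hKp
    rw [← card_map_of_injective (K := K) (f := (MulAut.conj g⁻¹).toMonoidHom) (MulAut.conj g⁻¹).injective]
    refine hC _ ?_ (hKp.map _)
    rintro _ ⟨y, hy, rfl⟩
    refine mem_centralizer_singleton_iff.2 ?_
    have h0 : Commute y (g * x * g⁻¹) := mem_centralizer_singleton_iff.1 (hK hy)
    have h' := h0.map (MulAut.conj g⁻¹).toMonoidHom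
    simpa [mul_assoc] using h'.eq
  have hindep : ∀ g : X, g * x * g⁻¹ ∈ (P : Subgroup X) → ∀ i : ℕ, z ≠ (g * x * g⁻¹) ^ i := by
    intro g hgP i hzi
    have hi : i % 3 ≠ 0 := by
      intro h0
      rw [← Nat.mod_add_div i 3, h0, zero_add, pow_mul, conj_pow, hx3, mul_one, mul_inv_cancel, one_pow] at hzi
      exact hz1 hzi
    have hle : (P : Subgroup X) ≤ centralizer ({g * x * g⁻¹} : Set X) := fun r hr => by
      refine mem_centralizer_singleton_iff.2 ?_
      have h1 : ∃ e : ℕ, (g * x * g⁻¹) = z ^ e := by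
        have hy3 : (g * x * g⁻¹) ^ 3 = 1 := by rw [conj_pow, hx3, mul_one, mul_inv_cancel]
        refine ⟨i % 3, ?_⟩
        rw [hzi, ← pow_mul]
        conv_rhs => rw [← Nat.mod_add_div (i * (i % 3)) 3, pow_add, pow_mul _ 3, hy3, one_pow, mul_one]
        have h2 : i * (i % 3) % 3 = 1 := by
          rw [Nat.mul_mod, Nat.mod_mod]
          have := Nat.mod_lt i (show 0 < 3 by norm_num)
          interval_cases hh : i % 3 <;> omega
        rw [h2, pow_one]
      obtain ⟨e, he⟩ := h1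
      rw [he]
      exact ((hzc r hr).pow_right e).eq
    have := hconjC g _ hle P.isPGroup'
    omega
  have hzx : ∀ i : ℕ, z ≠ x ^ i := fun i => by simpa using hindep 1 (by simpa using hxP) i
  set N := normalizer ((zpowers z : Subgroup X) : Set X) with hN
  have hPN : (P : Subgroup X) ≤ N := fun r hr => mem_normalizer_of_conj_mem fun y hy => by
    obtain ⟨i, rfl⟩ := hy
    rw [((hzc r hr).zpow_right i).eq, mul_inv_cancel_right]
    exact ⟨i, rfl⟩
  obtain ⟨s₀, hs₀P, hs₀z, hs₀x⟩ := exists_shear P hxP hzP hx3 hz3 hzc hx1 hzx (by omega) hC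
  -- fusion is controlled by the normaliser of `⟨z⟩`
  have hfus : ∀ a : X, a * x * a⁻¹ ∈ (P : Subgroup X) → ∃ m ∈ N, m * x * m⁻¹ = a * x * a⁻¹ := by
    intro a haP
    set x' := a * x * a⁻¹ with hx'
    have hx'3 : x' ^ 3 = 1 := by rw [hx', conj_pow, hx3, mul_one, mul_inv_cancel]
    have hx'1 : x' ≠ 1 := fun e => hx1 (conj_eq_one_iff.1 e)
    obtain ⟨E, hE9, hxE, hzE, hEp, hEm⟩ := exists_nine hx'3 hz3 (hzc _ haP) hx'1 (hindep a haP)
    set C := centralizer ({x'} : Set X)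
    have hEC : E ≤ C := fun y hy => by
      obtain ⟨i, j, rfl⟩ := hEm y hy
      exact mem_centralizer_singleton_iff.2
        (((Commute.refl x').pow_left _).mul_left ((hzc _ haP).symm.pow_left _)).eq
    -- a Sylow subgroup of the centraliser
    obtain ⟨Q, hQ⟩ := (hEp.comap_of_injective C.subtype C.subtype_injective :
      IsPGroup 3 (E.subgroupOf C)).exists_le_sylow
    have hQE : (Q : Subgroup C).map C.subtype = E := by
      refine (eq_of_le_of_card_ge (fun y hy => mem_map.2 ⟨⟨y, hEC hy⟩, hQ hy, rfl⟩) ?_).symm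
      rw [hE9]
      exact hconjC a _ (map_subtype_le _) (Q.isPGroup'.map _)
    have hzC : a * z * a⁻¹ ∈ C := mem_centralizer_singleton_iff.2 (by
      rw [hx', show a * z * a⁻¹ * (a * x * a⁻¹) = a * (z * x) * a⁻¹ by group, ← (hzc x hxP).eq]
      group)
    obtain ⟨⟨c, hc⟩, -, hcQ⟩ := conj_into Q (M := ⊤) le_top (le_top : zpowers (⟨_, hzC⟩ : C) ≤ ⊤)
      (IsPGroup.of_card (n := 1) (by
        rw [Nat.card_zpowers, Subgroup.orderOf_mk, show a * z * a⁻¹ = MulAut.conj a z from rfl,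
          MulEquiv.orderOf_eq, hzo, pow_one]))
    set g := c * a with hg
    have hgx : g * x * g⁻¹ = x' := by
      have hcx : Commute c x' := mem_centralizer_singleton_iff.1 hc
      rw [hg, show c * a * x * (c * a)⁻¹ = c * x' * c⁻¹ by rw [hx']; group, hcx.eq, mul_inv_cancel_right]
    have hgE : g * z * g⁻¹ ∈ E := by
      rw [← hQE]
      refine ⟨_, hcQ _ (mem_zpowers _), ?_⟩
      show c * (a * z * a⁻¹) * c⁻¹ = g * z * g⁻¹
      rw [hg]; group
    obtain ⟨i, j, hij⟩ := hEm _ hgE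
    refine ⟨g, ?_, hgx⟩
    by_cases hi : (i : ℕ) = 0
    · refine mem_normalizer_of_conj_mem fun y hy => ?_
      obtain ⟨l, rfl⟩ := hy
      rw [hi, pow_zero, one_mul] at hij
      rw [← conj_zpow, hij]
      exact zpow_mem (pow_mem (mem_zpowers z) _) l
    exfalso
    -- two shears on different lines
    obtain ⟨s, -, hsz, hsx⟩ := exists_shear P haP hzP hx'3 hz3 hzc hx'1 (hindep a haP) (by omega) (hconjC a)
    set v := g * z * g⁻¹ with hv
    set r := g * s₀ * g⁻¹ with hr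
    have hrv : r * v * r⁻¹ = v := by
      rw [hr, hv, show g * s₀ * g⁻¹ * (g * z * g⁻¹) * (g * s₀ * g⁻¹)⁻¹ = g * (s₀ * z * s₀⁻¹) * g⁻¹ by group, hs₀z]
    have hrx : r * x' * r⁻¹ = x' * v := by
      rw [hr, hv, ← hgx,
        show g * s₀ * g⁻¹ * (g * x * g⁻¹) * (g * s₀ * g⁻¹)⁻¹ = g * (s₀ * x * s₀⁻¹) * g⁻¹ by group, hs₀x]
      group
    have hxv : Commute x' v := by
      rw [hij]; exact ((Commute.refl x').pow_right _).mul_right ((hzc _ haP).pow_right _)
    set u := z ^ (i : ℕ) with hu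
    clear_value x' v r u
    have hsu : s * u * s⁻¹ = u := by rw [hu, ← conj_pow, hsz]
    have hsv : s * v * s⁻¹ = v * u := by
      calc s * v * s⁻¹ = (s * x' * s⁻¹) ^ (i : ℕ) * (s * z * s⁻¹) ^ (j : ℕ) := by rw [hij, conj_pow, conj_pow]; group
        _ = x' ^ (i : ℕ) * u * z ^ (j : ℕ) := by rw [hsx, hsz, (hzc _ haP).mul_pow, ← hu]
        _ = v * u := by
          rw [hij, mul_assoc, mul_assoc, hu, ((Commute.refl z).pow_pow (i : ℕ) (j : ℕ)).eq]
    have huv : Commute u v := by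
      rw [hij, hu]
      exact (((hzc _ haP).symm.pow_left _).pow_right _).mul_right ((Commute.refl z).pow_pow _ _)
    -- the first shear on `u` and `v`
    have hj : (j : ℕ) ≠ 0 := by
      intro hj
      rw [hj, pow_zero, mul_one] at hij
      have h1 : r * v * r⁻¹ = v * v ^ (i : ℕ) := by
        calc r * v * r⁻¹ = (r * x' * r⁻¹) ^ (i : ℕ) := by rw [conj_pow, ← hij]
          _ = x' ^ (i : ℕ) * v ^ (i : ℕ) := by rw [hrx, hxv.mul_pow]
          _ = _ := by rw [← hij]
      rw [hrv] at h1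
      have h2 : v ^ (i : ℕ) = 1 := mul_left_cancel (h1.symm.trans (mul_one v).symm)
      have h3 : orderOf v ∣ (i : ℕ) := orderOf_dvd_of_pow_eq_one h2
      rw [hv, show g * z * g⁻¹ = MulAut.conj g z from rfl, MulEquiv.orderOf_eq, hzo] at h3
      have := i.2
      omega
    have hr_u : ∀ l : ℕ, r ^ l * u * (r ^ l)⁻¹ = u * v ^ (l * (2 * (j : ℕ))) := by
      intro l
      have hv3 : v ^ 3 = 1 := by rw [hv, conj_pow, hz3, mul_one, mul_inv_cancel]
      have hrzj : r * z ^ (j : ℕ) * r⁻¹ = z ^ (j : ℕ) * v ^ (2 * (i : ℕ)) := by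
        have e1 : z ^ (j : ℕ) = (x' ^ (i : ℕ))⁻¹ * v := by rw [hij, inv_mul_cancel_left]
        have e2 : (v ^ (i : ℕ))⁻¹ = v ^ (2 * (i : ℕ)) := inv_eq_of_mul_eq_one_right (by
          rw [← pow_add, show (i : ℕ) + 2 * i = 3 * i by ring, pow_mul, hv3, one_pow])
        calc r * z ^ (j : ℕ) * r⁻¹ = ((r * x' * r⁻¹) ^ (i : ℕ))⁻¹ * (r * v * r⁻¹) := by
              rw [e1, conj_pow]; group
          _ = (x' ^ (i : ℕ) * v ^ (i : ℕ))⁻¹ * v := by rw [hrv, hrx, hxv.mul_pow]
          _ = z ^ (j : ℕ) * v ^ (2 * (i : ℕ)) := by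
              rw [mul_inv_rev, e2, mul_assoc, ← e1]
              exact ((show Commute v (z ^ (j : ℕ)) by
                rw [hij]; exact (((hzc _ haP).pow_pow _ _).mul_left (Commute.refl _))).pow_left _).eq
      have hz2 : z = (z ^ (j : ℕ)) ^ (j : ℕ) := by
        rw [← pow_mul]
        have := j.2
        have : (j : ℕ) = 1 ∨ (j : ℕ) = 2 := by omega
        rcases this with h | h <;> rw [h]
        · simp
        · rw [show 2 * 2 = 3 + 1 by rfl, pow_add, hz3, one_mul, pow_one]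
      have hcz : Commute (z ^ (j : ℕ)) v := by
        rw [hij]; exact (((hzc _ haP).symm.pow_pow _ _).mul_right (Commute.refl _))
      have h1 : r * u * r⁻¹ = u * v ^ (2 * (j : ℕ)) := by
        have hu' : u = (z ^ (j : ℕ)) ^ ((j : ℕ) * i) := by rw [pow_mul, ← hz2, hu]
        rw [hu', ← conj_pow, hrzj, (hcz.pow_right _).mul_pow, ← pow_mul v]
        congr 1
        rw [← Nat.mod_add_div (2 * (i : ℕ) * ((j : ℕ) * i)) 3, ← Nat.mod_add_div (2 * (j : ℕ)) 3, pow_add, pow_add,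
          pow_mul, pow_mul, hv3, one_pow, one_pow, mul_one, mul_one]
        congr 1
        have := i.2
        have : (i : ℕ) = 1 ∨ (i : ℕ) = 2 := by omega
        rcases this with h | h <;> rw [h] <;> omega
      induction l with
      | zero => simp
      | succ l ihl =>
        calc r ^ (l + 1) * u * (r ^ (l + 1))⁻¹ = r * (r ^ l * u * (r ^ l)⁻¹) * r⁻¹ := by rw [pow_succ']; group
          _ = (r * u * r⁻¹) * (r * v * r⁻¹) ^ (l * (2 * (j : ℕ))) := by rw [ihl, conj_pow]; group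
          _ = _ := by rw [h1, hrv, mul_assoc, ← pow_add]; congr 2; ring
    have hru : r ^ (2 * (j : ℕ)) * u * (r ^ (2 * (j : ℕ)))⁻¹ = u * v := by
      rw [hr_u]
      congr 1
      have hv3 : v ^ 3 = 1 := by rw [hv, conj_pow, hz3, mul_one, mul_inv_cancel]
      rw [← Nat.mod_add_div (2 * (j : ℕ) * (2 * (j : ℕ))) 3, pow_add, pow_mul, hv3, one_pow, mul_one]
      have := j.2
      have : (j : ℕ) = 1 ∨ (j : ℕ) = 2 := by omega
      rcases this with h | h <;> rw [h] <;> exact pow_one v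
    have hrv' : r ^ (2 * (j : ℕ)) * v * (r ^ (2 * (j : ℕ)))⁻¹ = v :=
      mul_inv_eq_iff_eq_mul.2 ((show Commute r v from mul_inv_eq_iff_eq_mul.1 hrv).pow_left _).eq
    obtain ⟨t, htu, htv⟩ := inv_of_shears hrv' hru hsu hsv huv
    -- it inverts a conjugate of `x`
    have hzi : z = u ^ (i : ℕ) := by
      rw [hu, ← pow_mul]
      have := i.2
      have : (i : ℕ) = 1 ∨ (i : ℕ) = 2 := by omega
      rcases this with h | h <;> rw [h]
      · simp
      · rw [show 2 * 2 = 3 + 1 by rfl, pow_add, hz3, one_mul, pow_one]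
    have hxi : x' = (v * (u ^ ((i : ℕ) * j))⁻¹) ^ (i : ℕ) := by
      rw [pow_mul, ← hzi, hij, mul_inv_cancel_right, ← pow_mul]
      have := i.2
      have : (i : ℕ) = 1 ∨ (i : ℕ) = 2 := by omega
      rcases this with h | h <;> rw [h]
      · simp
      · rw [show 2 * 2 = 3 + 1 by rfl, pow_add, hx'3, one_mul, pow_one]
    have htx : t * x' * t⁻¹ = x'⁻¹ := by
      rw [hxi, ← conj_pow, ← inv_pow (v * (u ^ ((i : ℕ) * j))⁻¹)]
      congr 1
      calc t * (v * (u ^ ((i : ℕ) * j))⁻¹) * t⁻¹ = (t * v * t⁻¹) * ((t * u * t⁻¹) ^ ((i : ℕ) * j))⁻¹ := by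
            rw [conj_pow]; group
        _ = _ := by
            rw [htu, htv, inv_pow, inv_inv, mul_inv_rev, inv_inv]
            exact ((huv.symm.inv_left).pow_right _).eq
    refine hinv (g⁻¹ * t * g) ?_
    calc g⁻¹ * t * g * x * (g⁻¹ * t * g)⁻¹ = g⁻¹ * (t * (g * x * g⁻¹) * t⁻¹) * g := by group
      _ = x⁻¹ := by rw [hgx, htx, ← hgx]; group
  -- the quotient by `⟨z⟩`
  let Z := (zpowers z).subgroupOf N
  haveI hZn : Z.Normal := normal_in_normalizer
  let π := QuotientGroup.mk' Z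
  let xN : N := ⟨x, hPN hxP⟩
  let PN : Sylow 3 N := P.subtype hPN
  let Pb : Sylow 3 (N ⧸ Z) := Sylow.mapSurjective (QuotientGroup.mk'_surjective Z) PN
  have hPb : (Pb : Subgroup (N ⧸ Z)) = (PN : Subgroup N).map π := rfl
  have hmemPN : ∀ y : N, y ∈ (PN : Subgroup N) ↔ (y : X) ∈ (P : Subgroup X) := fun y => by
    show y ∈ ((P.subtype hPN : Sylow 3 N) : Subgroup N) ↔ _
    rw [Sylow.coe_subtype, mem_subgroupOf]
  have hker : π.ker = Z := QuotientGroup.ker_mk' Z
  have hZP : Z ≤ (PN : Subgroup N) := fun y hy => (hmemPN y).2 ((zpowers_le.2 hzP) hy)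
  have hZc : Nat.card Z = 3 := by
    rw [Nat.card_congr (subgroupOfEquivOfLe (show zpowers z ≤ N from le_normalizer)).toEquiv, Nat.card_zpowers, hzo]
  have hcardPb : 3 * Nat.card (Pb : Subgroup (N ⧸ Z)) = n := by
    have h1 := (Z.subgroupOf (PN : Subgroup N)).card_mul_index
    rw [Nat.card_congr (subgroupOfEquivOfLe hZP).toEquiv, hZc] at h1
    have h2 : Nat.card (PN : Subgroup N) = n := by
      rw [show (PN : Subgroup N) = (P : Subgroup X).subgroupOf N from Sylow.coe_subtype P hPN,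
        Nat.card_congr (subgroupOfEquivOfLe hPN).toEquiv, hn]
    rw [← h2, ← h1]
    congr 1
    rw [hPb, ← relIndex_bot_left, ← relIndex_comap, MonoidHom.comap_bot, hker]
    rfl
  have hxb1 : π xN ≠ 1 := fun e => by
    obtain ⟨l, hl⟩ := mem_powers_iff_mem_zpowers.2 (mem_subgroupOf.1 ((QuotientGroup.eq_one_iff xN).1 e) : x ∈ zpowers z)
    have hl' : z ^ l = x := hl
    have := hindep 1 (by simpa using hxP)
    have hl0 : l % 3 ≠ 0 := fun h0 => hx1 (by
      rw [← hl', ← Nat.mod_add_div l 3, h0, zero_add, pow_mul, hz3, one_pow])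
    refine hzx (l % 3) ?_
    rw [← hl', ← pow_mul]
    conv_rhs => rw [← Nat.mod_add_div (l * (l % 3)) 3, pow_add, pow_mul _ 3, hz3, one_pow, mul_one]
    have h2 : l * (l % 3) % 3 = 1 := by
      rw [Nat.mul_mod, Nat.mod_mod]
      have := Nat.mod_lt l (show 0 < 3 by norm_num)
      interval_cases hh : l % 3 <;> omega
    rw [h2, pow_one]
  have hxbo : orderOf (π xN) = 3 := orderOf_eq_prime (by
    rw [← map_pow]
    convert map_one π
    exact Subtype.ext hx3) hxb1
  have hdvd : 9 ∣ Nat.card (Pb : Subgroup (N ⧸ Z)) := by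
    obtain ⟨k, hk⟩ := IsPGroup.iff_card.1 P.isPGroup'
    obtain ⟨k', hk'⟩ := IsPGroup.iff_card.1 Pb.isPGroup'
    rw [hk'] at hcardPb ⊢
    have hk2 : 2 ≤ k' := by
      by_contra hlt
      have := Nat.pow_le_pow_right (show 0 < 3 by norm_num) (show k' ≤ 1 by omega)
      omega
    exact pow_dvd_pow 3 hk2
  obtain ⟨V, hV⟩ := ih (Nat.card (Pb : Subgroup (N ⧸ Z))) (by omega) Pb (π xN) rfl
    ⟨xN, (hmemPN xN).2 hxP, rfl⟩ hxbo (Nat.le_of_dvd Nat.card_pos hdvd) (fun h9' y hy => by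
      -- the quotient of order nine is elementary
      by_contra hy3
      haveI : IsCyclic (Pb : Subgroup (N ⧸ Z)) := by
        have hd : orderOf (⟨y, hy⟩ : (Pb : Subgroup (N ⧸ Z))) ∣ 3 ^ 2 := by
          have := orderOf_dvd_natCard (⟨y, hy⟩ : (Pb : Subgroup (N ⧸ Z)))
          rwa [h9', show (9 : ℕ) = 3 ^ 2 by rfl] at this
        obtain ⟨k, hk, hk'⟩ := (Nat.dvd_prime_pow Nat.prime_three).1 hd
        have hk2 : k = 2 := by
          by_contra hne
          apply hy3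
          have h3 : (⟨y, hy⟩ : (Pb : Subgroup (N ⧸ Z))) ^ 3 = 1 := orderOf_dvd_iff_pow_eq_one.1 (by
            rw [hk']; exact pow_dvd_pow 3 (show k ≤ 1 by omega))
          exact congrArg Subtype.val h3
        exact isCyclic_of_orderOf_eq_card _ (by rw [hk', hk2, h9']; rfl)
      let f : (PN : Subgroup N) →* (Pb : Subgroup (N ⧸ Z)) :=
        (π.comp (PN : Subgroup N).subtype).codRestrict _ fun p => ⟨p, p.2, rfl⟩
      have hf := f.isMulCommutative_of_isCyclic_of_ker_le_center (fun p hp => by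
        have hpz : (p : N) ∈ Z := (QuotientGroup.eq_one_iff _).1 (congrArg Subtype.val (MonoidHom.mem_ker.1 hp))
        obtain ⟨l, hl⟩ := (mem_subgroupOf.1 hpz : ((p : N) : X) ∈ zpowers z)
        refine mem_center_iff.2 fun q => Subtype.ext (Subtype.ext ?_)
        show ((q : N) : X) * (p : N) = (p : N) * (q : N)
        rw [← hl]
        exact ((hzc _ ((hmemPN q).1 q.2)).zpow_right l).eq)
      have hle : (P : Subgroup X) ≤ centralizer ({x} : Set X) := fun r hr => mem_centralizer_singleton_iff.2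
        (congrArg (fun p : (PN : Subgroup N) => ((p : N) : X))
          (hf.is_comm.comm ⟨⟨r, hPN hr⟩, (hmemPN _).2 hr⟩ ⟨xN, (hmemPN xN).2 hxP⟩))
      have := hC _ hle P.isPGroup'
      omega)
    (fun K hK hKp => by
      set L := (K.comap π).map N.subtype with hL
      have hLp : IsPGroup 3 L := (hKp.comap_of_ker_isPGroup π (by
        rw [hker]; exact IsPGroup.of_card (n := 1) (by rw [hZc, pow_one]))).map _
      have hLc : Nat.card L = 3 * Nat.card K := by
        rw [card_map_of_injective N.subtype_injective]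
        have h1 := (Z.subgroupOf (K.comap π)).card_mul_index
        have hle : Z ≤ K.comap π := fun y hy => by
          rw [mem_comap, show π y = 1 from (QuotientGroup.eq_one_iff y).2 hy]; exact one_mem _
        rw [Nat.card_congr (subgroupOfEquivOfLe hle).toEquiv, hZc] at h1
        rw [← h1]
        congr 1
        have e := relIndex_comap (⊥ : Subgroup (N ⧸ Z)) π (K.comap π)
        rw [MonoidHom.comap_bot, hker, map_comap_eq_self_of_surjective (QuotientGroup.mk'_surjective Z),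
          relIndex_bot_left] at e
        exact e
      have hdisp : ∀ l ∈ L, x⁻¹ * (l * x * l⁻¹) ∈ zpowers z := by
        rintro _ ⟨l, hl, rfl⟩
        have hc : Commute (π l) (π xN) := mem_centralizer_singleton_iff.1 (hK hl)
        have h1 : π (xN⁻¹ * (l * xN * l⁻¹)) = 1 := by
          rw [map_mul, map_mul, map_mul, map_inv, map_inv, hc.eq, mul_inv_cancel_right, inv_mul_cancel]
        exact mem_subgroupOf.1 ((QuotientGroup.eq_one_iff _).1 h1)
      let φ : L → zpowers z := fun l => ⟨_, hdisp l l.2⟩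
      let sec : zpowers z → L := fun w => if hw : ∃ l, φ l = w then hw.choose else 1
      have hsec : ∀ l, φ (sec (φ l)) = φ l := fun l => by
        have hw : ∃ k, φ k = φ l := ⟨l, rfl⟩
        simp only [sec, dif_pos hw]
        exact hw.choose_spec
      have hmem : ∀ l : L, (sec (φ l) : X)⁻¹ * l ∈ L ⊓ centralizer ({x} : Set X) := fun l => by
        refine mem_inf.2 ⟨mul_mem (inv_mem (sec (φ l)).2) l.2, mem_centralizer_singleton_iff.2 ?_⟩
        have e : (sec (φ l) : X) * x * (sec (φ l) : X)⁻¹ = (l : X) * x * (l : X)⁻¹ :=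
          mul_left_cancel (congrArg Subtype.val (hsec l) :)
        set t := (sec (φ l) : X)
        calc t⁻¹ * l * x = t⁻¹ * ((l : X) * x * (l : X)⁻¹) * l := by group
          _ = t⁻¹ * (t * x * t⁻¹) * l := by rw [e]
          _ = x * (t⁻¹ * l) := by group
      let ψ : L → zpowers z × ↥(L ⊓ centralizer ({x} : Set X)) := fun l => (φ l, ⟨_, hmem l⟩)
      have hψ : Function.Injective ψ := by
        intro a b hab
        simp only [ψ, Prod.mk.injEq, Subtype.mk.injEq] at hab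
        obtain ⟨h1, h2⟩ := hab
        rw [h1] at h2
        exact Subtype.ext (mul_left_cancel h2)
      have h1 := Nat.card_le_card_of_injective ψ hψ
      rw [Nat.card_prod, Nat.card_zpowers, hzo, hLc] at h1
      have h2 := hC _ inf_le_right (hLp.to_le (inf_le_left : L ⊓ centralizer ({x} : Set X) ≤ L))
      omega)
    (fun g hg => by
      obtain ⟨m, rfl⟩ := QuotientGroup.mk'_surjective Z g
      have h1 : π (xN * (m * xN * m⁻¹)) = 1 := by
        rw [map_mul, map_mul, map_mul, map_inv, hg, mul_inv_cancel]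
      obtain ⟨l, hl⟩ := mem_powers_iff_mem_zpowers.2 (mem_subgroupOf.1 ((QuotientGroup.eq_one_iff _).1 h1) :
        x * ((m : X) * x * (m : X)⁻¹) ∈ zpowers z)
      have hl' : (m : X) * x * (m : X)⁻¹ = x⁻¹ * z ^ l := by
        rw [show z ^ l = x * ((m : X) * x * (m : X)⁻¹) from hl, inv_mul_cancel_left]
      have hsl : ∀ k : ℕ, s₀ ^ k * x * (s₀ ^ k)⁻¹ = x * z ^ k := by
        intro k
        induction k with
        | zero => simp
        | succ k ihk =>
          calc s₀ ^ (k + 1) * x * (s₀ ^ (k + 1))⁻¹ = s₀ * (s₀ ^ k * x * (s₀ ^ k)⁻¹) * s₀⁻¹ := by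
                rw [pow_succ']; group
            _ = (s₀ * x * s₀⁻¹) * (s₀ * z * s₀⁻¹) ^ k := by rw [ihk, conj_pow]; group
            _ = _ := by rw [hs₀x, hs₀z, mul_assoc, ← pow_succ']
      refine hinv (s₀ ^ l * m) ?_
      calc s₀ ^ l * m * x * (s₀ ^ l * m)⁻¹ = s₀ ^ l * ((m : X) * x * (m : X)⁻¹) * (s₀ ^ l)⁻¹ := by group
        _ = (s₀ ^ l * x * (s₀ ^ l)⁻¹)⁻¹ * (s₀ ^ l * z ^ l * (s₀ ^ l)⁻¹) := by rw [hl']; group
        _ = x⁻¹ := by
            rw [hsl, (((hzc s₀ hs₀P).pow_left l).pow_right l).eq, mul_inv_cancel_right, mul_inv_rev,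
              ((hzc x hxP).pow_right l).inv_inv.symm.eq, inv_mul_cancel_right])
  refine extend_hom ((Nat.prime_three.coprime_iff_not_dvd).2 fun hd => P.not_dvd_index
    (hd.trans (Subgroup.index_dvd_of_le hPN))) (V.comp π) (hPN hxP) hx3 hV fun a ha => ?_
  obtain ⟨m, hm, hmP⟩ := conj_into P hPN (zpowers_le.2 ha : zpowers (a * x * a⁻¹) ≤ N)
    (IsPGroup.of_card (n := 1) (by
      rw [Nat.card_zpowers, show a * x * a⁻¹ = MulAut.conj a x from rfl, MulEquiv.orderOf_eq, hx, pow_one]))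
  have hma : m * a * x * (m * a)⁻¹ ∈ (P : Subgroup X) := by
    rw [show m * a * x * (m * a)⁻¹ = m * (a * x * a⁻¹) * m⁻¹ by group]
    exact hmP _ (mem_zpowers _)
  obtain ⟨k, hk, hke⟩ := hfus (m * a) hma
  have e : (⟨a * x * a⁻¹, ha⟩ : N) = ((⟨m, hm⟩ : N)⁻¹ * ⟨k, hk⟩) * xN * ((⟨m, hm⟩ : N)⁻¹ * ⟨k, hk⟩)⁻¹ :=
    Subtype.ext (by
      show a * x * a⁻¹ = m⁻¹ * k * x * (m⁻¹ * k)⁻¹
      rw [show m⁻¹ * k * x * (m⁻¹ * k)⁻¹ = m⁻¹ * (k * x * k⁻¹) * m by group, hke]
      group)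
  rw [e, map_mul, map_mul, map_inv, mul_comm (V.comp π _), mul_inv_cancel_right]

end Cfsg.Agent.FixityFour.Three
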