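import Mathlib
import Cfsg.Agent.Lib.SmallSimple.Basic
import Cfsg.Agent.Lib.FixityFour.ThreeHom

/-!
# Point stabilisers of odd order divisible by three
-/

set_option autoImplicit false
set_option linter.style.haveILetI false
set_option linter.unusedSectionVars false

namespace Cfsg.Agent.FixityFour.Three

open Subgroup MulAction
open scoped Pointwise

/-- A strongly three-embedded subgroup. -/
def SE3 (G : Type*) [Group G] : Prop :=
  ∃ H : Subgroup G, H ≠ ⊤ ∧ 3 ∣ Nat.card H ∧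
    ∀ g : G, g ∉ H → ¬ 3 ∣ Nat.card ↥(H ⊓ H.map (MulAut.conj g).toMonoidHom)

variable {G Ω : Type*} [Group G] [MulAction G Ω]

/-- The three points of a moved orbit. -/
theorem orbit_three {e : G} (he : e ^ 3 = 1) {F : Set Ω} (hst : e ∈ stabilizer G F) {a : Ω} (ha : a ∈ F)
    (hea : e • a ≠ a) : ∃ O : Set Ω, O ⊆ F ∧ O.Finite ∧ O.ncard = 3 ∧ (∀ y ∈ O, e • y ≠ y) ∧
      (∀ y, e • y ∈ O → y ∈ O) ∧ ∀ y ∈ O, ∀ w ∈ O, ∃ l : ℕ, e ^ l • y = w := by
  have h3 : e • e • e • a = a := by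
    rw [← mul_smul, ← mul_smul, ← pow_two, ← pow_succ, he, one_smul]
  have h1 : e • e • a ≠ e • a := fun h => hea (MulAction.injective e h)
  have h2 : e • e • a ≠ a := fun h => hea (by
    conv_lhs => rw [← h]
    exact h3)
  refine ⟨{a, e • a, e • e • a}, ?_, Set.toFinite _, ?_, ?_, ?_, ?_⟩
  · rintro y (rfl | rfl | rfl)
    exacts [ha, smul_mem_of_mem hst ha, smul_mem_of_mem hst (smul_mem_of_mem hst ha)]
  · rw [Set.ncard_insert_of_notMem (by simp [hea.symm, h2.symm]), Set.ncard_pair h1.symm]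
  · rintro y (rfl | rfl | rfl)
    exacts [hea, h1, fun h => h1 (MulAction.injective e h)]
  · intro y hy
    have hy3 : y = e • e • (e • y) := by
      rw [← mul_smul, ← mul_smul, ← pow_two, ← pow_succ, he, one_smul]
    rcases hy with h | h | h <;> rw [hy3, h] <;> simp [h3]
  · have hm : ∀ y ∈ ({a, e • a, e • e • a} : Set Ω), ∃ i : ℕ, y = e ^ i • a := by
      rintro y (rfl | rfl | rfl)
      exacts [⟨0, by simp⟩, ⟨1, by simp⟩, ⟨2, by rw [pow_two, mul_smul]⟩]
    intro y hy w hw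
    obtain ⟨i, rfl⟩ := hm y hy
    obtain ⟨j, rfl⟩ := hm w hw
    refine ⟨j + 2 * i, ?_⟩
    rw [← mul_smul, ← pow_add, show j + 2 * i + i = j + 3 * i by ring, pow_add, pow_mul, he, one_pow, mul_one]

/-- An element of order three stabilising at most two points fixes them. -/
theorem fix_of_small {e : G} (he : e ^ 3 = 1) {F : Set Ω} (hF : F.Finite) (h2 : F.ncard ≤ 2)
    (hst : e ∈ stabilizer G F) {a : Ω} (ha : a ∈ F) : e • a = a := by
  by_contra hea
  obtain ⟨O, hOF, -, hO3, -⟩ := orbit_three he hst ha hea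
  have := Set.ncard_le_ncard hOF hF
  omega

/-- An element of order three moving a point of a set of at most four points. -/
theorem inter_card {e : G} (he : e ^ 3 = 1) {F : Set Ω} (hF : F.Finite) (h4 : F.ncard ≤ 4)
    (hst : e ∈ stabilizer G F) {a : Ω} (ha : a ∈ F) (hea : e • a ≠ a) :
    (F ∩ fixedBy Ω e).ncard = F.ncard - 3 := by
  obtain ⟨O, hOF, hOf, hO3, hmov, hback, -⟩ := orbit_three he hst ha hea
  have h1 : (F \ O).ncard = F.ncard - 3 := by rw [Set.ncard_diff hOF hOf, hO3]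
  rw [← h1]
  congr 1
  ext y
  refine ⟨fun h => ⟨h.1, fun hy => hmov y hy h.2⟩, fun h => ⟨h.1, ?_⟩⟩
  exact (Set.ncard_le_one (hF.subset Set.diff_subset)).1 (by omega) _
    ⟨smul_mem_of_mem hst h.1, fun hy => h.2 (hback y hy)⟩ y h

/-- Some power of a three-cycle brings back a point of a set of at most four points. -/
theorem exists_return {e : G} (he : e ^ 3 = 1) {F : Set Ω} (hF : F.Finite) (h4 : F.ncard ≤ 4)
    (hst : e ∈ stabilizer G F) {a : Ω} (ha : a ∈ F) (hea : e • a ≠ a) {g : G} (hg : g ∈ stabilizer G F) :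
    ∃ (l : ℕ) (w : Ω), (e ^ l * g) • w = w := by
  obtain ⟨O, hOF, hOf, hO3, -, -, htr⟩ := orbit_three he hst ha hea
  have h1 := Set.ncard_union_add_ncard_inter O (g • O) hOf hOf.smul_set
  have h2 : (g • O).ncard = 3 := by rw [Set.ncard_smul_set]; exact hO3
  have h3 : (O ∪ g • O).ncard ≤ F.ncard :=
    Set.ncard_le_ncard (Set.union_subset hOF (by
      rintro _ ⟨y, hy, rfl⟩
      exact smul_mem_of_mem hg (hOF hy))) hF
  obtain ⟨v, hv, w, hw, rfl⟩ : (O ∩ g • O).Nonempty :=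
    Set.nonempty_of_ncard_ne_zero (by omega)
  obtain ⟨l, hl⟩ := htr _ hv w hw
  exact ⟨l, w, by rw [mul_smul]; exact hl⟩

/-- An element of order three with a partner moving one of its fixed points is not inverted. -/
theorem never_inverted (hodd : ∀ (g : G) (b : Ω), g • b = b → Odd (orderOf g)) {x e : G} (hx : x ^ 3 = 1)
    (hx1 : x ≠ 1) (he : e ^ 3 = 1) (hxe : Commute e x) (hfin : (fixedBy Ω x).Finite)
    (h4 : (fixedBy Ω x).ncard ≤ 4) {a : Ω} (ha : a ∈ fixedBy Ω x) (hea : e • a ≠ a) (c : G) :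
    c * x * c⁻¹ ≠ x⁻¹ := by
  intro hc
  have hcst : c ∈ stabilizer G (fixedBy Ω x) := mem_stab_of_conj rfl (by rw [hc, fix_inv])
  obtain ⟨l, w, hw⟩ := exists_return he hfin h4 (mem_stab_fix hxe) ha hea hcst
  set g := e ^ l * c with hg
  have hgx : g * x * g⁻¹ = x⁻¹ := by
    rw [hg, show e ^ l * c * x * (e ^ l * c)⁻¹ = e ^ l * (c * x * c⁻¹) * (e ^ l)⁻¹ by group, hc,
      ((hxe.pow_left l).inv_right).eq, mul_inv_cancel_right]
  obtain ⟨m, hm⟩ := hodd g w hw
  have h2 : Commute (g ^ 2) x := by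
    refine mul_inv_eq_iff_eq_mul.1 ?_
    calc g ^ 2 * x * (g ^ 2)⁻¹ = g * (g * x * g⁻¹) * g⁻¹ := by rw [pow_two]; group
      _ = (g * x * g⁻¹)⁻¹ := by rw [hgx, ← conj_inv, hgx]
      _ = x := by rw [hgx, inv_inv]
  have hgg : g = (g ^ 2) ^ (m + 1) := by
    rw [← pow_mul, show 2 * (m + 1) = orderOf g + 1 by omega, pow_succ, pow_orderOf_eq_one, one_mul]
  have hc' : Commute g x := hgg ▸ h2.pow_left (m + 1)
  rw [hc'.eq, mul_inv_cancel_right] at hgx
  exact hx1 (by
    calc x = x ^ 3 * (x * x)⁻¹ := by group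
      _ = 1 := by
        rw [hx, one_mul, inv_eq_one]
        exact mul_eq_one_iff_eq_inv.2 hgx)

section finite

variable [Finite G]

/-- The stabiliser of the common fixed set of the elements of order three is strongly three-embedded. -/
theorem se3_of_fix [FaithfulSMul G Ω] [IsPretransitive G Ω] (P : Sylow 3 G) {z : G} {F : Set Ω}
    (hz : z ∈ (P : Subgroup G)) (hzo : orderOf z = 3) (h0 : F.Nonempty) (hPF : (P : Subgroup G) ≤ stabilizer G F)
    (hall : ∀ u ∈ (P : Subgroup G), orderOf u = 3 → fixedBy Ω u = F) : SE3 G := by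
  haveI : Fact (Nat.Prime 3) := ⟨Nat.prime_three⟩
  have hz1 : z ≠ 1 := fun e => by rw [e, orderOf_one] at hzo; omega
  have hfix : ∀ t ∈ stabilizer G F, orderOf t = 3 → fixedBy Ω t = F := by
    intro t ht ht3
    obtain ⟨m, hm, hmP⟩ := conj_into P hPF (zpowers_le.2 ht : zpowers t ≤ stabilizer G F)
      (IsPGroup.of_card (n := 1) (by rw [Nat.card_zpowers, ht3, pow_one]))
    have h1 := hall _ (hmP t (mem_zpowers t))
      (by rw [show m * t * m⁻¹ = MulAut.conj m t from rfl, MulEquiv.orderOf_eq]; exact ht3)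
    rw [fix_conj] at h1
    exact smul_left_cancel m (h1.trans (mem_stabilizer_iff.1 hm).symm)
  refine ⟨stabilizer G F, stab_ne_top h0 (hall z hz hzo ▸ fix_ne_univ hz1), ?_, fun g hg h3 => ?_⟩
  · rw [← hzo]
    have := orderOf_dvd_natCard (⟨z, hPF hz⟩ : stabilizer G F)
    rwa [Subgroup.orderOf_mk] at this
  · obtain ⟨⟨t, ht⟩, ht3⟩ := exists_prime_orderOf_dvd_card' 3 h3
    rw [Subgroup.orderOf_mk] at ht3
    obtain ⟨ht1, y, hy, hyt⟩ := ht
    have hyt' : g * y * g⁻¹ = t := hyt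
    have hy3 : orderOf y = 3 := by
      rw [← ht3, ← hyt', show g * y * g⁻¹ = MulAut.conj g y from rfl, MulEquiv.orderOf_eq]
    exact hg (mem_stab_of_conj (hfix y hy hy3) (by rw [hyt']; exact hfix t ht1 ht3))

/-- The fixed points of an element of order three. -/
theorem card_fix_mod [Finite Ω] {x : G} (hx : orderOf x = 3) :
    Nat.card Ω % 3 = (fixedBy Ω x).ncard % 3 := by
  haveI : Fact (Nat.Prime 3) := ⟨Nat.prime_three⟩
  have h := (IsPGroup.of_card (n := 1) (by rw [Nat.card_zpowers, hx, pow_one]) :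
    IsPGroup 3 (zpowers x)).card_modEq_card_fixedPoints Ω
  have he : fixedPoints (zpowers x) Ω = fixedBy Ω x := by
    ext b
    refine ⟨fun hb => hb ⟨x, mem_zpowers x⟩, fun hb => ?_⟩
    rintro ⟨y, hy⟩
    obtain ⟨k, rfl⟩ := mem_powers_iff_mem_zpowers.2 hy
    exact fix_subset_pow x k hb
  rw [he, Nat.card_coe_set_eq] at h
  exact h

/-- A three-group stabilising two sets which together exceed four points has order at most nine. -/
theorem card_le_nine [Finite Ω] (hfix : ∀ g : G, g ≠ 1 → (fixedBy Ω g).ncard ≤ 4) {R : Subgroup G}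
    (hR : IsPGroup 3 R) {A B : Set Ω} (hA : R ≤ stabilizer G A) (hB : R ≤ stabilizer G B) (hA4 : A.ncard ≤ 4)
    (hB4 : B.ncard ≤ 4) (h5 : 4 < (A ∪ B).ncard) : Nat.card R ≤ 9 := by
  haveI : Fact (Nat.Prime 3) := ⟨Nat.prime_three⟩
  have hk : ∀ k m : ℕ, m ≤ 4 → 3 ^ k ∣ m.factorial → 3 ^ k ≤ 3 := by
    intro k m hm hd
    by_contra h
    have hk2 : 2 ≤ k := by
      by_contra h2
      have := Nat.pow_le_pow_right (show 0 < 3 by norm_num) (show k ≤ 1 by omega)
      omega
    have h9 : 3 ^ 2 ∣ m.factorial := (pow_dvd_pow 3 hk2).trans hd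
    have h24 : m.factorial ∣ Nat.factorial 4 := Nat.factorial_dvd_factorial hm
    exact absurd (h9.trans h24) (by decide)
  obtain ⟨k, hk1, hkd⟩ := image_le (p := 3) R hR hA
  set R₁ := R ⊓ fixingSubgroup G A
  obtain ⟨l, hl1, hld⟩ := image_le (p := 3) R₁ (hR.to_le inf_le_left) (inf_le_left.trans hB)
  have hbot : R₁ ⊓ fixingSubgroup G B = ⊥ := by
    refine (Subgroup.eq_bot_iff_forall _).2 fun g hg => ?_
    by_contra h1
    have hsub : A ∪ B ⊆ fixedBy Ω g := Set.union_subset (mem_fixing.1 hg.1.2) (mem_fixing.1 hg.2)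
    have := (Set.ncard_le_ncard hsub (Set.toFinite _)).trans (hfix g h1)
    omega
  rw [hbot, card_bot, one_mul] at hl1
  have := hk k _ hA4 hkd
  have := hk l _ hB4 hld
  rw [hk1, hl1]
  calc 3 ^ l * 3 ^ k ≤ 3 * 3 := Nat.mul_le_mul (by omega) (by omega)
    _ = 9 := by norm_num

/-- The partition of four points into pairs containing the image of the first one. -/
def v0 : Equiv.Perm (Fin 4) := Equiv.swap 0 1 * Equiv.swap 2 3

/-- The action of an even permutation on the three partitions into pairs. -/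
def chi (σ : Equiv.Perm (Fin 4)) : ZMod 3 := ((σ (v0 (σ.symm 0))).val + 2 : ℕ)

set_option synthInstance.maxSize 512 in
theorem chi_mul : ∀ σ τ : Equiv.Perm (Fin 4), Equiv.Perm.sign σ = 1 → Equiv.Perm.sign τ = 1 →
    chi (σ * τ) = chi σ + chi τ := by decide +kernel

theorem chi_ne : ∀ σ : Equiv.Perm (Fin 4), σ * σ * σ = 1 → σ ≠ 1 → chi σ ≠ 0 := by decide +kernel

theorem chi_one : chi 1 = 0 := by decide +kernel

/-- With stabilisers of odd order, the stabiliser of at most four points moved in a three-cycle maps onto a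
group of order three. -/
theorem exists_psi [Finite Ω] (hodd : ∀ (g : G) (b : Ω), g • b = b → Odd (orderOf g)) {e : G} (he : e ^ 3 = 1)
    {F : Set Ω} (h4 : F.ncard ≤ 4) (hst : e ∈ stabilizer G F) {a : Ω} (ha : a ∈ F) (hea : e • a ≠ a) :
    ∃ ψ : stabilizer G F →* C3, ψ ⟨e, hst⟩ ≠ 1 := by
  classical
  haveI := Fintype.ofFinite F
  obtain ⟨j⟩ : Nonempty (F ↪ Fin 4) := Function.Embedding.nonempty_of_card_le (by
    rw [← Nat.card_eq_fintype_card, Nat.card_coe_set_eq, Fintype.card_fin]; exact h4)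
  set ι : stabilizer G F →* Equiv.Perm (Fin 4) := (Equiv.Perm.viaEmbeddingHom j).comp (permOn F) with hι
  have hpow : ∀ (g : stabilizer G F) (m : ℕ), Odd m → g ^ m = 1 → Equiv.Perm.sign (ι g) = 1 := by
    intro g m hm hgm
    have h1 : Equiv.Perm.sign (ι g) ^ m = 1 := by rw [← map_pow, ← map_pow, hgm, map_one, map_one]
    rcases Int.units_eq_one_or (Equiv.Perm.sign (ι g)) with h | h
    · exact h
    · rw [h, hm.neg_one_pow] at h1; exact absurd h1 (by decide)
  have hes : Equiv.Perm.sign (ι ⟨e, hst⟩) = 1 := hpow _ 3 (by decide) (Subtype.ext he)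
  have heven : ∀ g : stabilizer G F, Equiv.Perm.sign (ι g) = 1 := by
    rintro ⟨g, hg⟩
    obtain ⟨l, w, hw⟩ := exists_return he (Set.toFinite F) h4 hst ha hea hg
    have h1 : Equiv.Perm.sign (ι ((⟨e, hst⟩ : stabilizer G F) ^ l * ⟨g, hg⟩)) = 1 :=
      hpow _ (orderOf (e ^ l * g)) (hodd _ w hw) (Subtype.ext (pow_orderOf_eq_one (e ^ l * g)))
    rw [map_mul, map_mul, map_pow, map_pow, hes, one_pow, one_mul] at h1
    exact h1
  refine ⟨{ toFun := fun g => Multiplicative.ofAdd (chi (ι g))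
            map_one' := by rw [map_one, chi_one, ofAdd_zero]
            map_mul' := fun g h => by rw [map_mul, chi_mul _ _ (heven g) (heven h), ofAdd_add] }, ?_⟩
  intro h
  have h' : chi (ι ⟨e, hst⟩) = 0 := Multiplicative.ofAdd.injective (h.trans ofAdd_zero.symm)
  refine chi_ne _ ?_ ?_ h'
  · rw [← map_mul, ← map_mul, show (⟨e, hst⟩ : stabilizer G F) * ⟨e, hst⟩ * ⟨e, hst⟩ = 1 from
      Subtype.ext (show e * e * e = 1 by rw [← pow_two, ← pow_succ, he]), map_one]
  · intro h1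
    have h2 : permOn F ⟨e, hst⟩ = 1 := Equiv.Perm.viaEmbeddingHom_injective j (by rw [map_one]; exact h1)
    exact hea (mem_fixing.1 ((permOn_eq_one hst).1 h2) a ha)

/-- With a Sylow subgroup of order three its two-normaliser moves the fixed points freely. -/
theorem three_small [Finite Ω] (hfix : ∀ g : G, g ≠ 1 → (fixedBy Ω g).ncard ≤ 4)
    (hodd : ∀ (g : G) (b : Ω), g • b = b → Odd (orderOf g))
    (hx : ∃ x : G, orderOf x = 3 ∧ (fixedBy Ω x).Nonempty) (P : Sylow 3 G)
    (h3 : Nat.card (P : Subgroup G) = 3) (T : Sylow 2 (normalizer ((P : Subgroup G) : Set G))) :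
    Nat.card (T : Subgroup (normalizer ((P : Subgroup G) : Set G))) ≤ 4 := by
  haveI : Fact (Nat.Prime 3) := ⟨Nat.prime_three⟩
  haveI : Fact (Nat.Prime 2) := ⟨Nat.prime_two⟩
  obtain ⟨x, hxo, b, hb⟩ := hx
  obtain ⟨m, -, hm⟩ := conj_into P (M := ⊤) le_top (le_top : zpowers x ≤ ⊤)
    (IsPGroup.of_card (n := 1) (by rw [Nat.card_zpowers, hxo, pow_one]))
  set y := m * x * m⁻¹ with hy
  have hyo : orderOf y = 3 := by rw [hy, show m * x * m⁻¹ = MulAut.conj m x from rfl, MulEquiv.orderOf_eq, hxo]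
  have hP : (P : Subgroup G) = zpowers y := (eq_of_le_of_card_ge (zpowers_le.2 (hm x (mem_zpowers x)))
    (by rw [Nat.card_zpowers, hyo, h3])).symm
  have hmb : m • b ∈ fixedBy Ω y := by
    show (m * x * m⁻¹) • m • b = m • b
    rw [mul_smul, inv_smul_smul, mul_smul, show x • b = b from hb]
  clear_value y
  rw [← card_map_of_injective (f := (normalizer ((P : Subgroup G) : Set G)).subtype)
    (K := (T : Subgroup _)) (Subgroup.subtype_injective _)]
  refine (card_le_of_free (B := fixedBy Ω y) (Set.toFinite _) _ (a := m • b) ?_ ?_).trans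
    (hfix y (fun e => by rw [e, orderOf_one] at hyo; omega))
  · rintro _ ⟨⟨t, ht⟩, -, rfl⟩
    have h1 : t⁻¹ * y * t ∈ zpowers y := by
      rw [← hP]
      have := (mem_normalizer_iff.1 (inv_mem ht) y).1 (by rw [hP]; exact mem_zpowers y)
      rwa [inv_inv] at this
    obtain ⟨k, hk⟩ := mem_powers_iff_mem_zpowers.2 h1
    show y • t • m • b = t • m • b
    calc y • t • m • b = t • (t⁻¹ * y * t) • m • b := by rw [mul_smul, mul_smul, smul_inv_smul]
      _ = t • m • b := by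
        rw [show t⁻¹ * y * t = y ^ k from hk.symm, show y ^ k • m • b = m • b from fix_subset_pow y k hmb]
  · rintro _ ⟨⟨t, ht⟩, hT, rfl⟩ htb
    obtain ⟨k, hk⟩ := IsPGroup.iff_orderOf.1 T.isPGroup' ⟨⟨t, ht⟩, hT⟩
    rw [Subgroup.orderOf_mk, Subgroup.orderOf_mk] at hk
    have hto := hodd t (m • b) htb
    rw [hk] at hto
    cases k with
    | zero => exact orderOf_eq_one_iff.1 (by show orderOf t = 1; rw [hk, pow_zero])
    | succ k => exact absurd hto (Nat.not_odd_iff_even.2 ⟨2 ^ k, by rw [pow_succ, mul_two]⟩)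

section simple

variable [IsSimpleGroup G] [Finite Ω] [FaithfulSMul G Ω] [IsPretransitive G Ω]

/-- All maximally fixing elements of order three in a Sylow subgroup fix the same points. -/
theorem no_pairs (hna : ¬ IsMulCommutative G) (hodd : ∀ (g : G) (b : Ω), g • b = b → Odd (orderOf g))
    (P : Sylow 3 G) {z : G} {F : Set Ω} (hzP : z ∈ (P : Subgroup G)) (hzo : orderOf z = 3)
    (hzc : ∀ r ∈ (P : Subgroup G), Commute r z) (hzF : fixedBy Ω z = F) (h0 : F.Nonempty) (h4 : F.ncard ≤ 4)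
    (hmax : ∀ y : G, orderOf y = 3 → (fixedBy Ω y).ncard ≤ F.ncard)
    (hall : ∀ y ∈ (P : Subgroup G), orderOf y = 3 → (fixedBy Ω y).ncard = F.ncard → fixedBy Ω y = F) :
    SE3 G := by
  haveI : Fact (Nat.Prime 3) := ⟨Nat.prime_three⟩
  have hPM : (P : Subgroup G) ≤ stabilizer G F := fun r hr => hzF ▸ mem_stab_fix (hzc r hr)
  by_cases hker : ∀ u ∈ (P : Subgroup G), orderOf u = 3 → ∀ a ∈ F, u • a = a
  · exact se3_of_fix P hzP hzo h0 hPM fun u hu huo =>
      (Set.eq_of_subset_of_ncard_le (hker u hu huo) (hmax u huo) (Set.toFinite _)).symm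
  exfalso
  push Not at hker
  obtain ⟨u, huP, huo, a, haF, hua⟩ := hker
  have hu3 : u ^ 3 = 1 := by rw [← huo]; exact pow_orderOf_eq_one u
  obtain ⟨ψ, hψ⟩ := exists_psi hodd hu3 h4 (hPM huP) haF hua
  have hco : ∀ (g : G) {y : G}, orderOf y = 3 → orderOf (g * y * g⁻¹) = 3 := fun g y hy => by
    rw [show g * y * g⁻¹ = MulAut.conj g y from rfl, MulEquiv.orderOf_eq, hy]
  have hcn : ∀ g y : G, (fixedBy Ω (g * y * g⁻¹)).ncard = (fixedBy Ω y).ncard := fun g y => by
    rw [fix_conj, Set.ncard_smul_set]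
  -- in every three-group the maximally fixing elements share their fixed points
  have share : ∀ (Q : Subgroup G), IsPGroup 3 Q → ∀ y ∈ Q, ∀ w ∈ Q, orderOf y = 3 → orderOf w = 3 →
      (fixedBy Ω y).ncard = F.ncard → (fixedBy Ω w).ncard = F.ncard → fixedBy Ω y = fixedBy Ω w := by
    intro Q hQ y hy w hw hyo hwo hyF hwF
    obtain ⟨m, -, hm⟩ := conj_into P (M := ⊤) le_top (le_top : Q ≤ ⊤) hQ
    have h1 := hall _ (hm y hy) (hco m hyo) (by rw [hcn]; exact hyF)
    have h2 := hall _ (hm w hw) (hco m hwo) (by rw [hcn]; exact hwF)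
    rw [fix_conj] at h1 h2
    exact smul_left_cancel m (h1.trans h2.symm)
  have hfus : ∀ g : G, g * u * g⁻¹ ∈ (P : Subgroup G) →
      ∃ k ∈ stabilizer G F, k * u * k⁻¹ = g * u * g⁻¹ := by
    intro g hgP
    set v := g * u * g⁻¹ with hv
    set C := centralizer ({v} : Set G)
    have hzC : z ∈ C := mem_centralizer_singleton_iff.2 (hzc v hgP).symm.eq
    have hz'C : g * z * g⁻¹ ∈ C := mem_centralizer_singleton_iff.2 (by
      rw [hv, show g * z * g⁻¹ * (g * u * g⁻¹) = g * (z * u) * g⁻¹ by group, ← (hzc u huP).eq]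
      group)
    have hp : ∀ {x : G} (hx : x ∈ C), orderOf x = 3 → IsPGroup 3 (zpowers (⟨x, hx⟩ : C)) := fun hx h3 =>
      IsPGroup.of_card (n := 1) (by rw [Nat.card_zpowers, Subgroup.orderOf_mk, h3, pow_one])
    obtain ⟨Q, hQ⟩ := (hp hzC hzo).exists_le_sylow
    obtain ⟨c, -, hc⟩ := conj_into Q (M := ⊤) le_top (le_top : zpowers (⟨_, hz'C⟩ : C) ≤ ⊤)
      (hp hz'C (hco g hzo))
    have h1 : (c : G) * (g * z * g⁻¹) * (c : G)⁻¹ ∈ (Q : Subgroup C).map C.subtype :=
      ⟨_, hc _ (mem_zpowers _), rfl⟩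
    have h2 : z ∈ (Q : Subgroup C).map C.subtype := ⟨_, hQ (mem_zpowers _), rfl⟩
    have h3 := share _ (Q.isPGroup'.map C.subtype) z h2 _ h1 hzo (hco _ (hco _ hzo)) (by rw [hzF])
      (by rw [hcn, hcn, hzF])
    refine ⟨(c : G) * g, mem_stab_of_conj hzF ?_, ?_⟩
    · rw [show (c : G) * g * z * ((c : G) * g)⁻¹ = c * (g * z * g⁻¹) * (c : G)⁻¹ by group, ← h3, hzF]
    · have hcv : Commute (c : G) v := mem_centralizer_singleton_iff.1 c.2
      rw [show (c : G) * g * u * ((c : G) * g)⁻¹ = c * v * (c : G)⁻¹ by rw [hv]; group, hcv.eq,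
        mul_inv_cancel_right]
  obtain ⟨V, hV⟩ := extend_hom ((Nat.prime_three.coprime_iff_not_dvd).2 fun hd => P.not_dvd_index
    (hd.trans (Subgroup.index_dvd_of_le hPM))) ψ (hPM huP) hu3 hψ fun b hb => by
      obtain ⟨m, hm, hmP⟩ := conj_into P hPM (zpowers_le.2 hb : zpowers (b * u * b⁻¹) ≤ stabilizer G F)
        (IsPGroup.of_card (n := 1) (by rw [Nat.card_zpowers, hco b huo, pow_one]))
      have hmb : m * b * u * (m * b)⁻¹ ∈ (P : Subgroup G) := by
        rw [show m * b * u * (m * b)⁻¹ = m * (b * u * b⁻¹) * m⁻¹ by group]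
        exact hmP _ (mem_zpowers _)
      obtain ⟨k, hk, hke⟩ := hfus (m * b) hmb
      have e : (⟨b * u * b⁻¹, hb⟩ : stabilizer G F) =
          ((⟨m, hm⟩ : stabilizer G F)⁻¹ * ⟨k, hk⟩) * ⟨u, hPM huP⟩ * ((⟨m, hm⟩ : stabilizer G F)⁻¹ * ⟨k, hk⟩)⁻¹ :=
        Subtype.ext (by
          show b * u * b⁻¹ = m⁻¹ * k * u * (m⁻¹ * k)⁻¹
          rw [show m⁻¹ * k * u * (m⁻¹ * k)⁻¹ = m⁻¹ * (k * u * k⁻¹) * m by group, hke]
          group)
      rw [e, map_mul, map_mul, map_inv, mul_comm (ψ _), mul_inv_cancel_right]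
  exact hV (SmallSimple.Basic.hom_eq_one hna V u)

/-- With stabilisers of odd order divisible by three and larger Sylow three-subgroups. -/
theorem three_case (hna : ¬ IsMulCommutative G) (hfix : ∀ g : G, g ≠ 1 → (fixedBy Ω g).ncard ≤ 4)
    (hodd : ∀ (g : G) (b : Ω), g • b = b → Odd (orderOf g))
    (hx : ∃ x : G, orderOf x = 3 ∧ (fixedBy Ω x).Nonempty) (P : Sylow 3 G) :
    SE3 G ∨ (Nat.card (P : Subgroup G) = 9 ∧ ∀ y ∈ (P : Subgroup G), y ^ 3 = 1) := by
  classical
  haveI : Fact (Nat.Prime 3) := ⟨Nat.prime_three⟩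
  have h3 : ∀ {y : G}, orderOf y = 3 → y ^ 3 = 1 := fun hy => by rw [← hy]; exact pow_orderOf_eq_one _
  have hne : ∀ {y : G}, orderOf y = 3 → y ≠ 1 := fun hy e => by rw [e, orderOf_one] at hy; omega
  have hco : ∀ (g : G) {y : G}, orderOf y = 3 → orderOf (g * y * g⁻¹) = 3 := fun g y hy => by
    rw [show g * y * g⁻¹ = MulAut.conj g y from rfl, MulEquiv.orderOf_eq, hy]
  by_cases hbig : ∃ x : G, orderOf x = 3 ∧ 3 ≤ (fixedBy Ω x).ncard
  swap
  · -- all elements of order three fix the same small number of points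
    push Not at hbig
    obtain ⟨x, hxo, hxne⟩ := hx
    have hP1 : (P : Subgroup G) ≠ ⊥ := SmallSimple.Basic.sylow_ne_bot (hxo ▸ orderOf_dvd_natCard x) P
    obtain ⟨z, hzP, hzo, hzc⟩ := exists_central P.isPGroup' le_rfl
      (fun r hr y hy => mul_mem (mul_mem hr hy) (inv_mem hr)) hP1
    have heq : ∀ y : G, orderOf y = 3 → (fixedBy Ω y).ncard = (fixedBy Ω x).ncard := fun y hy => by
      have h1 := card_fix_mod (Ω := Ω) hy
      have h2 := card_fix_mod (Ω := Ω) hxo
      have := hbig y hy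
      have := hbig x hxo
      omega
    have hzne : (fixedBy Ω z).Nonempty := Set.nonempty_of_ncard_ne_zero (by
      rw [heq z hzo]; exact ((Set.ncard_pos (Set.toFinite _)).2 hxne).ne')
    refine Or.inl (se3_of_fix P hzP hzo hzne (fun r hr => mem_stab_fix (hzc r hr)) fun u hu huo => ?_)
    refine (Set.eq_of_subset_of_ncard_le (fun b hb => ?_) (by rw [heq u huo, heq z hzo]) (Set.toFinite _)).symm
    exact fix_of_small (h3 huo) (Set.toFinite _) (by have := hbig z hzo; omega) (mem_stab_fix (hzc u hu)) hb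
  obtain ⟨x₀, hx₀, hx₀3⟩ := hbig
  set F := fixedBy Ω x₀ with hFdef
  have hF4 : F.ncard ≤ 4 := hfix x₀ (hne hx₀)
  have hF0 : F.Nonempty := Set.nonempty_of_ncard_ne_zero (by omega)
  have hval : ∀ y : G, orderOf y = 3 → (fixedBy Ω y).ncard ≤ F.ncard := fun y hy => by
    have h1 := card_fix_mod (Ω := Ω) hy
    have h2 := card_fix_mod (Ω := Ω) hx₀
    have := hfix y (hne hy)
    rw [← hFdef] at h2
    omega
  set M := stabilizer G F with hM
  have hx₀M : x₀ ∈ M := mem_stab_fix (Commute.refl x₀)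
  -- a Sylow subgroup of the stabiliser, extended to one of `G`
  obtain ⟨P₀, hP₀⟩ : ∃ P₀ : Sylow 3 M, zpowers (⟨x₀, hx₀M⟩ : M) ≤ (P₀ : Subgroup M) :=
    (IsPGroup.of_card (n := 1) (by rw [Nat.card_zpowers, Subgroup.orderOf_mk, hx₀, pow_one]) :
      IsPGroup 3 (zpowers (⟨x₀, hx₀M⟩ : M))).exists_le_sylow
  obtain ⟨S, hS⟩ := (P₀.isPGroup'.map M.subtype).exists_le_sylow
  set R := (S : Subgroup G) ⊓ M with hR
  have hRmax : ∀ Q : Subgroup G, Q ≤ M → IsPGroup 3 Q → Nat.card Q ≤ Nat.card R := by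
    intro Q hQM hQ
    obtain ⟨m, -, hm⟩ := conj_into P₀ (M := ⊤) le_top (le_top : Q.subgroupOf M ≤ ⊤)
      (hQ.comap_of_injective M.subtype M.subtype_injective)
    rw [← Nat.card_congr (subgroupOfEquivOfLe hQM).toEquiv,
      ← card_map_of_injective (K := Q.subgroupOf M) (f := (MulAut.conj m).toMonoidHom) (MulAut.conj m).injective]
    refine (card_le_of_le (show _ ≤ (P₀ : Subgroup M) from ?_)).trans ?_
    · rintro _ ⟨y, hy, rfl⟩
      exact hm y hy
    · rw [← card_map_of_injective (f := M.subtype) (K := (P₀ : Subgroup M)) M.subtype_injective]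
      exact card_le_of_le (le_inf hS (map_subtype_le _))
  have hx₀R : x₀ ∈ R ⊓ fixingSubgroup G F :=
    mem_inf.2 ⟨mem_inf.2 ⟨hS ⟨_, hP₀ (mem_zpowers _), rfl⟩, hx₀M⟩, mem_fixing.2 fun a ha => ha⟩
  obtain ⟨d, hd, hdo, hdc⟩ := exists_central (S.isPGroup'.to_le (inf_le_left : R ≤ _))
    (inf_le_left : R ⊓ fixingSubgroup G F ≤ R) (fun r hr x hx => by
      refine mem_inf.2 ⟨mul_mem (mul_mem hr (mem_inf.1 hx).1) (inv_mem hr), mem_fixing.2 fun a ha => ?_⟩
      rw [mul_smul, mul_smul, mem_fixing.1 (mem_inf.1 hx).2 _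
        (smul_mem_of_mem (inv_mem (mem_inf.1 hr).2) ha), smul_inv_smul])
    (fun h => hne hx₀ (by rwa [h, mem_bot] at hx₀R))
  have hdF : fixedBy Ω d = F :=
    (Set.eq_of_subset_of_ncard_le (mem_fixing.1 (mem_inf.1 hd).2) (hval d hdo) (Set.toFinite _)).symm
  have hdS : d ∈ (S : Subgroup G) := (mem_inf.1 (mem_inf.1 hd).1).1
  -- a second element with another fixed set
  have hpair : SE3 G ∨ ∃ e ∈ R, orderOf e = 3 ∧ (fixedBy Ω e).ncard = F.ncard ∧ fixedBy Ω e ≠ F ∧
      (R ≠ (S : Subgroup G) → ∀ r ∈ R, Commute r e) := by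
    by_cases hRS : R = (S : Subgroup G)
    · by_cases hall : ∀ y ∈ (S : Subgroup G), orderOf y = 3 → (fixedBy Ω y).ncard = F.ncard → fixedBy Ω y = F
      · exact Or.inl (no_pairs hna hodd S hdS hdo (fun r hr => hdc r (hRS.ge hr)) hdF hF0 hF4
          hval hall)
      · push Not at hall
        obtain ⟨e, heS, heo, heF, hene⟩ := hall
        exact Or.inr ⟨e, by rw [hRS]; exact heS, heo, heF, hene, fun h => absurd hRS h⟩
    · obtain ⟨g, hgS, hgR, hgn, hgn'⟩ := exists_normalizing S.isPGroup' (inf_le_left : R ≤ _) hRS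
      refine Or.inr ⟨g * d * g⁻¹, hgn d (mem_inf.1 hd).1, hco g hdo,
        by rw [fix_conj, Set.ncard_smul_set, hdF], fun h => hgR (mem_inf.2 ⟨hgS, mem_stab_of_conj hdF h⟩),
        fun _ r hr => ?_⟩
      have := (hdc _ (hgn' r hr)).map (MulAut.conj g).toMonoidHom
      simpa [mul_assoc] using this
  obtain hse | ⟨e, heR, heo, heF, hene, hec⟩ := hpair
  · exact Or.inl hse
  right
  have hde : Commute e d := hdc e heR
  obtain ⟨a, haF, hea⟩ : ∃ a ∈ F, e • a ≠ a := by
    by_contra h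
    push Not at h
    exact hene (Set.eq_of_subset_of_ncard_le h heF.le (Set.toFinite _)).symm
  have hinter := inter_card (h3 heo) (Set.toFinite F) hF4 (mem_inf.1 heR).2 haF hea
  have hunion : 4 < (F ∪ fixedBy Ω e).ncard := by
    have := Set.ncard_union_add_ncard_inter F (fixedBy Ω e) (Set.toFinite _) (Set.toFinite _)
    omega
  have hnine : ∀ Q : Subgroup G, IsPGroup 3 Q → (∀ q ∈ Q, Commute q d) → (∀ q ∈ Q, Commute q e) →
      Nat.card Q ≤ 9 := fun Q hQ hqd hqe =>
    card_le_nine hfix hQ (fun q hq => hdF ▸ mem_stab_fix (hqd q hq)) (fun q hq => mem_stab_fix (hqe q hq))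
      hF4 (by rw [heF]; exact hF4) hunion
  have hindep : ∀ i : ℕ, e ≠ d ^ i := fun i h => hea (by
    rw [h]; exact fix_subset_pow d i (hdF.symm ▸ haF))
  have hindep' : ∀ i : ℕ, d ≠ e ^ i := fun i h => hene
    (Set.eq_of_subset_of_ncard_le (by rw [← hdF, h]; exact fix_subset_pow e i) heF.ge (Set.toFinite _))
  obtain ⟨E, hE9, hdE, heE, hEp, hEm⟩ := exists_nine (h3 hdo) (h3 heo) hde.symm (hne hdo) hindep
  have heS : e ∈ (S : Subgroup G) := (mem_inf.1 heR).1
  have hES : E ≤ (S : Subgroup G) := fun y hy => by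
    obtain ⟨i, j, rfl⟩ := hEm y hy
    exact mul_mem (pow_mem hdS _) (pow_mem heS _)
  rcases eq_or_lt_of_le (hE9 ▸ card_le_of_le hES : 9 ≤ Nat.card (S : Subgroup G)) with h9 | h27
  · refine ⟨by rw [Sylow.card_eq_multiplicity, ← Sylow.card_eq_multiplicity S]; exact h9.symm, fun y hy => ?_⟩
    obtain ⟨m, -, hm⟩ := conj_into S (M := ⊤) le_top (le_top : (P : Subgroup G) ≤ ⊤) P.isPGroup'
    have hSE : E = (S : Subgroup G) := eq_of_le_of_card_ge hES (by rw [hE9, ← h9])
    obtain ⟨i, j, hij⟩ := hEm _ (hSE.symm ▸ hm y hy)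
    have h1 : (m * y * m⁻¹) ^ 3 = 1 := by
      rw [hij, (hde.symm.pow_pow (i : ℕ) (j : ℕ)).mul_pow, pow_right_comm d, h3 hdo, one_pow, one_mul,
        pow_right_comm e, h3 heo, one_pow]
    rw [conj_pow] at h1
    exact conj_eq_one_iff.1 h1
  exfalso
  obtain ⟨x, hxS, hxo, hinv, hC⟩ : ∃ x ∈ (S : Subgroup G), orderOf x = 3 ∧ (∀ g : G, g * x * g⁻¹ ≠ x⁻¹) ∧
      ∀ K : Subgroup G, K ≤ centralizer ({x} : Set G) → IsPGroup 3 K → Nat.card K ≤ 9 := by
    by_cases hRS : R = (S : Subgroup G)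
    · -- `d` is central in the Sylow subgroup: use `e`
      have hNI : ∀ g : G, g * e * g⁻¹ ≠ e⁻¹ := by
        obtain ⟨b, hb, hdb⟩ : ∃ b ∈ fixedBy Ω e, d • b ≠ b := by
          by_contra h
          push Not at h
          exact hene (Set.eq_of_subset_of_ncard_le
            (fun b hb => hdF ▸ (h b hb : b ∈ fixedBy Ω d)) heF.ge (Set.toFinite _))
        exact never_inverted hodd (h3 heo) (hne heo) (h3 hdo) hde.symm (Set.toFinite _)
          (hfix e (hne heo)) hb hdb
      refine ⟨e, heS, heo, hNI, fun K hK hKp => ?_⟩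
      set C := centralizer ({e} : Set G)
      have hEC : E ≤ C := fun y hy => by
        obtain ⟨i, j, rfl⟩ := hEm y hy
        exact mem_centralizer_singleton_iff.2
          ((hde.symm.pow_left _).mul_left ((Commute.refl e).pow_left _)).eq
      obtain ⟨Q, hQ⟩ := (hEp.comap_of_injective C.subtype C.subtype_injective :
        IsPGroup 3 (E.subgroupOf C)).exists_le_sylow
      set Q' := (Q : Subgroup C).map C.subtype with hQ'
      have hEQ : E ≤ Q' := fun y hy => mem_map.2 ⟨⟨y, hEC hy⟩, hQ hy, rfl⟩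
      have hKQ : Nat.card K ≤ Nat.card Q' := by
        obtain ⟨m, -, hm⟩ := conj_into Q (M := ⊤) le_top (le_top : K.subgroupOf C ≤ ⊤)
          (hKp.comap_of_injective C.subtype C.subtype_injective)
        rw [← Nat.card_congr (subgroupOfEquivOfLe hK).toEquiv,
          ← card_map_of_injective (K := K.subgroupOf C) (f := (MulAut.conj m).toMonoidHom) (MulAut.conj m).injective,
          hQ', card_map_of_injective C.subtype_injective]
        exact card_le_of_le (by rintro _ ⟨y, hy, rfl⟩; exact hm y hy)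
      by_contra hK9
      have hQp : IsPGroup 3 Q' := Q.isPGroup'.map _
      have hQne : E ≠ Q' := fun h => by rw [← h, hE9] at hKQ; omega
      have hSne : E ≠ (S : Subgroup G) := fun h => by rw [← h, hE9] at h27; omega
      have hQe : ∀ q ∈ Q', Commute q e := fun q hq => mem_centralizer_singleton_iff.1 (map_subtype_le _ hq)
      have hSd : ∀ q ∈ (S : Subgroup G), Commute q d := fun q hq => hdc q (hRS.ge hq)
      have hclosed : ∀ (T : Subgroup G), IsPGroup 3 T → E ≤ T → (∀ q ∈ T, Commute q d) →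
          (∀ q ∈ T, Commute q e) → E = T := fun T hT hET hTd hTe =>
        eq_of_le_of_card_ge hET (by rw [hE9]; exact hnine T hT hTd hTe)
      obtain ⟨r, hrQ, hrE, hrn, -⟩ := exists_normalizing hQp hEQ hQne
      obtain ⟨s, hsS, hsE, hsn, -⟩ := exists_normalizing S.isPGroup' hES hSne
      have hrd : ¬ Commute r d := fun h => hrE (by
        rw [hclosed (Q' ⊓ centralizer ({d} : Set G)) (hQp.to_le inf_le_left) (fun y hy => mem_inf.2 ⟨hEQ hy,
            mem_centralizer_singleton_iff.2 (hSd y (hES hy)).eq⟩)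
          (fun q hq => mem_centralizer_singleton_iff.1 (mem_inf.1 hq).2) fun q hq => hQe q (mem_inf.1 hq).1]
        exact mem_inf.2 ⟨hrQ, mem_centralizer_singleton_iff.2 h.eq⟩)
      have hse : ¬ Commute s e := fun h => hsE (by
        rw [hclosed ((S : Subgroup G) ⊓ C) (S.isPGroup'.to_le inf_le_left) (le_inf hES hEC)
          (fun q hq => hSd q (mem_inf.1 hq).1) fun q hq => mem_centralizer_singleton_iff.1 (mem_inf.1 hq).2]
        exact mem_inf.2 ⟨hsS, mem_centralizer_singleton_iff.2 h.eq⟩)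
      have hre : r * e * r⁻¹ = e := by rw [(hQe r hrQ).eq, mul_inv_cancel_right]
      have hsd : s * d * s⁻¹ = d := by rw [(hSd s hsS).eq, mul_inv_cancel_right]
      obtain ⟨i, j, hij⟩ := hEm _ (hrn d hdE)
      obtain ⟨i', j', hij'⟩ := hEm _ (hsn e heE)
      rw [(hde.symm.pow_pow (i' : ℕ) (j' : ℕ)).eq] at hij'
      obtain ⟨k, hk⟩ := hQp ⟨r, hrQ⟩
      obtain ⟨l, hl⟩ := S.isPGroup' ⟨s, hsS⟩
      obtain ⟨mr, hr1, hr2⟩ := shear_of_normalizes (congrArg Subtype.val hk) (h3 hdo) (h3 heo) hde.symm (hne hdo)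
        hindep hre hij hrd
      obtain ⟨ms, hs1, hs2⟩ := shear_of_normalizes (congrArg Subtype.val hl) (h3 heo) (h3 hdo) hde (hne heo)
        hindep' hsd hij' hse
      obtain ⟨t, -, ht⟩ := inv_of_shears hr1 hr2 hs1 hs2 hde.symm
      exact hNI t ht
    · refine ⟨d, hdS, hdo, fun g => never_inverted hodd (h3 hdo) (hne hdo) (h3 heo) hde (Set.toFinite _)
        (hdF ▸ hF4) (hdF.symm ▸ haF) hea g, fun K hK hKp => ?_⟩
      refine (hRmax K (fun k hk => ?_) hKp).trans ?_
      · have h1 : Commute k d := mem_centralizer_singleton_iff.1 (hK hk)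
        have := mem_stab_fix (Ω := Ω) h1
        rwa [hdF] at this
      exact hnine R (S.isPGroup'.to_le inf_le_left) hdc (hec hRS)
  obtain ⟨V, hV⟩ := exists_hom _ S x rfl hxS hxo h27.le (fun h => absurd h h27.ne') hC hinv
  exact hV (SmallSimple.Basic.hom_eq_one hna V x)

end simple

end finite

end Cfsg.Agent.FixityFour.Three
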